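import Cfsg.Agent.Lib.LFourThree.Basic

/-!
# The action of `SL(2,3)` on `Q / Z` extends to the matrix algebra
-/

set_option autoImplicit false
set_option linter.unusedSectionVars false
set_option linter.style.haveILetI false

namespace Cfsg.Lib.LFourThree

open Subgroup Cfsg.Lib.PSpThree Matrix

/-- The matrices of degree two over the field of three elements. -/
abbrev M2 : Type := Matrix (Fin 2) (Fin 2) (ZMod 3)

/-- A quaternion of order four. -/
def qi : SL23 := ⟨!![0, -1; 1, 0], by decide⟩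

/-- A second one. -/
def qj : SL23 := ⟨!![1, 1; 1, -1], by decide⟩

/-- The upper unipotent element. -/
def uU : SL23 := ⟨!![1, 1; 0, 1], by decide⟩

/-- The coordinates of a matrix in the quaternion basis. -/
def qc (M : M2) : ZMod 3 × ZMod 3 × ZMod 3 × ZMod 3 :=
  (2 * (M 0 0 + M 1 1), 2 * (M 1 0 - M 0 1), M 1 0 + M 0 1 + M 0 0 - M 1 1, M 1 0 + M 0 1 - M 0 0 + M 1 1)

/-- The product in coordinates. -/
def qm (a b : ZMod 3 × ZMod 3 × ZMod 3 × ZMod 3) : ZMod 3 × ZMod 3 × ZMod 3 × ZMod 3 :=
  let (a0, a1, a2, a3) := a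
  let (b0, b1, b2, b3) := b
  (a0 * b0 - a1 * b1 - a2 * b2 - a3 * b3, a0 * b1 + a1 * b0 + a2 * b3 - a3 * b2,
    a0 * b2 - a1 * b3 + a2 * b0 + a3 * b1, a0 * b3 + a1 * b2 - a2 * b1 + a3 * b0)

theorem qc_mul_aux : ∀ a b c d a' b' c' d' : ZMod 3,
    qc !![a * a' + b * c', a * b' + b * d'; c * a' + d * c', c * b' + d * d'] =
      qm (qc !![a, b; c, d]) (qc !![a', b'; c', d']) := by
  decide +kernel

theorem qc_mul (M N : M2) : qc (M * N) = qm (qc M) (qc N) := by
  rw [eta_fin_two M, eta_fin_two N, mul_fin_two]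
  exact qc_mul_aux _ _ _ _ _ _ _ _

theorem qc_adjugate : ∀ a b c d : ZMod 3, qc !![d, -b; -c, a] =
    ((qc !![a, b; c, d]).1, -(qc !![a, b; c, d]).2.1, -(qc !![a, b; c, d]).2.2.1, -(qc !![a, b; c, d]).2.2.2) := by
  decide +kernel

namespace Data

variable {G : Type*} [Group G] (D : Data G)

theorem rho_apply_rho (A B : SL23) (w : D.W) : D.rho A (D.rho B w) = D.rho (A * B) w := by
  rw [map_mul, Module.End.mul_apply]

/-- The extension to the matrix algebra, as a function. -/
noncomputable def psiFun (M : M2) : Module.End (ZMod 3) D.W :=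
  (qc M).1 • 1 + (qc M).2.1 • D.rho qi + (qc M).2.2.1 • D.rho qj + (qc M).2.2.2 • (D.rho qi * D.rho qj)

theorem q_rels : D.rho qi * D.rho qi = -1 ∧ D.rho qj * D.rho qj = -1 ∧
    D.rho qj * D.rho qi = -(D.rho qi * D.rho qj) := by
  refine ⟨?_, ?_, ?_⟩
  · rw [← map_mul, show qi * qi = -1 by decide +kernel, D.rho_neg_one]
  · rw [← map_mul, show qj * qj = -1 by decide +kernel, D.rho_neg_one]
  · rw [← map_mul, show qj * qi = -1 * (qi * qj) by decide +kernel, map_mul, D.rho_neg_one, map_mul, neg_one_mul]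

theorem psiFun_mul (M N : M2) : D.psiFun (M * N) = D.psiFun M * D.psiFun N := by
  obtain ⟨hii, hjj, hji⟩ := D.q_rels
  simp only [psiFun, qc_mul]
  generalize qc M = a
  generalize qc N = b
  obtain ⟨a0, a1, a2, a3⟩ := a
  obtain ⟨b0, b1, b2, b3⟩ := b
  generalize D.rho qi = i at *
  generalize D.rho qj = j at *
  have hk : i * (i * j) = -j := by rw [← mul_assoc, hii, neg_one_mul]
  have hjk : j * (i * j) = i := by rw [← mul_assoc, hji, neg_mul, mul_assoc, hjj, mul_neg_one, neg_neg]
  have hki : i * j * i = j := by rw [mul_assoc, hji, mul_neg, hk, neg_neg]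
  have hkj : i * j * j = -i := by rw [mul_assoc, hjj, mul_neg_one]
  have hkk : i * j * (i * j) = -1 := by rw [mul_assoc, hjk, hii]
  simp only [qm, add_mul, mul_add, smul_mul_smul_comm, one_mul, mul_one, hii, hjj, hji, hk, hjk, hki, hkj, hkk]
  module

theorem psiFun_one : D.psiFun 1 = 1 := by
  have h : qc (1 : M2) = (1, 0, 0, 0) := by decide +kernel
  simp [psiFun, h]

/-- The extension to the matrix algebra. -/
noncomputable def psi : M2 →+* Module.End (ZMod 3) D.W where
  toFun := D.psiFun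
  map_one' := D.psiFun_one
  map_mul' := D.psiFun_mul
  map_zero' := by
    have h : qc (0 : M2) = (0, 0, 0, 0) := by decide +kernel
    simp [psiFun, h]
  map_add' M N := by
    simp only [psiFun, qc, Matrix.add_apply]
    module

theorem psi_apply_psi (M N : M2) (w : D.W) : D.psi M (D.psi N w) = D.psi (M * N) w := by
  rw [map_mul, Module.End.mul_apply]

theorem psi_smul (k : ZMod 3) (M : M2) : D.psi (k • M) = k • D.psi M := ZMod.map_smul D.psi.toAddMonoidHom k M

theorem psi_basic : D.psi qi.1 = D.rho qi ∧ D.psi qj.1 = D.rho qj := by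
  constructor
  · show D.psiFun qi.1 = _
    simp [psiFun, show qc qi.1 = (0, 1, 0, 0) by decide +kernel]
  · show D.psiFun qj.1 = _
    simp [psiFun, show qc qj.1 = (0, 0, 1, 0) by decide +kernel]

theorem b_rho_left (A : SL23) (u v : D.W) : D.b (D.rho A u) v = D.b u (D.rho A⁻¹ v) := by
  conv_rhs => rw [← D.b_rho A]
  rw [D.rho_apply_rho, mul_inv_cancel, map_one, Module.End.one_apply]

/-- Adjoints are adjugates. -/
theorem b_psi (M : M2) (u v : D.W) : D.b (D.psi M u) v = D.b u (D.psi M.adjugate v) := by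
  have hi : ∀ u v, D.b (D.rho qi u) v = -D.b u (D.rho qi v) := fun u v => by
    rw [b_rho_left, show qi⁻¹ = -1 * qi by decide +kernel, map_mul, D.rho_neg_one, neg_one_mul,
      LinearMap.neg_apply, map_neg]
  have hj : ∀ u v, D.b (D.rho qj u) v = -D.b u (D.rho qj v) := fun u v => by
    rw [b_rho_left, show qj⁻¹ = -1 * qj by decide +kernel, map_mul, D.rho_neg_one, neg_one_mul,
      LinearMap.neg_apply, map_neg]
  have hk : ∀ u v, D.b (D.rho qi (D.rho qj u)) v = -D.b u (D.rho qi (D.rho qj v)) := fun u v => by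
    rw [hi, hj, neg_neg, ← Module.End.mul_apply, D.q_rels.2.2, LinearMap.neg_apply, map_neg]; rfl
  show D.b (D.psiFun M u) v = D.b u (D.psiFun M.adjugate v)
  rw [eta_fin_two M, adjugate_fin_two_of]
  simp only [psiFun, qc_adjugate, LinearMap.add_apply, LinearMap.smul_apply, Module.End.mul_apply,
    Module.End.one_apply, map_add, map_smul]
  rw [hk, hi, hj]
  module

theorem b_psi_det {M : M2} (h : M.det = 1) (u v : D.W) : D.b (D.psi M u) (D.psi M v) = D.b u v := by
  rw [b_psi, psi_apply_psi, adjugate_mul, h, one_smul, map_one, Module.End.one_apply]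

/-- The matrix units. -/
def E (i j : Fin 2) : M2 := Matrix.single i j 1

theorem E_mul : ∀ i j k l : Fin 2, E i j * E k l = if j = k then E i l else 0 := by decide +kernel

/-- The half of `W`. -/
noncomputable def X : Submodule (ZMod 3) D.W := LinearMap.range (D.psi (E 0 0))

theorem mem_X {x : D.W} : x ∈ D.X ↔ D.psi (E 0 0) x = x := by
  refine ⟨?_, fun h => ⟨x, h⟩⟩
  rintro ⟨w, rfl⟩
  rw [psi_apply_psi, E_mul]; rfl

theorem E_zero_mem (j : Fin 2) (w : D.W) : D.psi (E 0 j) w ∈ D.X := by
  rw [mem_X, psi_apply_psi, E_mul]; rfl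

theorem E_on_X {x : D.W} (hx : x ∈ D.X) :
    D.psi (E 0 1) x = 0 ∧ D.psi (E 1 1) x = 0 ∧ D.psi (E 0 1) (D.psi (E 1 0) x) = x ∧
      D.psi (E 0 0) (D.psi (E 1 0) x) = 0 := by
  refine ⟨?_, ?_, ?_, ?_⟩
  · rw [← D.mem_X.1 hx, psi_apply_psi, E_mul, if_neg (by decide), map_zero]; rfl
  · rw [← D.mem_X.1 hx, psi_apply_psi, E_mul, if_neg (by decide), map_zero]; rfl
  · rw [psi_apply_psi, E_mul, if_pos rfl, ← D.mem_X.1 hx, psi_apply_psi, E_mul, if_pos rfl]
  · rw [psi_apply_psi, E_mul, if_neg (by decide), map_zero]; rfl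

theorem decomp (w : D.W) : D.psi (E 0 0) w + D.psi (E 1 0) (D.psi (E 0 1) w) = w := by
  rw [psi_apply_psi, E_mul, if_pos rfl, ← LinearMap.add_apply, ← map_add,
    show E 0 0 + E 1 1 = (1 : M2) by decide +kernel, map_one, Module.End.one_apply]

/-- `W` is two copies of `X`. -/
noncomputable def split : D.W ≃ D.X × D.X where
  toFun w := (⟨_, D.E_zero_mem 0 w⟩, ⟨_, D.E_zero_mem 1 w⟩)
  invFun p := (p.1 : D.W) + D.psi (E 1 0) p.2
  left_inv := D.decomp
  right_inv := by
    rintro ⟨⟨x, hx⟩, ⟨x', hx'⟩⟩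
    obtain ⟨h1, -, -, -⟩ := D.E_on_X hx
    obtain ⟨-, -, h3, h4⟩ := D.E_on_X hx'
    refine Prod.ext (Subtype.ext ?_) (Subtype.ext ?_)
    · show D.psi (E 0 0) (x + D.psi (E 1 0) x') = x
      rw [map_add, h4, add_zero, D.mem_X.1 hx]
    · show D.psi (E 0 1) (x + D.psi (E 1 0) x') = x'
      rw [map_add, h1, h3, zero_add]

theorem card_X [Finite G] : Nat.card D.X = 9 := by
  have h := Nat.card_congr D.split
  rw [D.card_W, Nat.card_prod] at h
  nlinarith

/-- The symmetric form on the half. -/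
noncomputable def beta (x y : D.W) : ZMod 3 := D.b x (D.psi (E 1 0) y)

theorem b_X {x y : D.W} (hx : x ∈ D.X) (hy : y ∈ D.X) : D.b x y = 0 := by
  conv_lhs => rw [← D.mem_X.1 hx, ← D.mem_X.1 hy]
  rw [b_psi, psi_apply_psi, show (E 0 0).adjugate * E 0 0 = (0 : M2) by decide +kernel, map_zero, LinearMap.zero_apply,
    map_zero]

theorem beta_comm (x y : D.W) : D.beta x y = D.beta y x := by
  show D.b x _ = D.b y _
  rw [D.b_swap (D.psi (E 1 0) y) x, b_psi, show (E 1 0).adjugate = -E 1 0 by decide +kernel, map_neg,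
    LinearMap.neg_apply, map_neg, neg_neg]

theorem beta_nondeg {x : D.W} (hx : x ∈ D.X) (h : ∀ y ∈ D.X, D.beta x y = 0) : x = 0 := by
  refine D.b_nondeg fun v => ?_
  rw [← D.decomp v, map_add, D.b_X hx (D.E_zero_mem 0 v), zero_add]
  exact h _ (D.E_zero_mem 1 v)

/-- The extension on the group. -/
noncomputable def psiS : SL23 →* Module.End (ZMod 3) D.W where
  toFun A := D.psi A.1
  map_one' := map_one D.psi
  map_mul' _ _ := D.psi.map_mul _ _

theorem psiS_basic : D.psiS qi = D.rho qi ∧ D.psiS qj = D.rho qj := D.psi_basic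

theorem psiS_apply (A : SL23) : D.psiS A = D.psi A.1 := rfl

theorem rho_uU [Finite G] : D.rho uU = D.psiS uU := by
  haveI : Finite D.W := Nat.finite_of_card_ne_zero (by rw [D.card_W]; norm_num)
  obtain ⟨r, hr⟩ : ∃ r, r = D.rho uU * D.psiS uU⁻¹ := ⟨_, rfl⟩
  have hrel : ∀ A : SL23, D.psiS A = D.rho A → D.rho (uU * A * uU⁻¹) = D.psiS (uU * A * uU⁻¹) →
      r * D.psiS (uU * A * uU⁻¹) = D.psiS (uU * A * uU⁻¹) * r := by
    intro A hA hA'
    have e1 : D.rho uU * D.psiS A = D.psiS (uU * A * uU⁻¹) * D.rho uU := by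
      rw [hA, ← map_mul, ← hA', ← map_mul, inv_mul_cancel_right]
    have e2 : D.psiS uU⁻¹ * D.psiS (uU * A * uU⁻¹) = D.psiS A * D.psiS uU⁻¹ := by
      rw [← map_mul, ← map_mul]; congr 1; group
    rw [hr, mul_assoc, e2, ← mul_assoc, e1, mul_assoc]
  have hqj : uU * qi * uU⁻¹ = qj := by decide +kernel
  have hqk : uU * qj * uU⁻¹ = qi * qj := by decide +kernel
  have hcj : r * D.psiS qj = D.psiS qj * r := by
    have := hrel qi D.psiS_basic.1 (by rw [hqj, D.psiS_basic.2])
    rwa [hqj] at this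
  have hck : r * D.psiS (qi * qj) = D.psiS (qi * qj) * r := by
    have := hrel qj D.psiS_basic.2 (by rw [hqk, map_mul, map_mul, D.psiS_basic.1, D.psiS_basic.2])
    rwa [hqk] at this
  have hci : r * D.psiS qi = D.psiS qi * r := by
    have e : D.psiS qi = -(D.psiS (qi * qj) * D.psiS qj) := by
      show D.psi qi.1 = -(D.psi (qi * qj : SL23).1 * D.psi qj.1)
      rw [← map_mul, ← map_neg]; congr 1; decide +kernel
    rw [e, mul_neg, neg_mul, ← mul_assoc, hck, mul_assoc, hcj, mul_assoc]
  have hcom : ∀ M : M2, r * D.psi M = D.psi M * r := by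
    intro M
    show r * D.psiFun M = D.psiFun M * r
    simp only [psiFun, ← D.psiS_basic.1, ← D.psiS_basic.2, mul_add, add_mul, mul_smul_comm, smul_mul_assoc, mul_one,
      one_mul, hci, hcj]
    rw [← mul_assoc, hci, mul_assoc, hcj, mul_assoc]
  have h3 : r * r * r = 1 := by
    have hc : D.rho uU * D.psiS (uU⁻¹) = D.psiS (uU⁻¹) * D.rho uU := by
      have hone : ∀ A : SL23, D.psiS A * D.psiS (A⁻¹) = 1 := fun A => by
        rw [← map_mul, mul_inv_cancel, map_one]
      have hone' : D.psiS (uU⁻¹) * D.psiS uU = 1 := by simpa using hone uU⁻¹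
      calc D.rho uU * D.psiS (uU⁻¹) = r := hr.symm
        _ = D.psiS (uU⁻¹) * (D.psiS uU * r) := by rw [← mul_assoc, hone', one_mul]
        _ = D.psiS (uU⁻¹) * (r * D.psiS uU) := by rw [show r * D.psiS uU = D.psiS uU * r from hcom uU.1]
        _ = _ := by rw [hr, mul_assoc, hone', mul_one]
    have hcm : Commute (D.rho uU) (D.psiS (uU⁻¹)) := hc
    rw [← pow_two, ← pow_succ, hr, hcm.mul_pow, ← map_pow, ← map_pow,
      show uU ^ (2 + 1) = 1 by decide +kernel, show (uU⁻¹) ^ (2 + 1) = 1 by decide +kernel, map_one, map_one, one_mul]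
  set m := r - 1 with hm
  have hm3 : m * m * m = 0 := by
    have e : m * m * m = r * r * r - 1 - 3 • (r * r) + 3 • r := by rw [hm]; noncomm_ring
    have h3' : ∀ f : Module.End (ZMod 3) D.W, 3 • f = 0 := fun f => LinearMap.ext fun w => D.three_nsmul (f w)
    rw [e, h3', h3', h3]; simp
  have hmX : ∀ {x}, x ∈ D.X → m x ∈ D.X := fun {x} hx => by
    rw [mem_X, ← Module.End.mul_apply]
    have : D.psi (E 0 0) * m = m * D.psi (E 0 0) := by rw [hm, mul_sub, sub_mul, hcom, mul_one, one_mul]
    rw [this, Module.End.mul_apply, D.mem_X.1 hx]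
  have hiso : ∀ u v, D.b (r u) (r v) = D.b u v := fun u v => by
    rw [hr, Module.End.mul_apply, Module.End.mul_apply, D.b_rho, psiS_apply, D.b_psi_det (uU⁻¹ : SL23).2]
  have hcard := D.card_X
  have hm2 : ∀ {x}, x ∈ D.X → m (m x) = 0 := by
    intro x hx
    by_contra h
    have h3x : m (m (m x)) = 0 := by rw [← Module.End.mul_apply, ← Module.End.mul_apply, hm3]; rfl
    let f : ZMod 3 × ZMod 3 × ZMod 3 → D.X := fun k =>
      ⟨k.1 • x + (k.2.1 • m x + k.2.2 • m (m x)), add_mem (Submodule.smul_mem _ _ hx)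
        (add_mem (Submodule.smul_mem _ _ (hmX hx)) (Submodule.smul_mem _ _ (hmX (hmX hx))))⟩
    have hf : Function.Injective f := by
      rintro ⟨a, b, c⟩ ⟨a', b', c'⟩ e
      have e' : (a - a') • x + ((b - b') • m x + (c - c') • m (m x)) = 0 := by
        have e0 : a • x + (b • m x + c • m (m x)) = a' • x + (b' • m x + c' • m (m x)) := congrArg Subtype.val e
        rw [← sub_eq_zero] at e0
        rw [← e0]; module
      have ha : a - a' = 0 := by
        have := congrArg (fun w => m (m w)) e'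
        simp only [map_add, map_smul, h3x, smul_zero, add_zero, map_zero] at this
        exact (smul_eq_zero.1 this).resolve_right h
      rw [ha, zero_smul, zero_add] at e'
      have hb : b - b' = 0 := by
        have := congrArg m e'
        simp only [map_add, map_smul, h3x, smul_zero, add_zero, map_zero] at this
        exact (smul_eq_zero.1 this).resolve_right h
      rw [hb, zero_smul, zero_add] at e'
      have hc := (smul_eq_zero.1 e').resolve_right h
      rw [sub_eq_zero] at ha hb hc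
      rw [ha, hb, hc]
    have := Nat.card_le_card_of_injective f hf
    rw [hcard, Nat.card_prod, Nat.card_prod, Nat.card_zmod] at this
    omega
  have hbeta : ∀ {u v}, D.beta (m u) v + D.beta u (m v) + D.beta (m u) (m v) = 0 := by
    intro u v
    have h := hiso u (D.psi (E 1 0) v)
    rw [← Module.End.mul_apply r (D.psi (E 1 0)), hcom, Module.End.mul_apply] at h
    have ru : ∀ w, r w = w + m w := fun w => by rw [hm, LinearMap.sub_apply, Module.End.one_apply]; abel
    rw [ru, ru, map_add (D.psi (E 1 0))] at h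
    simp only [map_add, LinearMap.add_apply] at h
    simp only [beta]
    linear_combination h
  have hzero : ∀ {x}, x ∈ D.X → m x = 0 := by
    intro x hx
    by_contra h
    have hA : ∀ {u v}, u ∈ D.X → v ∈ D.X → D.beta (m u) (m v) = 0 := fun {u v} hu hv => by
      have := hbeta (u := u) (v := m v)
      rw [hm2 hv] at this
      simpa [beta] using this
    have hx0 : D.beta (m x) x = 0 := by
      have := hbeta (u := x) (v := x)
      rw [hA hx hx, D.beta_comm x (m x)] at this
      revert this; generalize D.beta (m x) x = k; revert k; decide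
    let f : ZMod 3 × ZMod 3 → D.X := fun k =>
      ⟨k.1 • x + k.2 • m x, add_mem (Submodule.smul_mem _ _ hx) (Submodule.smul_mem _ _ (hmX hx))⟩
    have hf : Function.Injective f := by
      rintro ⟨a, b⟩ ⟨a', b'⟩ e
      have e0 : a • x + b • m x = a' • x + b' • m x := congrArg Subtype.val e
      have e' : (a - a') • x + (b - b') • m x = 0 := by rw [← sub_eq_zero] at e0; rw [← e0]; module
      have ha : a - a' = 0 := by
        have := congrArg m e'
        simp only [map_add, map_smul, hm2 hx, smul_zero, add_zero, map_zero] at this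
        exact (smul_eq_zero.1 this).resolve_right h
      rw [ha, zero_smul, zero_add] at e'
      have hb := (smul_eq_zero.1 e').resolve_right h
      rw [sub_eq_zero] at ha hb
      rw [ha, hb]
    haveI := Fintype.ofFinite D.X
    have hsurj := ((Fintype.bijective_iff_injective_and_card f).2 ⟨hf, by
      rw [← Nat.card_eq_fintype_card, ← Nat.card_eq_fintype_card, hcard, Nat.card_prod, Nat.card_zmod]⟩).2
    refine h (D.beta_nondeg (hmX hx) fun y hy => ?_)
    obtain ⟨⟨a, b⟩, hab⟩ := hsurj ⟨y, hy⟩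
    have hab' : a • x + b • m x = y := congrArg Subtype.val hab
    rw [← hab', beta, map_add, map_smul, map_smul, map_add, map_smul, map_smul,
      show D.b (m x) (D.psi (E 1 0) x) = 0 from hx0, show D.b (m x) (D.psi (E 1 0) (m x)) = 0 from hA hx hx]
    simp
  have hm0 : m = 0 := LinearMap.ext fun w => by
    rw [← D.decomp w, map_add, hzero (D.E_zero_mem 0 w), zero_add, ← Module.End.mul_apply m]
    have : m * D.psi (E 1 0) = D.psi (E 1 0) * m := by rw [hm, mul_sub, sub_mul, hcom, mul_one, one_mul]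
    rw [this, Module.End.mul_apply, hzero (D.E_zero_mem 1 w), map_zero]; rfl
  have hr1 : r = 1 := sub_eq_zero.1 hm0
  calc D.rho uU = D.rho uU * (D.psiS (uU⁻¹) * D.psiS uU) := by
        rw [← map_mul, inv_mul_cancel, map_one, mul_one]
    _ = D.psiS uU := by rw [← mul_assoc, ← hr, hr1, one_mul]

theorem sl_words : ∀ A : SL23, ∃ a : Fin 4, ∃ b : Fin 2, ∃ c : Fin 3, A = qi ^ a.val * qj ^ b.val * uU ^ c.val := by
  decide +kernel

/-- The action agrees with the extension. -/
theorem rho_eq_psi [Finite G] (A : SL23) : D.rho A = D.psi A.1 := by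
  obtain ⟨a, b, c, rfl⟩ := sl_words A
  rw [← psiS_apply, map_mul, map_mul, map_pow, map_pow, map_pow, map_mul, map_mul, map_pow, map_pow, map_pow,
    D.rho_uU, D.psiS_basic.1, D.psiS_basic.2]

theorem act_eq_psi [Finite G] (c : D.C) : D.act c = D.psi (D.π c).1 := by rw [act_eq_rho, rho_eq_psi]

end Data

end Cfsg.Lib.LFourThree
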