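import Cfsg.Agent.Lib.LFourThree.Levi
import Cfsg.Agent.Lib.Recog.SingleBond.TypeA

/-!
# The two parabolics together give a homomorphism from `SL(4,3)`
-/

set_option autoImplicit false
set_option linter.unusedSectionVars false
set_option linter.style.haveILetI false

namespace Cfsg.Lib.LFourThree

open Subgroup Cfsg.Lib.PSpThree Matrix Cfsg.Lib.Recog.SingleBond Cfsg.Lib.Chev
open scoped MatrixGroups

variable {G : Type*} [Group G]

/-- The antidiagonal element. -/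
def kS : SL33 := ⟨!![0, 0, 1; 0, 1, 0; -1, 0, 0], by decide +kernel⟩

/-- The automorphism carrying one parabolic to the other. -/
def theta : SL33 →* SL33 := (MulAut.conj kS).toMonoidHom.comp invT

theorem theta_facts : (∀ A : SL23, theta (blockA A) = blockB A) ∧
    (∀ t : ZMod 3, ∃ u : ZMod 3, theta (blockB (upr t)) = tv 0 1 u ∨ theta (blockB (upr t)) = tv 1 0 u) ∧
    (∀ t : ZMod 3, ∃ u : ZMod 3, theta (blockB (lwr t)) = tv 0 1 u ∨ theta (blockB (lwr t)) = tv 1 0 u) := by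
  decide +kernel

theorem tv_facts : (∀ p : ZMod 3, tv (0 : Fin 3) 1 p = rowU p 0) ∧
    (∀ p : ZMod 3, (tv (0 : Fin 3) 1 p : SL33).1 *ᵥ ![0, 0, 1] = ![0, 0, 1]) ∧
    (∀ p : ZMod 3, (tv (1 : Fin 3) 0 p : SL33).1 *ᵥ ![0, 0, 1] = ![0, 0, 1]) ∧
    (tv (1 : Fin 3) 0 1 : SL33).1 *ᵥ ![1, 0, 0] = ![1, 1, 0] ∧
    (tv (1 : Fin 3) 0 1 : SL33).1 *ᵥ ![0, 1, 0] = ![0, 1, 0] ∧
    tv (1 : Fin 3) 0 1 * rowU 0 1 * (tv (1 : Fin 3) 0 (1 : ZMod 3))⁻¹ = rowU 0 1 * blockB uU ∧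
    tv (1 : Fin 3) 0 1 * blockB uU = blockB uU * tv (1 : Fin 3) 0 (1 : ZMod 3) ∧
    dT * dH = dH * dT ∧ dH * dH = 1 ∧
    dH * dT * tv (1 : Fin 3) 0 1 = tv (1 : Fin 3) 0 1 * (dH * dT) ∧
    (dH * dT).1 *ᵥ ![1, 0, 0] = ![-1, 0, 0] ∧ (dH * dT).1 *ᵥ ![0, 1, 0] = ![0, -1, 0] ∧
    dH * dT * rowU 0 1 * (dH * dT)⁻¹ = (rowU 0 1)⁻¹ ∧ dH * dT * blockB uU * (dH * dT)⁻¹ = (blockB uU)⁻¹ ∧
    dH.1 *ᵥ ![1, 0, 0] = ![-1, 0, 0] ∧
    (∀ u : Fin 2 → ZMod 3, dH.1 *ᵥ ![0, u 0, u 1] = ![0, u 0, -u 1]) ∧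
    (∀ p q : ZMod 3, dH * rowU p q * dH⁻¹ = rowU (-p) q) ∧
    blockB uU * rowU 0 1 = rowU 0 1 * blockB uU ∧ (blockB uU).1 *ᵥ ![0, 1, 0] = ![0, 1, 0] ∧
    (∀ t : ZMod 3, ∀ n : Fin 3, t = (n.val : ZMod 3) → tv (1 : Fin 3) 0 t = (tv (1 : Fin 3) 0 (1 : ZMod 3)) ^ n.val) := by
  decide +kernel

theorem uU_fix : ∀ A : SL23, A.1 *ᵥ ![1, 0] = ![1, 0] → ∃ k : Fin 3, A = uU ^ k.val := by decide +kernel

theorem conj_root : ∀ u : Fin 2, ∃ g : SL33, g * blockB (if u = 0 then uU else uU⁻¹) * g⁻¹ ∈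
    [rowU 1 0, rowU (-1) 0, rowU 0 1, rowU 0 (-1)] := by
  intro u
  refine ⟨⟨!![0, 1, 0; 0, 0, 1; 1, 0, 0], by decide +kernel⟩, ?_⟩
  revert u; decide +kernel

namespace Fr

variable [Finite G]

/-- The element of order three is chosen in the linked extraspecial subgroup, outside `Q`. -/
theorem exists_tor (F : Fr G) : ∃ T : Tor F.D, T.s ∈ F.D'.Q ∧ (F.CaseTwo → F.D.Pure T.s) := by
  obtain ⟨t, ht, ht2, htp, hty⟩ := F.D.exists_inverting F.link.1 F.link.2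
  obtain ⟨F', h1, h2⟩ := exists_fr (D := F.D') (D' := F.D) F.link.symm (by
    obtain ⟨g, h | h⟩ := F.pure'
    · exact ⟨g⁻¹, Or.inl (by rw [← h]; group)⟩
    · exact ⟨g⁻¹, Or.inr (by rw [← h]; group)⟩)
  have hR : F'.V1 = F.V1 := by
    show F'.D.pl F'.c = F.D.pl F.c
    rw [F'.R_eq, h1, h2, F.R_eq, inf_comm]
  have hzQ : F.z ∈ F'.D.Q := by rw [h1]; exact F.link.symm.1
  obtain ⟨p, hp⟩ := F'.D.cl_pl.1 (show ((⟨F.z, hzQ⟩ : F'.D.Q) : G) ∈ F'.V1 from hR ▸ F.isPlane_V1.z_mem)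
  obtain ⟨u, hu0, hu⟩ : ∃ u : Fin 2 → ZMod 3, u ≠ 0 ∧ p 0 * u 1 - p 1 * u 0 = 0 := by
    exact (by decide : ∀ p : Fin 2 → ZMod 3, ∃ u : Fin 2 → ZMod 3, u ≠ 0 ∧ p 0 * u 1 - p 1 * u 0 = 0) p
  obtain ⟨x, hx⟩ := F'.D.cl_surj (F'.D.emb F'.d u)
  have hxz : (x : G) ∈ F.D.C := by
    refine F.D.mem_C.2 ?_
    have hb : F'.D.b (F'.D.cl ⟨F.z, hzQ⟩) (F'.D.cl x) = 0 := by
      rw [hp, hx, F'.D.b_emb F'.hc F'.hd, F'.cd, mul_one]; exact hu
    exact (F'.D.b_eq_zero.1 hb).symm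
  have hxV : (x : G) ∈ F'.V2 := F'.D.cl_pl.2 ⟨u, hx⟩
  have hx1 : (x : G) ∉ zpowers F'.z := fun h => hu0 (F'.D.emb_injective F'.hd F'.d_ne (by
    rw [← hx, F'.D.cl_eq_zero.2 h, map_zero]))
  have hmeet : ∀ {w : G}, w ∈ F'.V2 → w ∈ F.D.Q → w ∈ zpowers F.D'.z := by
    intro w hw hwQ
    have hwR : w ∈ F'.V1 := by
      rw [hR, V1, F.R_eq]
      exact ⟨hwQ, h1 ▸ F'.isPlane_V2.le hw⟩
    have := F'.V1_inf_V2 hwR hw
    rwa [z, h1] at this
  have htn : t * F'.z * t⁻¹ ∈ zpowers F'.z := by rw [z, h1, hty]; exact inv_mem (mem_zpowers _)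
  have hW : F'.D.IsPlane (F'.V2.map (MulAut.conj t).toMonoidHom) := by
    refine ⟨?_, ?_, ?_, ?_, ?_⟩
    · rintro _ ⟨w, hw, rfl⟩; exact F'.D.norm_Q htn (F'.isPlane_V2.le hw)
    · refine ⟨F'.z⁻¹, inv_mem F'.isPlane_V2.z_mem, ?_⟩
      show t * F'.z⁻¹ * t⁻¹ = F'.z
      rw [show t * F'.z⁻¹ * t⁻¹ = (t * F'.z * t⁻¹)⁻¹ by group, z, h1, hty, inv_inv]
    · rw [Subgroup.card_map_of_injective (MulAut.conj t).injective, F'.isPlane_V2.card]
    · rintro _ ⟨a, ha, rfl⟩ _ ⟨b, hb, rfl⟩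
      rw [← map_mul, F'.isPlane_V2.comm a ha b hb, map_mul]
    · rintro g hg _ ⟨a, ha, rfl⟩
      have hg' : t⁻¹ * g * t ∈ F'.D.C := by
        refine F'.D.mem_C.2 ?_
        have e := F'.D.zp_central htn hg
        have e' : g * (t * F'.z * t⁻¹) = t * F'.z * t⁻¹ * g := mul_inv_eq_iff_eq_mul.1 e
        calc t⁻¹ * g * t * F'.z = t⁻¹ * (g * (t * F'.z * t⁻¹)) * t := by group
          _ = F'.z * (t⁻¹ * g * t) := by rw [e']; group
      exact ⟨_, F'.isPlane_V2.conj _ hg' a ha, by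
        show t * (t⁻¹ * g * t * a * (t⁻¹ * g * t)⁻¹) * t⁻¹ = g * (t * a * t⁻¹) * g⁻¹; group⟩
  have htx : t * (x : G) * t⁻¹ ∈ F'.V2 := by
    rcases F'.plane_cases hW with h | h
    · exfalso
      have hxR : (x : G) ∈ F'.V1 := by
        have hm : t * (x : G) * t⁻¹ ∈ F'.V1 := h ▸ ⟨x, hxV, rfl⟩
        rw [hR] at hm ⊢
        have := F.conj_N (inv_mem (F.C_le_N ht)) hm
        simpa [mul_assoc] using this
      exact hx1 (F'.V1_inf_V2 hxR hxV)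
    · exact h ▸ ⟨x, hxV, rfl⟩
  set k := t * (x : G) * t⁻¹ * (x : G)⁻¹ with hk
  have hkz : k ∈ zpowers F.D'.z := by
    refine hmeet (mul_mem htx (inv_mem hxV)) ?_
    have : F.D.π (⟨t, ht⟩ * ⟨x, hxz⟩ * ⟨t, ht⟩⁻¹ * ⟨x, hxz⟩⁻¹) = 1 := by
      rw [map_mul, map_mul, map_mul, htp, ← sl_facts.2.2.2.2.1 (F.D.π ⟨x, hxz⟩), map_inv, map_inv, htp,
        mul_inv_cancel_right, mul_inv_cancel]
    exact (F.D.ker _).1 this
  have hkC : k ∈ F.D.C := mul_mem (mul_mem (mul_mem ht hxz) (inv_mem ht)) (inv_mem hxz)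
  have hxC' : (x : G) ∈ F.D'.C := h1 ▸ F'.D.Q_le x.2
  have hs2 : (x : G) * (k * k) ∈ F'.V2 := by
    have : k ∈ F'.V2 := mul_mem htx (inv_mem hxV)
    exact mul_mem hxV (mul_mem this this)
  have hsC : (x : G) * (k * k) ∈ F.D.C := mul_mem hxz (mul_mem hkC hkC)
  have hk3 : k ^ 3 = 1 := F.D'.Q_exp k (F.D'.zp_le_Q hkz)
  have hck : (x : G) * k = k * x := mul_inv_eq_iff_eq_mul.1 (F.D'.zp_central hkz hxC')
  have htk : t * k * t⁻¹ = k⁻¹ := by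
    obtain ⟨j, hj⟩ := hkz
    rw [← hj]
    show t * F.D'.z ^ j * t⁻¹ = (F.D'.z ^ j)⁻¹
    rw [← conj_zpow, hty, _root_.inv_zpow]
  have hst : t * ((x : G) * (k * k)) = (x : G) * (k * k) * t := by
    refine mul_inv_eq_iff_eq_mul.1 ?_
    calc t * ((x : G) * (k * k)) * t⁻¹ = (t * x * t⁻¹) * ((t * k * t⁻¹) * (t * k * t⁻¹)) := by group
      _ = k * x * (k⁻¹ * k⁻¹) := by rw [htk, show t * (x : G) * t⁻¹ = k * x by rw [hk]; group]
      _ = (x : G) * (k * k) * (k ^ 3)⁻¹ := by rw [← hck, pow_succ, pow_two]; group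
      _ = _ := by rw [hk3, inv_one, mul_one]
  have hnQ : (x : G) * (k * k) ∉ F.D.Q := fun hQ => hx1 (by
    have := hmeet hs2 hQ
    rw [show F'.z = F.D'.z by rw [z, h1]]
    have h' := mul_mem this (inv_mem (mul_mem hkz hkz))
    rwa [mul_inv_cancel_right] at h')
  refine ⟨⟨t, ht, ht2, htp, _, hsC, F'.D.Q_exp _ (F'.isPlane_V2.le hs2), fun h => hnQ ((F.D.ker ⟨_, hsC⟩).1 h), hst⟩,
    h1 ▸ F'.isPlane_V2.le hs2, fun hc => ?_⟩
  have hs1 : (x : G) * (k * k) ≠ 1 := fun e => hnQ (by rw [e]; exact one_mem _)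
  have hc' : F'.CaseTwo := by
    obtain ⟨g, hg⟩ : ∃ g : G, g * F.z * g⁻¹ = F.D'.z ∨ g * F.z⁻¹ * g⁻¹ = F.D'.z := F.pure'
    have hn : g * F.z * g⁻¹ ∈ zpowers F.D'.z := by
      rcases hg with e | e
      · rw [e]; exact mem_zpowers _
      · rw [← inv_inv (g * F.z * g⁻¹), show (g * F.z * g⁻¹)⁻¹ = F.D'.z by rw [← e]; group]; exact inv_mem (mem_zpowers _)
    have hgQ : ∀ {w : G}, w ∈ F.D.Q → g * w * g⁻¹ ∈ F'.D.Q := by
      intro w hw
      rw [h1]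
      have hcent : F.D'.Q = (F.D.conj g).Q := by
        refine eq_of_le_of_card_ge (fun y hy => ?_) (by rw [(F.D.conj g).Q_card, F.D'.Q_card])
        have hyC : y ∈ (F.D.conj g).C := by
          refine (F.D.conj g).mem_C.2 ?_
          exact mul_inv_eq_iff_eq_mul.1 (F.D'.zp_central hn (F.D'.Q_le hy))
        by_contra hny
        have hp : (F.D.conj g).π ⟨y, hyC⟩ ≠ 1 := fun e => hny (((F.D.conj g).ker _).1 e)
        have h3 : (F.D.conj g).π ⟨y, hyC⟩ * (F.D.conj g).π ⟨y, hyC⟩ * (F.D.conj g).π ⟨y, hyC⟩ = 1 := by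
          rw [← map_mul, ← map_mul]
          refine (congrArg _ (Subtype.ext ?_ : _ = (1 : (F.D.conj g).C))).trans (map_one _)
          show y * y * y = 1
          simpa [pow_succ] using F.D'.Q_exp y hy
        obtain ⟨a, ha⟩ := sl_conj_facts.1 _ h3 hp
        obtain ⟨c, rfl⟩ := (F.D.conj g).surj a
        refine ha ?_
        rw [← map_inv, ← map_mul, ← map_mul, ← map_mul, ← map_mul, ← map_mul]
        refine (congrArg _ (Subtype.ext ?_ : _ = (1 : (F.D.conj g).C))).trans (map_one _)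
        have hcC : (c : G) * F.D'.z * (c : G)⁻¹ = F.D'.z := by
          obtain ⟨j, hj⟩ : F.D'.z ∈ zpowers (g * F.z * g⁻¹) := by
            rw [F.D'.zp_eq_of_mem hn fun e => F.D.z_ne (conj_eq_one_iff.1 e)]; exact mem_zpowers _
          exact (F.D.conj g).zp_central ⟨j, hj⟩ c.2
        have hc2 := F.D'.conj_Q (F.D'.mem_C.2 (mul_inv_eq_iff_eq_mul.1 hcC)) hy
        simpa [pow_succ] using F.D'.Q_exp _ (mul_mem hy hc2)
      rw [hcent, Data.mem_conj_Q]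
      simpa [mul_assoc] using hw
    obtain ⟨q, hqV, hqz, hqp⟩ := hc
    have hF2 : ∀ {v : G}, v ∈ F.V1 ∨ v ∈ F.V2 → v ≠ 1 → F.D.Pure v := by
      rintro v (h | h) hv
      · exact F.pure_V1 h hv
      · exact F.pure_V2 ⟨q, hqV, hqz, hqp⟩ h hv
    have hz1 : ∀ {V : Subgroup G}, F.D.IsPlane V → F'.D.IsPlane (V.map (MulAut.conj g).toMonoidHom) := by
      intro V hV
      refine ⟨?_, ?_, ?_, ?_, ?_⟩
      · rintro _ ⟨w, hw, rfl⟩; exact hgQ (hV.le hw)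
      · rw [h1]
        rcases hg with e | e
        · exact ⟨F.z, hV.z_mem, e⟩
        · exact ⟨F.z⁻¹, inv_mem hV.z_mem, e⟩
      · rw [Subgroup.card_map_of_injective (MulAut.conj g).injective, hV.card]
      · rintro _ ⟨a, ha, rfl⟩ _ ⟨b, hb, rfl⟩
        rw [← map_mul, hV.comm a ha b hb, map_mul]
      · rintro c hc _ ⟨a, ha, rfl⟩
        refine ⟨_, hV.conj (g⁻¹ * c * g) ?_ a ha, by
          show g * (g⁻¹ * c * g * a * (g⁻¹ * c * g)⁻¹) * g⁻¹ = c * (g * a * g⁻¹) * c⁻¹; group⟩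
        rw [h1] at hc
        refine F.D.mem_C.2 ?_
        have e := F.D'.zp_central hn hc
        have e' : c * (g * F.z * g⁻¹) = g * F.z * g⁻¹ * c := mul_inv_eq_iff_eq_mul.1 e
        calc g⁻¹ * c * g * F.z = g⁻¹ * (c * (g * F.z * g⁻¹)) * g := by group
          _ = F.z * (g⁻¹ * c * g) := by rw [e']; group
    obtain ⟨w, hwV2, hwz, hwp⟩ : ∃ w ∈ F'.V2, w ∉ zpowers F'.z ∧ F.D.Pure w := by
      have hpl : ∀ {V : Subgroup G}, F.D.IsPlane V → (∀ v ∈ V, v ≠ 1 → F.D.Pure v) →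
          V.map (MulAut.conj g).toMonoidHom = F'.V2 → ∃ w ∈ F'.V2, w ∉ zpowers F'.z ∧ F.D.Pure w := by
        intro V hV hp e
        refine ⟨(x : G), hxV, hx1, ?_⟩
        have hx' : (x : G) ∈ V.map (MulAut.conj g).toMonoidHom := e.symm ▸ hxV
        obtain ⟨v, hv, hvx⟩ := hx'
        rw [← hvx]
        exact (hp v hv fun h => hx1 (by rw [← hvx, h, map_one]; exact one_mem _)).conj _ g
      rcases F'.plane_cases (hz1 F.isPlane_V1) with e | e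
      · rcases F'.plane_cases (hz1 F.isPlane_V2) with e' | e'
        · exfalso
          have : F.V1 = F.V2 := Subgroup.map_injective (f := (MulAut.conj g).toMonoidHom) (MulAut.conj g).injective
            (e.trans e'.symm)
          exact hqz (F.V1_inf_V2 (this.symm ▸ hqV) hqV)
        · exact hpl F.isPlane_V2 (fun v hv h => hF2 (Or.inr hv) h) e'
      · exact hpl F.isPlane_V1 (fun v hv h => hF2 (Or.inl hv) h) e
    refine ⟨w, hwV2, hwz, ?_⟩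
    obtain ⟨a, ha | ha⟩ := hwp <;> obtain ⟨b, hb | hb⟩ := F.pure'
    · exact ⟨a * b⁻¹, Or.inl (by rw [h1, ← hb, ← ha]; group)⟩
    · exact ⟨a * b⁻¹, Or.inr (by rw [h1, ← hb, ← ha]; group)⟩
    · exact ⟨a * b⁻¹, Or.inr (by rw [h1, ← hb, ← ha]; group)⟩
    · exact ⟨a * b⁻¹, Or.inl (by rw [h1, ← hb, ← ha]; group)⟩
  obtain ⟨a, ha | ha⟩ := F'.pure_V2 hc' hs2 hs1 <;> obtain ⟨b, hb | hb⟩ := F.pure'
  · exact ⟨a * b, Or.inl (by refine Eq.trans ?_ ha; rw [show F'.D.z = F.D'.z by rw [h1], ← hb]; group)⟩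
  · exact ⟨a * b, Or.inr (by refine Eq.trans ?_ ha; rw [show F'.D.z = F.D'.z by rw [h1], ← hb]; group)⟩
  · exact ⟨a * b, Or.inr (by refine Eq.trans ?_ ha; rw [show F'.D.z = F.D'.z by rw [h1], ← hb]; group)⟩
  · exact ⟨a * b, Or.inl (by refine Eq.trans ?_ ha; rw [show F'.D.z = F.D'.z by rw [h1], ← hb]; group)⟩

/-- Two conjugates of the element in the linked subgroup differing by a central element are equal. -/
theorem pure_unique (F : Fr G) {x x' : G} (hx : x ∈ F.D'.Q) (hxQ : x ∉ F.D.Q) (hp : F.D.Pure x) (hp' : F.D.Pure x')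
    (hk : x⁻¹ * x' ∈ zpowers F.z) : x = x' := by
  obtain ⟨F', h1, h2⟩ := exists_fr (D := F.D') (D' := F.D) F.link.symm (by
    obtain ⟨g, h | h⟩ := F.pure'
    · exact ⟨g⁻¹, Or.inl (by rw [← h]; group)⟩
    · exact ⟨g⁻¹, Or.inr (by rw [← h]; group)⟩)
  have hR : F'.V1 = F.V1 := by
    show F'.D.pl F'.c = F.D.pl F.c
    rw [F'.R_eq, h1, h2, F.R_eq, inf_comm]
  have hx' : x' ∈ F.D'.Q := by
    have := mul_mem hx ((zpowers_le.2 F.link.symm.1) hk)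
    rwa [mul_inv_cancel_left] at this
  have hxQ' : x' ∉ F.D.Q := fun h => hxQ (by
    have := mul_mem h (inv_mem (F.D.zp_le_Q hk))
    rwa [_root_.mul_inv_rev, inv_inv, mul_inv_cancel_left] at this)
  have key : ∀ {w : G}, w ∈ F.D'.Q → w ∉ F.D.Q → F.D.Pure w → w ∈ F'.V2 := by
    intro w hw hwQ hwp
    refine (F'.pure_mem_Q (by rw [h1]; exact hw) ?_).resolve_left fun h => hwQ (F.isPlane_V1.le (hR ▸ h))
    obtain ⟨a, ha | ha⟩ := hwp <;> obtain ⟨b, hb | hb⟩ := F.pure'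
    · exact ⟨a * b⁻¹, Or.inl (by rw [h1, ← hb, ← ha]; group)⟩
    · exact ⟨a * b⁻¹, Or.inr (by rw [h1, ← hb, ← ha]; group)⟩
    · exact ⟨a * b⁻¹, Or.inr (by rw [h1, ← hb, ← ha]; group)⟩
    · exact ⟨a * b⁻¹, Or.inl (by rw [h1, ← hb, ← ha]; group)⟩
  have h2' : x⁻¹ * x' ∈ F'.V2 := mul_mem (inv_mem (key hx hxQ hp)) (key hx' hxQ' hp')
  have h1' : x⁻¹ * x' ∈ F'.V1 := hR ▸ F.D.zp_le_pl _ hk
  have := F'.V1_inf_V2 h1' h2'
  rw [z, h1] at this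
  exact inv_mul_eq_one.1 (F.link.zp_inf hk this)

variable {F : Fr G} {T : Tor F.D}

theorem chi_pure (K : F.Comp T) (hc : F.CaseTwo) {A : SL23} (h3 : A * A * A = 1) (h1 : A ≠ 1) :
    F.D.Pure (K.chi A) := by
  obtain ⟨a, ha⟩ := sl_conj_facts.2 A h3 h1
  obtain ⟨u, hu⟩ : ∃ u : Fin 2, a * A * a⁻¹ = if u = 0 then uU else uU⁻¹ := by
    rcases ha with ha | ha
    · exact ⟨0, by simpa using ha⟩
    · exact ⟨1, by simpa using ha⟩
  obtain ⟨g, hg⟩ := conj_root u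
  have hp : F.D.Pure (K.psi (g * blockB (a * A * a⁻¹) * g⁻¹)) := by
    rw [hu]
    have hr : ∀ p q : ZMod 3, ![q, -p] ≠ (0 : Fin 2 → ZMod 3) → F.D.Pure (K.psi (rowU p q)) := by
      intro p q hne
      rw [show K.psi (rowU p q) = K.row p q from rfl, K.row_val]
      refine F.pure_V2 hc ((F.D.cl_pl (x := ⟨_, F.D.il_mem T _⟩)).2 ⟨_, F.D.cl_il T _⟩) fun e => hne ?_
      refine F.D.emb_injective F.hd F.d_ne ?_
      rw [map_zero, ← F.D.cl_il T (F.D.emb F.d ![q, -p])]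
      exact F.D.cl_eq_zero.2 (show F.D.il T _ ∈ _ from e ▸ one_mem _)
    simp only [List.mem_cons, List.not_mem_nil, or_false] at hg
    rcases hg with e | e | e | e <;> rw [e] <;> exact hr _ _ (by decide)
  have e : K.psi (g * blockB (a * A * a⁻¹) * g⁻¹) =
      K.psi (g * blockB a) * K.chi A * (K.psi (g * blockB a))⁻¹ := by
    show _ = K.psi (g * blockB a) * K.psi (blockB A) * (K.psi (g * blockB a))⁻¹
    rw [← map_inv K.psi, ← map_mul K.psi, ← map_mul K.psi]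
    refine congrArg K.psi ?_
    rw [map_mul blockB, map_mul blockB, map_inv]
    group
  rw [e] at hp
  have := hp.conj _ (K.psi (g * blockB a))⁻¹
  rwa [show (K.psi (g * blockB a))⁻¹ * (K.psi (g * blockB a) * K.chi A * (K.psi (g * blockB a))⁻¹) *
    (K.psi (g * blockB a))⁻¹⁻¹ = K.chi A by group] at this

theorem chi_s (K : F.Comp T) (hc : F.CaseTwo) (hsQ : T.s ∈ F.D'.Q) (hsp : F.D.Pure T.s) :
    K.chi (F.D.π ⟨T.s, T.hs⟩) = T.s := by
  set A := F.D.π ⟨T.s, T.hs⟩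
  have h3 : A * A * A = 1 := by
    have : (⟨T.s, T.hs⟩ : F.D.C) ^ 3 = 1 := Subtype.ext T.s3
    rw [← map_mul, ← map_mul, show (⟨T.s, T.hs⟩ : F.D.C) * ⟨T.s, T.hs⟩ * ⟨T.s, T.hs⟩ = 1 by
      rw [← this, pow_succ, pow_two], map_one]
  have hk := K.cent_t T.hs T.st
  have hxQ : T.s ∉ F.D.Q := fun h => T.sp ((F.D.ker ⟨T.s, T.hs⟩).2 h)
  refine (F.pure_unique hsQ hxQ hsp (chi_pure K hc h3 T.sp) ?_).symm
  have := inv_mem hk
  rwa [_root_.mul_inv_rev, inv_inv] at this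

theorem chi_eq {E : Data G} {hl : Linked F.D E} {hp : F.D.Pure E.z} {hE : F.D.pl F.d = F.D.Q ⊓ E.Q}
    (K : F.Comp T) (K' : (F.swap E hl hp hE).Comp T) (hc : F.CaseTwo) (hsQ : T.s ∈ F.D'.Q) (hsp : F.D.Pure T.s)
    (A : SL23) : K.chi A = K'.chi A := by
  set F2 := F.swap E hl hp hE with hF2
  have hc2 : F2.CaseTwo := by
    obtain ⟨v, hv, hvz⟩ : ∃ v ∈ F.V1, v ∉ zpowers F.z := by
      refine ⟨F.D'.z, ?_, F.link.2⟩
      rw [V1, F.R_eq]; exact F.link.z'_mem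
    exact ⟨v, hv, hvz, F.pure_V1 hv fun e => hvz (e ▸ one_mem _)⟩
  set S := F.D.π ⟨T.s, T.hs⟩
  have hS3 : S * S * S = 1 := by
    have : (⟨T.s, T.hs⟩ : F.D.C) ^ 3 = 1 := Subtype.ext T.s3
    rw [← map_mul, ← map_mul, show (⟨T.s, T.hs⟩ : F.D.C) * ⟨T.s, T.hs⟩ * ⟨T.s, T.hs⟩ = 1 by
      rw [← this, pow_succ, pow_two], map_one]
  have hS : K'.chi S = T.s := by
    have hsc := K'.cent_t (c := T.s) T.hs T.st
    have hxQ : T.s ∉ F.D.Q := fun h => T.sp ((F.D.ker ⟨T.s, T.hs⟩).2 h)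
    refine (F.pure_unique hsQ hxQ hsp (chi_pure (F := F2) K' hc2 hS3 T.sp) ?_).symm
    have := inv_mem hsc
    rwa [_root_.mul_inv_rev, inv_inv] at this
  obtain ⟨k, q, hq, rfl⟩ := sl_gen S A hS3 T.sp
  rw [map_mul, map_mul, map_pow, map_pow, hS, chi_s K hc hsQ hsp]
  congr 1
  set w := (K.chi q)⁻¹ * K'.chi q with hw
  have hwz : w ∈ zpowers F.z := by
    have h := K.cent_t (c := K'.chi q) (K'.chi_mem q) (K'.chi_comm q)
    rwa [show F.D.π ⟨K'.chi q, K'.chi_mem q⟩ = q from K'.pi_chi q] at h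
  have e : K'.chi q = K.chi q * w := by rw [hw, mul_inv_cancel_left]
  have hcw : Commute (K.chi q) w := mul_inv_eq_iff_eq_mul.1 (F.D.zp_central hwz (K.chi_mem q))
  have h4 : w ^ 4 = 1 := by
    have e4 := map_pow K'.chi q 4
    have hq4 : q ^ 4 = 1 := by rw [← hq]; simp [pow_succ, mul_assoc]
    rw [hq4, map_one, e, hcw.mul_pow, ← map_pow, hq4, map_one, one_mul] at e4
    exact e4.symm
  have h3 := F.D.Q_exp _ (F.D.zp_le_Q hwz)
  have hw1 : w = 1 := by rwa [pow_succ, h3, one_mul] at h4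
  rw [e, hw1, mul_one]

/-- Conjugating a complement by the centre. -/
def Comp.conjz (K : F.Comp T) (j : ℕ) : F.Comp T where
  H := K.H.map (MulAut.conj (F.z ^ j)).toMonoidHom
  le := by
    rintro _ ⟨x, hx, rfl⟩
    exact mul_mem (mul_mem (F.C_le_N (pow_mem F.D.z_mem_C _)) (K.le hx)) (inv_mem (F.C_le_N (pow_mem F.D.z_mem_C _)))
  cover g hg := by
    have hzN := F.C_le_N (pow_mem F.D.z_mem_C j)
    obtain ⟨v, hv, k, hk, e⟩ := K.cover ((F.z ^ j)⁻¹ * g * F.z ^ j) (mul_mem (mul_mem (inv_mem hzN) hg) hzN)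
    refine ⟨F.z ^ j * v * (F.z ^ j)⁻¹, F.conj_N hzN hv, _, ⟨k, hk, rfl⟩, ?_⟩
    show g = F.z ^ j * v * (F.z ^ j)⁻¹ * (F.z ^ j * k * (F.z ^ j)⁻¹)
    calc g = F.z ^ j * ((F.z ^ j)⁻¹ * g * F.z ^ j) * (F.z ^ j)⁻¹ := by group
      _ = _ := by rw [e]; group
  disj := by
    rintro _ ⟨x, hx, rfl⟩ hV
    have := F.conj_N (inv_mem (F.C_le_N (pow_mem F.D.z_mem_C j))) hV
    have e : (F.z ^ j)⁻¹ * (F.z ^ j * x * (F.z ^ j)⁻¹) * (F.z ^ j)⁻¹⁻¹ = x := by group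
    rw [K.disj x hx (by rw [← e]; exact this)]
    simp
  t_mem := ⟨T.t, K.t_mem, by
    show F.z ^ j * T.t * (F.z ^ j)⁻¹ = T.t
    rw [← ((show Commute T.t F.z from F.D.comm_z T.ht).pow_right j).eq, mul_inv_cancel_right]⟩

theorem Comp.conjz_psi (K : F.Comp T) (j : ℕ) (A : SL33) :
    (K.conjz j).psi A = F.z ^ j * K.psi A * (F.z ^ j)⁻¹ := by
  have hzV := pow_mem F.isPlane_V1.z_mem j
  refine (K.conjz j).psi_unique ⟨_, K.psi_mem A, rfl⟩ ?_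
  have h1 : F.sl T ⟨F.z ^ j, F.V1_le_N hzV⟩ = 1 := (F.sl_eq_one T).2 hzV
  show F.sl T (⟨F.z ^ j, F.V1_le_N hzV⟩ * ⟨K.psi A, K.le (K.psi_mem A)⟩ * ⟨F.z ^ j, F.V1_le_N hzV⟩⁻¹) = A
  rw [map_mul, map_mul, map_inv, h1, one_mul, inv_one, mul_one, K.sl_psi]

theorem il_d_mem_pl (u : Fin 2 → ZMod 3) : F.D.il T (F.D.emb F.d u) ∈ F.V2 :=
  (F.D.cl_pl (x := ⟨_, F.D.il_mem T _⟩)).2 ⟨u, F.D.cl_il T _⟩

theorem psi_dH_z (K : F.Comp T) : K.psi dH * F.z * (K.psi dH)⁻¹ = F.z⁻¹ := by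
  have h := K.psi_apply dH ![1, 0, 0]
  rw [tv_facts.2.2.2.2.2.2.2.2.2.2.2.2.2.2.1, F.pt_single T] at h
  rw [h]
  refine eq_inv_of_mul_eq_one_left ?_
  rw [← F.pt_single T, ← F.pt_add, show (![-1, 0, 0] : Fin 3 → ZMod 3) + ![1, 0, 0] = 0 by decide, F.pt_zero]

theorem psi_dH_plane (K : F.Comp T) (u : Fin 2 → ZMod 3) :
    K.psi dH * F.D.il T (F.D.emb F.c u) * (K.psi dH)⁻¹ = F.D.il T (F.D.emb F.c ![u 0, -u 1]) := by
  have h := K.psi_apply dH ![0, u 0, u 1]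
  rw [tv_facts.2.2.2.2.2.2.2.2.2.2.2.2.2.2.2.1 u, F.pt_plane] at h
  rw [h, ← F.pt_plane T ![u 0, -u 1]]
  rfl

theorem psi_dH_row (K : F.Comp T) (u : Fin 2 → ZMod 3) :
    K.psi dH * F.D.il T (F.D.emb F.d u) * (K.psi dH)⁻¹ = F.D.il T (F.D.emb F.d ![u 0, -u 1]) := by
  have e : u = ![u 0, -(-u 1)] := by funext i; fin_cases i <;> simp
  conv_lhs => rw [e, ← K.row_val]
  show K.psi dH * K.psi (rowU (-u 1) (u 0)) * (K.psi dH)⁻¹ = _
  rw [← map_inv, ← map_mul, ← map_mul, tv_facts.2.2.2.2.2.2.2.2.2.2.2.2.2.2.2.2.1, neg_neg]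
  exact K.row_val _ _

theorem exists_torus {E : Data G} {hl : Linked F.D E} {hp : F.D.Pure E.z} {hE : F.D.pl F.d = F.D.Q ⊓ E.Q}
    (K : F.Comp T) (K₀ : (F.swap E hl hp hE).Comp T) :
    ∃ K' : (F.swap E hl hp hE).Comp T, K'.psi dH = K.psi dH := by
  set a := K.psi dH
  set b := K₀.psi dH
  set x := a⁻¹ * b with hx
  have hzz : b * F.z * b⁻¹ = F.z⁻¹ := psi_dH_z (F := F.swap E hl hp hE) K₀
  have haz : a⁻¹ * F.z⁻¹ * a = F.z := by rw [← psi_dH_z K]; simp only [a]; group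
  have hxC : x ∈ F.D.C := F.D.mem_C.2 (mul_inv_eq_iff_eq_mul.1 (by
    calc x * F.z * x⁻¹ = a⁻¹ * (b * F.z * b⁻¹) * a := by rw [hx]; group
      _ = F.z := by rw [hzz, haz]))
  have hat : Commute T.t a := by
    show _ = _; rw [← K.psi_dT, ← map_mul, ← map_mul, tv_facts.2.2.2.2.2.2.2.1]
  have hbt : Commute T.t b := by
    show _ = _; rw [← K₀.psi_dT, ← map_mul, ← map_mul, tv_facts.2.2.2.2.2.2.2.1]
  have hxt : T.t * x = x * T.t := ((hat.inv_right).mul_right hbt).eq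
  have hxQ : x ∈ F.D.Q := by
    refine (F.D.ker ⟨x, hxC⟩).1 ?_
    have hfix : ∀ u : Fin 2 → ZMod 3, (F.D.π ⟨x, hxC⟩).1 *ᵥ u = u := by
      intro u
      refine F.D.emb_injective F.hc F.c_ne ?_
      have e1 : x * F.D.il T (F.D.emb F.c u) * x⁻¹ = F.D.il T (F.D.emb F.c u) := by
        have eb : b * F.D.il T (F.D.emb F.c u) * b⁻¹ = F.D.il T (F.D.emb F.c ![u 0, -u 1]) :=
          psi_dH_row (F := F.swap E hl hp hE) K₀ u
        have ea := psi_dH_plane K u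
        calc x * F.D.il T (F.D.emb F.c u) * x⁻¹ = a⁻¹ * (b * F.D.il T (F.D.emb F.c u) * b⁻¹) * a := by rw [hx]; group
          _ = F.D.il T (F.D.emb F.c u) := by rw [eb, ← ea]; simp only [a]; group
      rw [F.D.il_conj T hxC hxt] at e1
      rw [← F.D.psi_emb F.hc, ← F.D.act_eq_psi, ← F.D.cl_il T (F.D.act ⟨x, hxC⟩ _)]
      conv_rhs => rw [← F.D.cl_il T (F.D.emb F.c u)]
      exact congrArg F.D.cl (Subtype.ext e1)
    exact sl_fix _ (hfix _) (hfix _)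
  obtain ⟨j, hj⟩ : ∃ j : ℕ, F.z ^ j * b * (F.z ^ j)⁻¹ = a := by
    have hk := F.zp_of_cent_t T hxQ hxt
    have hb : b = a * x := by rw [hx, mul_inv_cancel_left]
    have key : ∀ n : ℕ, F.z ^ n * b * (F.z ^ n)⁻¹ = a * (((F.z ^ n)⁻¹) * x * (F.z ^ n)⁻¹) := by
      intro n
      have hn : F.z ^ n * a = a * (F.z ^ n)⁻¹ := by
        have : a⁻¹ * F.z ^ n * a = (F.z ^ n)⁻¹ := by
          have hi : a⁻¹ * F.z * a = F.z⁻¹ := by
            rw [show a⁻¹ * F.z * a = (a⁻¹ * F.z⁻¹ * a)⁻¹ by group, haz]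
          calc a⁻¹ * F.z ^ n * a = (a⁻¹ * F.z * a) ^ n := by
                rw [show a⁻¹ * F.z * a = a⁻¹ * F.z * (a⁻¹)⁻¹ by rw [inv_inv], conj_pow, inv_inv]
            _ = (F.z ^ n)⁻¹ := by rw [hi, inv_pow]
        rw [← this]; group
      rw [hb, show F.z ^ n * (a * x) * (F.z ^ n)⁻¹ = (F.z ^ n * a) * x * (F.z ^ n)⁻¹ by group, hn]
      group
    rcases F.D.mem_zp hk with e | e | e
    · exact ⟨0, by rw [key, e]; simp⟩
    · exact ⟨2, by rw [key, e, show ((F.z ^ 2)⁻¹ * F.z * (F.z ^ 2)⁻¹) = (F.z ^ 3)⁻¹ by group, F.D.z_cube, inv_one, mul_one]⟩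
    · exact ⟨1, by rw [key, e, show ((F.z ^ 1)⁻¹ * (F.z * F.z) * (F.z ^ 1)⁻¹) = 1 by group, mul_one]⟩
  refine ⟨K₀.conjz j, ?_⟩
  rw [Comp.conjz_psi]
  exact hj

theorem tv10_comm {E : Data G} {hl : Linked F.D E} {hp : F.D.Pure E.z} {hE : F.D.pl F.d = F.D.Q ⊓ E.Q}
    (K : F.Comp T) (K' : (F.swap E hl hp hE).Comp T) (hchi : ∀ A, K.chi A = K'.chi A) (hh : K'.psi dH = K.psi dH) :
    Commute (K.psi (tv 1 0 1)) (K'.psi (tv 1 0 1)) := by
  set a := K.psi (tv 1 0 1)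
  set b := K'.psi (tv 1 0 1)
  set c0 := F.D.il T (F.D.emb F.c ![1, 0])
  set d0 := F.D.il T (F.D.emb F.d ![1, 0])
  set sU := K.chi uU with hsU
  have hz0 : F.pt T ![1, 1, 0] = F.z * c0 := by
    rw [show (![1, 1, 0] : Fin 3 → ZMod 3) = ![1, 0, 0] + ![0, (![1, 0] : Fin 2 → ZMod 3) 0, (![1, 0] : Fin 2 → ZMod 3) 1]
      by decide, F.pt_add, F.pt_single, F.pt_plane]
  have hz1 : (F.swap E hl hp hE).pt T ![1, 1, 0] = F.z * d0 := by
    rw [show (![1, 1, 0] : Fin 3 → ZMod 3) = ![1, 0, 0] + ![0, (![1, 0] : Fin 2 → ZMod 3) 0, (![1, 0] : Fin 2 → ZMod 3) 1]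
      by decide, (F.swap E hl hp hE).pt_add, (F.swap E hl hp hE).pt_single, (F.swap E hl hp hE).pt_plane]
  have hc0 : F.pt T ![0, 1, 0] = c0 := F.pt_plane T ![1, 0]
  have hd0 : (F.swap E hl hp hE).pt T ![0, 1, 0] = d0 := (F.swap E hl hp hE).pt_plane T ![1, 0]
  have hrA : K.psi (rowU 0 1) = d0 := by
    show K.row 0 1 = d0
    rw [K.row_val, neg_zero]
  have hrB : K'.psi (rowU 0 1) = c0 := by
    show K'.row 0 1 = c0
    rw [K'.row_val, neg_zero]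
  have hsB : K'.psi (blockB uU) = sU := (hchi uU).symm
  have az : a * F.z * a⁻¹ = F.z * c0 := by
    have e := K.psi_apply (tv 1 0 1) ![1, 0, 0]
    rwa [tv_facts.2.2.2.1, F.pt_single, hz0] at e
  have ac : a * c0 * a⁻¹ = c0 := by rw [← hc0, K.psi_apply, tv_facts.2.2.2.2.1]
  have ad : a * d0 * a⁻¹ = d0 * sU := by
    rw [← hrA, ← map_inv, ← map_mul, ← map_mul, tv_facts.2.2.2.2.2.1, map_mul]; rfl
  have as : a * sU * a⁻¹ = sU := by
    show a * K.psi (blockB uU) * a⁻¹ = _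
    rw [← map_mul, tv_facts.2.2.2.2.2.2.1, map_mul, mul_inv_cancel_right]; rfl
  have bz : b * F.z * b⁻¹ = F.z * d0 := by
    have h := K'.psi_apply (tv 1 0 1) ![1, 0, 0]
    rwa [tv_facts.2.2.2.1, (F.swap E hl hp hE).pt_single, hz1] at h
  have bd : b * d0 * b⁻¹ = d0 := by rw [← hd0, K'.psi_apply, tv_facts.2.2.2.2.1]
  have bc : b * c0 * b⁻¹ = c0 * sU := by
    rw [← hrB, ← map_inv, ← map_mul, ← map_mul, tv_facts.2.2.2.2.2.1, map_mul, hsB]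
  have bs : b * sU * b⁻¹ = sU := by
    rw [← hsB, ← map_mul, tv_facts.2.2.2.2.2.2.1, map_mul, mul_inv_cancel_right]
  have hcd : c0 * d0 = d0 * c0 := by
    refine (F.D.b_eq_zero (x := ⟨c0, F.D.il_mem T _⟩) (y := ⟨d0, F.D.il_mem T _⟩)).1 ?_
    rw [show F.D.cl ⟨c0, F.D.il_mem T _⟩ = _ from F.D.cl_il T _,
      show F.D.cl ⟨d0, F.D.il_mem T _⟩ = _ from F.D.cl_il T _, F.D.b_emb F.hc F.hd]
    simp
  have sd : sU * d0 = d0 * sU := by
    rw [← hrA, hsU, Comp.chi, MonoidHom.comp_apply, ← map_mul, ← map_mul, tv_facts.2.2.2.2.2.2.2.2.2.2.2.2.2.2.2.2.2.1]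
  have sc : sU * c0 = c0 * sU := mul_inv_eq_iff_eq_mul.1 (by
    show K.psi (blockB uU) * c0 * (K.psi (blockB uU))⁻¹ = c0
    rw [← hc0, K.psi_apply, tv_facts.2.2.2.2.2.2.2.2.2.2.2.2.2.2.2.2.2.2.1])
  -- the commutator centralises the four elements
  set y := (b * a)⁻¹ * (a * b) with hy
  have conj2 : ∀ w : G, a * (b * w * b⁻¹) * a⁻¹ = b * (a * w * a⁻¹) * b⁻¹ → Commute y w := by
    intro w hw
    refine mul_inv_eq_iff_eq_mul.1 ?_
    calc y * w * y⁻¹ = (b * a)⁻¹ * (a * (b * w * b⁻¹) * a⁻¹) * (b * a) := by rw [hy]; group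
      _ = w := by rw [hw]; group
  have cprod : ∀ g u v : G, g * (u * v) * g⁻¹ = g * u * g⁻¹ * (g * v * g⁻¹) := fun g u v => by group
  have yz : Commute y F.z := conj2 _ (by
    rw [bz, az, cprod, az, ad, cprod, bz, bc, show F.z * c0 * (d0 * sU) = F.z * (c0 * d0) * sU by group, hcd]
    group)
  have yc : Commute y c0 := conj2 _ (by rw [bc, ac, cprod, ac, as, bc])
  have yd : Commute y d0 := conj2 _ (by rw [bd, ad, cprod, bd, bs])
  have ys : Commute y sU := conj2 _ (by rw [bs, as, bs])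
  have hyC : y ∈ F.D.C := F.D.mem_C.2 yz.eq
  have hfix : (F.D.π ⟨y, hyC⟩).1 *ᵥ ![1, 0] = ![1, 0] := by
    refine F.D.emb_injective F.hc F.c_ne ?_
    rw [← F.D.psi_emb F.hc, ← F.D.act_eq_psi]
    conv_lhs => rw [← F.D.cl_il T (F.D.emb F.c ![1, 0]), F.D.act_cl]
    conv_rhs => rw [← F.D.cl_il T (F.D.emb F.c ![1, 0])]
    exact congrArg F.D.cl (Subtype.ext (mul_inv_eq_iff_eq_mul.2 yc.eq))
  obtain ⟨k, hk⟩ := uU_fix _ hfix
  set q := (K.chi (uU ^ k.val))⁻¹ * y with hq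
  have hqQ : q ∈ F.D.Q := F.D.eq_of_pi (a := ⟨_, K.chi_mem _⟩) (b := ⟨y, hyC⟩) ((K.pi_chi _).trans hk.symm)
  set h := K.psi (dH * dT) with hh'
  have hh2 : K'.psi (dH * dT) = h := by
    rw [hh', map_mul, map_mul, hh, K.psi_dT, K'.psi_dT]
  have ha : h * a * h⁻¹ = a := by
    rw [← map_inv, ← map_mul, ← map_mul, tv_facts.2.2.2.2.2.2.2.2.2.1, mul_inv_cancel_right]
  have hb : h * b * h⁻¹ = b := by
    rw [← hh2, ← map_inv, ← map_mul, ← map_mul, tv_facts.2.2.2.2.2.2.2.2.2.1, mul_inv_cancel_right]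
  have hz : h * F.z * h⁻¹ = F.z⁻¹ := by
    rw [← F.pt_single T, hh', K.psi_apply, tv_facts.2.2.2.2.2.2.2.2.2.2.1]
    refine eq_inv_of_mul_eq_one_left ?_
    rw [← F.pt_add, show (![-1, 0, 0] : Fin 3 → ZMod 3) + ![1, 0, 0] = 0 by decide, F.pt_zero]
  have hc : h * c0 * h⁻¹ = c0⁻¹ := by
    rw [← hc0, hh', K.psi_apply, tv_facts.2.2.2.2.2.2.2.2.2.2.2.1]
    refine eq_inv_of_mul_eq_one_left ?_
    rw [← F.pt_add, show (![0, -1, 0] : Fin 3 → ZMod 3) + ![0, 1, 0] = 0 by decide, F.pt_zero]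
  have hd : h * d0 * h⁻¹ = d0⁻¹ := by
    rw [← hrA, hh', ← map_inv, ← map_mul, ← map_mul, tv_facts.2.2.2.2.2.2.2.2.2.2.2.2.1, map_inv]
  have hs : h * sU * h⁻¹ = sU⁻¹ := by
    show h * K.psi (blockB uU) * h⁻¹ = (K.psi (blockB uU))⁻¹
    rw [hh', ← map_inv, ← map_mul, ← map_mul, tv_facts.2.2.2.2.2.2.2.2.2.2.2.2.2.1, map_inv]
  have hhy : h * y * h⁻¹ = y := by
    calc h * y * h⁻¹ = ((h * b * h⁻¹) * (h * a * h⁻¹))⁻¹ * ((h * a * h⁻¹) * (h * b * h⁻¹)) := by rw [hy]; group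
      _ = y := by rw [ha, hb]
  have hk0 : k.val = 0 := by
    have hqn : h * q * h⁻¹ ∈ F.D.Q := F.D.norm_Q (by rw [show F.D.z = F.z from rfl, hz]; exact inv_mem (mem_zpowers _)) hqQ
    have e : K.chi (uU ^ k.val) * K.chi (uU ^ k.val) = h * q * h⁻¹ * q⁻¹ := by
      rw [hq, map_pow, show h * ((K.chi uU ^ k.val)⁻¹ * y) * h⁻¹ = ((h * K.chi uU * h⁻¹) ^ k.val)⁻¹ * (h * y * h⁻¹)
        by rw [conj_pow]; group, hhy, ← hsU, hs, inv_pow, inv_inv]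
      group
    have h1 : F.D.π ⟨K.chi (uU ^ k.val * uU ^ k.val), K.chi_mem _⟩ = 1 := by
      refine (F.D.ker _).2 ?_
      show K.chi _ ∈ F.D.Q
      rw [map_mul, e]
      exact mul_mem hqn (inv_mem hqQ)
    rw [K.pi_chi] at h1
    revert h1
    exact (by decide +kernel : ∀ k : Fin 3, uU ^ k.val * uU ^ k.val = 1 → k.val = 0) k
  have hyQ : y ∈ F.D.Q := by
    rw [hq, hk0, pow_zero, map_one, inv_one, one_mul] at hqQ; exact hqQ
  obtain ⟨u, v, huv⟩ := F.coords (F.D.cl ⟨y, hyQ⟩)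
  have hu : u 1 = 0 := by
    have e := (F.D.b_eq_zero (x := ⟨y, hyQ⟩) (y := ⟨d0, F.D.il_mem T _⟩)).2 yd.eq
    rw [huv, show F.D.cl ⟨d0, F.D.il_mem T _⟩ = _ from F.D.cl_il T _, map_add, LinearMap.add_apply,
      F.D.b_emb F.hc F.hd, F.D.b_emb F.hd F.hd, F.cd, F.dd] at e
    simpa using e
  have hv : v 1 = 0 := by
    have e := (F.D.b_eq_zero (x := ⟨y, hyQ⟩) (y := ⟨c0, F.D.il_mem T _⟩)).2 yc.eq
    rw [huv, show F.D.cl ⟨c0, F.D.il_mem T _⟩ = _ from F.D.cl_il T _, map_add, LinearMap.add_apply,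
      F.D.b_emb F.hc F.hc, F.D.b_emb F.hd F.hc, F.dc, F.cc] at e
    simpa using e
  set m := c0 ^ (u 0).val * d0 ^ (v 0).val with hm
  have hmQ : m ∈ F.D.Q := mul_mem (pow_mem (F.D.il_mem T _) _) (pow_mem (F.D.il_mem T _) _)
  have hcl : F.D.cl ⟨m, hmQ⟩ = F.D.cl ⟨y, hyQ⟩ := by
    have hp : ∀ (x : F.D.Q) (n : ℕ), F.D.cl (x ^ n) = n • F.D.cl x := fun x n => by
      induction n with
      | zero => rw [pow_zero, zero_nsmul, Data.cl_one]
      | succ n ih => rw [pow_succ, Data.cl_mul, ih, succ_nsmul]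
    rw [show (⟨m, hmQ⟩ : F.D.Q) = (⟨c0, F.D.il_mem T _⟩ : F.D.Q) ^ (u 0).val * (⟨d0, F.D.il_mem T _⟩ : F.D.Q) ^ (v 0).val
      from rfl, Data.cl_mul, hp, hp, show F.D.cl ⟨d0, F.D.il_mem T _⟩ = _ from F.D.cl_il T _,
      show F.D.cl ⟨c0, F.D.il_mem T _⟩ = _ from F.D.cl_il T _, huv, ← map_nsmul, ← map_nsmul]
    congr 2 <;> funext i <;> fin_cases i <;> simp [hu, hv]
  obtain ⟨n, hn⟩ := Submonoid.mem_powers_iff _ _ |>.1 ((mem_powers_iff_mem_zpowers).2 (F.D.cl_eq_iff.1 hcl))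
  have hinv : h * y * h⁻¹ = y⁻¹ := by
    have e : y = m * F.z ^ n := by rw [show F.z ^ n = m⁻¹ * y from hn, mul_inv_cancel_left]
    have czc : Commute F.z c0 := (F.D.comm_z (F.D.Q_le (F.D.il_mem T _))).symm
    have czd : Commute F.z d0 := (F.D.comm_z (F.D.Q_le (F.D.il_mem T _))).symm
    rw [e, cprod, hm, cprod, ← conj_pow, ← conj_pow, ← conj_pow, hc, hd, hz, inv_pow, inv_pow, inv_pow,
      _root_.mul_inv_rev, _root_.mul_inv_rev]
    have h2 : Commute (c0 ^ (u 0).val) (d0 ^ (v 0).val) := (show Commute c0 d0 from hcd).pow_pow _ _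
    rw [← (h2.inv_inv).eq]
    exact ((czc.pow_pow n _).inv_inv.symm.mul_left (czd.pow_pow n _).inv_inv.symm).eq
  have hy2 : y * y = 1 := mul_eq_one_iff_eq_inv.2 (hhy.symm.trans hinv)
  have hy1 : y = 1 := by
    have := F.D.Q_exp y hyQ
    rwa [pow_succ, pow_two, hy2, one_mul] at this
  rw [hy] at hy1
  exact (inv_mul_eq_one.1 hy1).symm

end Fr

theorem sl2_word : ∀ A : SL23, ∃ a b c e : ZMod 3, A = upr a * lwr b * upr c * lwr e := by decide +kernel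

theorem blockA_facts : (∀ t : ZMod 3, blockA (upr t) = tv 0 1 t) ∧ (∀ t : ZMod 3, blockA (lwr t) = tv 1 0 t) := by
  decide +kernel

theorem tv10_fix : ∀ p r : ZMod 3, (tv (1 : Fin 3) 0 p : SL33).1 *ᵥ ![0, 0, r] = ![0, 0, r] := by decide +kernel

/-- The two parabolics with a common torus. -/
structure Two (G : Type*) [Group G] [Finite G] where
  /-- The frame. -/
  F : Fr G
  /-- The element of the Levi factor. -/
  T : Tor F.D
  case' : F.CaseTwo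
  /-- The data of the second plane. -/
  E : Data G
  hl : Linked F.D E
  hp : F.D.Pure E.z
  hE : F.D.pl F.d = F.D.Q ⊓ E.Q
  /-- The first complement. -/
  K : F.Comp T
  /-- The second complement. -/
  K' : (F.swap E hl hp hE).Comp T
  hchi : ∀ A, K.chi A = K'.chi A
  hh : K'.psi dH = K.psi dH

theorem exists_two [Finite G] (F : Fr G) (hc : F.CaseTwo) : ∃ P : Two G, P.F = F := by
  obtain ⟨T, hsQ, hsp⟩ := F.exists_tor
  obtain ⟨E, hl, hp, hE⟩ := F.exists_swap hc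
  obtain ⟨K⟩ := F.nonempty_comp T
  obtain ⟨K₀⟩ := (F.swap E hl hp hE).nonempty_comp T
  obtain ⟨K', hK'⟩ := Fr.exists_torus K K₀
  exact ⟨⟨F, T, hc, E, hl, hp, hE, K, K', Fr.chi_eq K K' hc hsQ (hsp hc), hK'⟩, rfl⟩

namespace Two

variable [Finite G] (P : Two G)

theorem far (A B : SL23) : Commute (P.K.psi (blockA A)) (P.K'.psi (theta (blockB B))) := by
  have h01 : ∀ p r : ZMod 3, Commute (P.K.psi (tv 0 1 p)) (P.K'.psi (tv 0 1 r)) := by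
    intro p r
    rw [tv_facts.1, tv_facts.1]
    show Commute (P.K.row p 0) (P.K'.row r 0)
    rw [P.K.row_val, P.K'.row_val]
    refine (P.F.D.b_eq_zero (x := ⟨_, P.F.D.il_mem P.T _⟩) (y := ⟨_, P.F.D.il_mem P.T _⟩)).1 ?_
    rw [show P.F.D.cl ⟨P.F.D.il P.T (P.F.D.emb P.F.d ![0, -p]), _⟩ = _ from P.F.D.cl_il P.T _,
      show P.F.D.cl ⟨P.F.D.il P.T (P.F.D.emb P.F.c ![0, -r]), _⟩ = _ from P.F.D.cl_il P.T _,
      P.F.D.b_emb P.F.hd P.F.hc]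
    simp
  have hA : ∀ p r : ZMod 3, Commute (P.K.psi (tv 1 0 p)) (P.K'.psi (tv 0 1 r)) := by
    intro p r
    have e : P.K'.psi (tv 0 1 r) = P.F.pt P.T ![0, 0, -r] := by
      rw [tv_facts.1]
      show P.K'.row r 0 = _
      rw [P.K'.row_val]
      exact (P.F.pt_plane P.T ![0, -r]).symm
    rw [e]
    refine mul_inv_eq_iff_eq_mul.1 ?_
    rw [P.K.psi_apply, tv10_fix]
  have hB : ∀ p r : ZMod 3, Commute (P.K.psi (tv 0 1 p)) (P.K'.psi (tv 1 0 r)) := by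
    intro p r
    have e : P.K.psi (tv 0 1 p) = (P.F.swap P.E P.hl P.hp P.hE).pt P.T ![0, 0, -p] := by
      rw [tv_facts.1]
      show P.K.row p 0 = _
      rw [P.K.row_val]
      exact ((P.F.swap P.E P.hl P.hp P.hE).pt_plane P.T ![0, -p]).symm
    rw [e]
    refine Commute.symm (mul_inv_eq_iff_eq_mul.1 ?_)
    rw [P.K'.psi_apply, tv10_fix]
  have h10 : ∀ p r : ZMod 3, Commute (P.K.psi (tv 1 0 p)) (P.K'.psi (tv 1 0 r)) := by
    intro p r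
    obtain ⟨n, hn⟩ : ∃ n : Fin 3, p = (n.val : ZMod 3) := ⟨⟨p.val, ZMod.val_lt p⟩, (ZMod.natCast_zmod_val p).symm⟩
    obtain ⟨m, hm⟩ : ∃ m : Fin 3, r = (m.val : ZMod 3) := ⟨⟨r.val, ZMod.val_lt r⟩, (ZMod.natCast_zmod_val r).symm⟩
    rw [tv_facts.2.2.2.2.2.2.2.2.2.2.2.2.2.2.2.2.2.2.2 p n hn, tv_facts.2.2.2.2.2.2.2.2.2.2.2.2.2.2.2.2.2.2.2 r m hm,
      map_pow, map_pow]
    exact (Fr.tv10_comm P.K P.K' P.hchi P.hh).pow_pow _ _
  have hgen : ∀ (g : G), (∀ t, Commute g (P.K'.psi (theta (blockB (upr t))))) →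
      (∀ t, Commute g (P.K'.psi (theta (blockB (lwr t))))) → ∀ B, Commute g (P.K'.psi (theta (blockB B))) := by
    intro g h1 h2 B
    obtain ⟨a, b, c, e, rfl⟩ := sl2_word B
    simp only [map_mul]
    exact (((h1 a).mul_right (h2 b)).mul_right (h1 c)).mul_right (h2 e)
  have hu : ∀ p, ∀ B, Commute (P.K.psi (tv 0 1 p)) (P.K'.psi (theta (blockB B))) := fun p => hgen _
    (fun t => by obtain ⟨u, h | h⟩ := theta_facts.2.1 t <;> rw [h]; exacts [h01 p u, hB p u])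
    (fun t => by obtain ⟨u, h | h⟩ := theta_facts.2.2 t <;> rw [h]; exacts [h01 p u, hB p u])
  have hl : ∀ p, ∀ B, Commute (P.K.psi (tv 1 0 p)) (P.K'.psi (theta (blockB B))) := fun p => hgen _
    (fun t => by obtain ⟨u, h | h⟩ := theta_facts.2.1 t <;> rw [h]; exacts [hA p u, h10 p u])
    (fun t => by obtain ⟨u, h | h⟩ := theta_facts.2.2 t <;> rw [h]; exacts [hA p u, h10 p u])
  obtain ⟨a, b, c, e, rfl⟩ := sl2_word A
  simp only [map_mul, blockA_facts.1, blockA_facts.2]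
  exact (((hu a B).mul_left (hl b B)).mul_left (hu c B)).mul_left (hl e B)

theorem exists_phi : ∃ Φ : SpecialLinearGroup (Fin 4) (ZMod 3) →* G,
    (∀ A, Φ (extSL (adjEmb (show 0 + 1 < 4 by omega)) A) = P.K.psi (blockA A)) ∧
    (∀ A, Φ (extSL (adjEmb (show 1 + 1 < 4 by omega)) A) = P.K.chi A) ∧
    (∀ A, Φ (extSL (adjEmb (show 2 + 1 < 4 by omega)) A) = P.K'.psi (theta (blockB A))) := by
  haveI : Fact (Nat.Prime 3) := ⟨Nat.prime_three⟩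
  let χ : ℕ → SL23 →* G := fun i => if i = 0 then P.K.psi.comp blockA else if i = 1 then P.K.chi else
    (P.K'.psi.comp theta).comp blockB
  let ψ : ℕ → SL33 →* G := fun i => if i = 0 then P.K.psi else P.K'.psi.comp theta
  obtain ⟨Φ, hΦ⟩ := exists_sl_hom (n := 3) χ ψ
    (by
      intro c hc
      have : c < 2 := by omega
      interval_cases c
      · rfl
      · refine MonoidHom.ext fun A => ?_
        show P.K'.psi (theta (blockA A)) = P.K.chi A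
        rw [theta_facts.1 A, P.hchi]; rfl)
    (by
      intro c hc
      have : c < 2 := by omega
      interval_cases c <;> rfl)
    (by
      intro i j hj hij a b
      obtain rfl : i = 0 := by omega
      obtain rfl : j = 2 := by omega
      exact (P.far a b).eq) 2 (by omega)
  exact ⟨Φ, fun A => hΦ 0 _ A, fun A => hΦ 1 _ A, fun A => hΦ 2 _ A⟩

/-- The homomorphism from `SL(4,3)`. -/
noncomputable def phi : SpecialLinearGroup (Fin 4) (ZMod 3) →* G := P.exists_phi.choose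

theorem phi_zero (A : SL23) : P.phi (extSL (adjEmb (show 0 + 1 < 4 by omega)) A) = P.K.psi (blockA A) :=
  P.exists_phi.choose_spec.1 A

theorem phi_one (A : SL23) : P.phi (extSL (adjEmb (show 1 + 1 < 4 by omega)) A) = P.K.chi A :=
  P.exists_phi.choose_spec.2.1 A

theorem phi_two (A : SL23) : P.phi (extSL (adjEmb (show 2 + 1 < 4 by omega)) A) = P.K'.psi (theta (blockB A)) :=
  P.exists_phi.choose_spec.2.2 A

end Two

end Cfsg.Lib.LFourThree
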