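import Cfsg.Agent.Lib.PSpThree.Setup
import Mathlib.Algebra.Module.ZMod

/-!
# An element of order three with centraliser `3^(1+4).SL(2,3)`: the module `Q / Z` and its form
-/

set_option autoImplicit false
set_option linter.unusedSectionVars false
set_option linter.style.haveILetI false

namespace Cfsg.Lib.LFourThree

open Subgroup Cfsg.Lib.PSpThree

/-- The centralizer of the element and its quotient map. -/
structure Data (G : Type*) [Group G] where
  /-- The element. -/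
  z : G
  hz : orderOf z = 3
  /-- The extraspecial subgroup. -/
  Q : Subgroup G
  Q_le : Q ≤ centralizer ({z} : Set G)
  z_mem : z ∈ Q
  Q_card : Nat.card Q = 243
  Q_exp : ∀ x ∈ Q, x ^ 3 = 1
  Q_center : ∀ x ∈ Q, (∀ y ∈ Q, x * y = y * x) → x ∈ zpowers z
  Q_comm : ∀ x ∈ Q, ∀ y ∈ Q, x * y * x⁻¹ * y⁻¹ ∈ zpowers z
  /-- The quotient map. -/
  π : centralizer ({z} : Set G) →* SL23
  surj : Function.Surjective π
  ker : ∀ c, π c = 1 ↔ (c : G) ∈ Q
  inv : ∀ c : centralizer ({z} : Set G), π c = -1 → ∀ x ∈ Q, (c : G) * x * (c : G)⁻¹ * x ∈ zpowers z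

variable {G : Type*} [Group G]

namespace Data

variable (D : Data G)

/-- The centralizer. -/
abbrev C : Subgroup G := centralizer ({D.z} : Set G)

theorem mem_C {g : G} : g ∈ D.C ↔ g * D.z = D.z * g := mem_centralizer_singleton_iff

theorem comm_z {g : G} (hg : g ∈ D.C) : g * D.z = D.z * g := D.mem_C.1 hg

theorem z_mem_C : D.z ∈ D.C := D.mem_C.2 rfl

theorem z_cube : D.z ^ 3 = 1 := by rw [← D.hz]; exact pow_orderOf_eq_one _

theorem z_ne : D.z ≠ 1 := fun h => by simpa [h] using D.hz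

theorem zp_le_Q : zpowers D.z ≤ D.Q := zpowers_le.2 D.z_mem

theorem mem_zp {x : G} (hx : x ∈ zpowers D.z) : x = 1 ∨ x = D.z ∨ x = D.z * D.z := by
  obtain ⟨k, rfl⟩ := hx
  show D.z ^ k = 1 ∨ D.z ^ k = D.z ∨ D.z ^ k = D.z * D.z
  rw [← zpow_mod_orderOf, D.hz]
  rcases (by omega : k % ((3 : ℕ) : ℤ) = 0 ∨ k % ((3 : ℕ) : ℤ) = 1 ∨ k % ((3 : ℕ) : ℤ) = 2) with h | h | h <;>
    rw [h] <;> simp [pow_two, zpow_ofNat]

theorem zp_central {x g : G} (hx : x ∈ zpowers D.z) (hg : g ∈ D.C) : g * x * g⁻¹ = x := by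
  obtain ⟨k, rfl⟩ := hx
  show g * D.z ^ k * g⁻¹ = D.z ^ k
  rw [((show Commute g D.z from D.comm_z hg).zpow_right k).eq, mul_inv_cancel_right]

theorem conj_Q {g x : G} (hg : g ∈ D.C) (hx : x ∈ D.Q) : g * x * g⁻¹ ∈ D.Q := by
  have h1 : D.π (⟨g, hg⟩ * ⟨x, D.Q_le hx⟩ * ⟨g, hg⟩⁻¹) = 1 := by
    rw [map_mul, map_mul, (D.ker ⟨x, D.Q_le hx⟩).2 hx, mul_one, map_inv, mul_inv_cancel]
  simpa using (D.ker _).1 h1

theorem pi_Q {x : G} (hx : x ∈ D.Q) : D.π ⟨x, D.Q_le hx⟩ = 1 := (D.ker _).2 hx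

theorem eq_of_pi {a b : D.C} (h : D.π a = D.π b) : (a : G)⁻¹ * b ∈ D.Q := by
  have : D.π (a⁻¹ * b) = 1 := by rw [map_mul, map_inv, h, inv_mul_cancel]
  simpa using (D.ker _).1 this

theorem card_C : Nat.card D.C = 5832 := by
  have hk : Nat.card D.π.ker = 243 := by
    rw [← D.Q_card]
    exact Nat.card_congr ⟨fun c => ⟨c.1.1, (D.ker _).1 c.2⟩, fun r => ⟨⟨r.1, D.Q_le r.2⟩, (D.ker _).2 r.2⟩,
      fun _ => rfl, fun _ => rfl⟩
  have h := card_mul_index D.π.ker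
  rw [index_ker, MonoidHom.range_eq_top.2 D.surj, Subgroup.card_top, sl_facts.2.2.2.2.2.2.2, hk] at h
  exact h.symm

/-- The centre of `Q`, inside `Q`. -/
def Zs : Subgroup D.Q := (zpowers D.z).subgroupOf D.Q

theorem mem_Zs {x : D.Q} : x ∈ D.Zs ↔ (x : G) ∈ zpowers D.z := mem_subgroupOf

instance Zs_normal : D.Zs.Normal :=
  ⟨fun x hx g => mem_subgroupOf.2 (by
    have := D.zp_central (mem_subgroupOf.1 hx) (D.Q_le g.2)
    simpa [this] using (mem_subgroupOf.1 hx))⟩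

instance : CommGroup (D.Q ⧸ D.Zs) :=
  { (inferInstance : Group (D.Q ⧸ D.Zs)) with
    mul_comm := by
      intro a b
      induction a using QuotientGroup.induction_on with
      | H x => induction b using QuotientGroup.induction_on with
        | H y =>
          refine QuotientGroup.eq.2 (mem_subgroupOf.2 ?_)
          have := D.Q_comm _ (inv_mem y.2) _ (inv_mem x.2)
          simpa [mul_assoc] using this }

/-- The symplectic space. -/
abbrev W : Type _ := Additive (D.Q ⧸ D.Zs)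

/-- The class of an element. -/
def cl (x : D.Q) : D.W := Additive.ofMul (QuotientGroup.mk x)

theorem cl_surj (w : D.W) : ∃ x : D.Q, D.cl x = w := QuotientGroup.mk_surjective (Additive.toMul w)

theorem cl_mul (x y : D.Q) : D.cl (x * y) = D.cl x + D.cl y := rfl

theorem cl_one : D.cl 1 = 0 := rfl

theorem cl_inv (x : D.Q) : D.cl x⁻¹ = -D.cl x := rfl

theorem cl_eq_iff {x y : D.Q} : D.cl x = D.cl y ↔ (x : G)⁻¹ * y ∈ zpowers D.z := by
  refine (Additive.ofMul.apply_eq_iff_eq.trans QuotientGroup.eq).trans ?_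
  rw [mem_Zs]; rfl

theorem cl_eq_zero {x : D.Q} : D.cl x = 0 ↔ (x : G) ∈ zpowers D.z := by
  rw [← cl_one, cl_eq_iff]; simp

theorem three_nsmul (w : D.W) : 3 • w = 0 := by
  obtain ⟨x, rfl⟩ := D.cl_surj w
  have e : x ^ 3 = 1 := Subtype.ext (D.Q_exp x x.2)
  show Additive.ofMul ((QuotientGroup.mk x : D.Q ⧸ D.Zs) ^ 3) = 0
  rw [← QuotientGroup.mk_pow, e]; rfl

instance instModuleW : Module (ZMod 3) D.W := AddCommGroup.zmodModule D.three_nsmul

/-- Conjugation on `Q`. -/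
def conjQ (c : D.C) : D.Q →* D.Q where
  toFun x := ⟨(c : G) * x * (c : G)⁻¹, D.conj_Q c.2 x.2⟩
  map_one' := Subtype.ext (by simp)
  map_mul' x y := Subtype.ext (by simp [mul_assoc])

/-- The action on `Q / Z`. -/
noncomputable def act (c : D.C) : Module.End (ZMod 3) D.W :=
  AddMonoidHom.toZModLinearMap 3 (MonoidHom.toAdditive (QuotientGroup.map D.Zs D.Zs (D.conjQ c) fun x hx =>
    Subgroup.mem_comap.2 (D.mem_Zs.2 (by
      show (c : G) * x * (c : G)⁻¹ ∈ zpowers D.z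
      rw [D.zp_central (D.mem_Zs.1 hx) c.2]
      exact D.mem_Zs.1 hx))))

theorem act_cl (c : D.C) (x : D.Q) : D.act c (D.cl x) = D.cl ⟨(c : G) * x * (c : G)⁻¹, D.conj_Q c.2 x.2⟩ := rfl

theorem act_one : D.act 1 = 1 := by
  refine LinearMap.ext fun w => ?_
  obtain ⟨x, rfl⟩ := D.cl_surj w
  rw [act_cl]
  exact congrArg D.cl (Subtype.ext (by simp))

theorem act_mul (a b : D.C) : D.act (a * b) = D.act a * D.act b := by
  refine LinearMap.ext fun w => ?_
  obtain ⟨x, rfl⟩ := D.cl_surj w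
  rw [Module.End.mul_apply, act_cl, act_cl, act_cl]
  exact congrArg D.cl (Subtype.ext (by simp [mul_assoc]))

theorem act_Q {c : D.C} (h : D.π c = 1) : D.act c = 1 := by
  refine LinearMap.ext fun w => ?_
  obtain ⟨x, rfl⟩ := D.cl_surj w
  rw [act_cl, Module.End.one_apply, cl_eq_iff]
  have := D.Q_comm _ ((D.ker c).1 h) _ (inv_mem x.2)
  simpa [mul_assoc] using this

theorem act_congr {a b : D.C} (h : D.π a = D.π b) : D.act a = D.act b := by
  have h1 : D.π (a⁻¹ * b) = 1 := by rw [map_mul, map_inv, h, inv_mul_cancel]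
  rw [show b = a * (a⁻¹ * b) by group, act_mul, D.act_Q h1, mul_one]

theorem act_neg {c : D.C} (h : D.π c = -1) : D.act c = -1 := by
  refine LinearMap.ext fun w => ?_
  obtain ⟨x, rfl⟩ := D.cl_surj w
  rw [act_cl, LinearMap.neg_apply, Module.End.one_apply, ← cl_inv, cl_eq_iff]
  have := D.inv c h _ (inv_mem x.2)
  simpa [mul_assoc] using this

/-- A preimage. -/
noncomputable def lift (A : SL23) : D.C := (D.surj A).choose

theorem pi_lift (A : SL23) : D.π (D.lift A) = A := (D.surj A).choose_spec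

/-- The action of the quotient. -/
noncomputable def rho : SL23 →* Module.End (ZMod 3) D.W where
  toFun A := D.act (D.lift A)
  map_one' := by rw [← D.act_one]; exact D.act_congr (by rw [pi_lift, map_one])
  map_mul' A B := by rw [← act_mul]; exact D.act_congr (by rw [map_mul, pi_lift, pi_lift, pi_lift])

theorem act_eq_rho (c : D.C) : D.act c = D.rho (D.π c) := D.act_congr (D.pi_lift _).symm

theorem rho_neg_one : D.rho (-1) = -1 := D.act_neg (D.pi_lift _)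

/-- The exponent of a power of `z`. -/
noncomputable def lg (u : G) : ZMod 3 :=
  open Classical in if u = 1 then 0 else if u = D.z then 1 else 2

theorem lg_pow (n : ℕ) : D.lg (D.z ^ n) = (n : ZMod 3) := by
  have h2 : D.z ^ 2 ≠ 1 := pow_ne_one_of_lt_orderOf two_ne_zero (by rw [D.hz]; norm_num)
  have h21 : D.z ^ 2 ≠ D.z := fun h => D.z_ne (by rwa [pow_two, mul_eq_left] at h)
  rw [← pow_mod_orderOf, D.hz, ← ZMod.natCast_mod n 3]
  have := Nat.mod_lt n (show 3 > 0 by norm_num)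
  interval_cases n % 3
  · simp [lg]
  · simp [lg, D.z_ne]
  · simp [lg, h2, h21]

theorem lg_spec {u : G} (hu : u ∈ zpowers D.z) : u = D.z ^ (D.lg u).val := by
  rcases D.mem_zp hu with rfl | rfl | rfl
  · simp [lg]
  · simp [lg, D.z_ne, ZMod.val_one]
  · rw [← pow_two, D.lg_pow, show ((2 : ℕ) : ZMod 3).val = 2 from rfl]

theorem lg_mul {u v : G} (hu : u ∈ zpowers D.z) (hv : v ∈ zpowers D.z) : D.lg (u * v) = D.lg u + D.lg v := by
  conv_lhs => rw [D.lg_spec hu, D.lg_spec hv, ← pow_add, D.lg_pow, Nat.cast_add]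
  simp

theorem lg_eq_zero {u : G} (hu : u ∈ zpowers D.z) : D.lg u = 0 ↔ u = 1 := by
  refine ⟨fun h => by rw [D.lg_spec hu, h]; simp, fun h => by simp [lg, h]⟩

/-- The commutator form. -/
noncomputable def bfun (u v : D.W) : ZMod 3 :=
  let x := ((D.cl_surj u).choose : G)
  let y := ((D.cl_surj v).choose : G)
  D.lg (x * y * x⁻¹ * y⁻¹)

theorem comm_congr {x y a b : G} (hy : y ∈ D.Q) (ha : a ∈ zpowers D.z) (hb : b ∈ zpowers D.z) (hx : x ∈ D.Q) :
    (x * a) * (y * b) * (x * a)⁻¹ * (y * b)⁻¹ = x * y * x⁻¹ * y⁻¹ := by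
  have ca : a * (y * b) * a⁻¹ = y * b := by
    have h := D.zp_central ha (mul_mem (D.Q_le hy) (D.Q_le (D.zp_le_Q hb)))
    calc a * (y * b) * a⁻¹ = ((y * b) * a * (y * b)⁻¹) * (y * b) * a⁻¹ := by rw [h]
      _ = y * b := by group
  have cb := D.zp_central hb (D.Q_le hx)
  calc (x * a) * (y * b) * (x * a)⁻¹ * (y * b)⁻¹ = x * (a * (y * b) * a⁻¹) * x⁻¹ * (y * b)⁻¹ := by group
    _ = x * y * x⁻¹ * (x * b * x⁻¹) * b⁻¹ * y⁻¹ := by rw [ca]; group
    _ = x * y * x⁻¹ * y⁻¹ := by rw [cb, mul_inv_cancel_right]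

theorem bfun_cl (x y : D.Q) : D.bfun (D.cl x) (D.cl y) = D.lg ((x : G) * y * (x : G)⁻¹ * (y : G)⁻¹) := by
  have hx := D.cl_eq_iff.1 (D.cl_surj (D.cl x)).choose_spec
  have hy := D.cl_eq_iff.1 (D.cl_surj (D.cl y)).choose_spec
  simp only [bfun]
  set a := (D.cl_surj (D.cl x)).choose
  set b := (D.cl_surj (D.cl y)).choose
  have h := D.comm_congr b.2 hx hy a.2
  rw [← h]; group

theorem bfun_add_left (u u' v : D.W) : D.bfun (u + u') v = D.bfun u v + D.bfun u' v := by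
  obtain ⟨x, rfl⟩ := D.cl_surj u
  obtain ⟨x', rfl⟩ := D.cl_surj u'
  obtain ⟨y, rfl⟩ := D.cl_surj v
  rw [← cl_mul, bfun_cl, bfun_cl, bfun_cl, ← D.lg_mul (D.Q_comm _ x.2 _ y.2) (D.Q_comm _ x'.2 _ y.2),
    Subgroup.coe_mul]
  congr 1
  have h := D.zp_central (D.Q_comm _ x'.2 _ y.2) (D.Q_le x.2)
  calc (x : G) * x' * y * ((x : G) * x')⁻¹ * (y : G)⁻¹ =
      ((x : G) * ((x' : G) * y * (x' : G)⁻¹ * (y : G)⁻¹) * (x : G)⁻¹) * ((x : G) * y * (x : G)⁻¹ * (y : G)⁻¹) := by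
        group
    _ = _ := by
        rw [h]
        exact setLike_mul_comm (s := zpowers D.z) (D.Q_comm _ x'.2 _ y.2) (D.Q_comm _ x.2 _ y.2)

theorem bfun_swap (u v : D.W) : D.bfun v u = -D.bfun u v := by
  obtain ⟨x, rfl⟩ := D.cl_surj u
  obtain ⟨y, rfl⟩ := D.cl_surj v
  rw [eq_neg_iff_add_eq_zero, bfun_cl, bfun_cl, ← D.lg_mul (D.Q_comm _ y.2 _ x.2) (D.Q_comm _ x.2 _ y.2),
    show (y : G) * x * (y : G)⁻¹ * (x : G)⁻¹ * ((x : G) * y * (x : G)⁻¹ * (y : G)⁻¹) = 1 by group]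
  exact (D.lg_eq_zero (one_mem _)).2 rfl

theorem bfun_add_right (u v v' : D.W) : D.bfun u (v + v') = D.bfun u v + D.bfun u v' := by
  rw [D.bfun_swap (v + v'), D.bfun_swap v, D.bfun_swap v', bfun_add_left, neg_add]

/-- The form as a bilinear map. -/
noncomputable def b : D.W →ₗ[ZMod 3] D.W →ₗ[ZMod 3] ZMod 3 :=
  AddMonoidHom.toZModLinearMap 3 (AddMonoidHom.mk'
    (fun u => AddMonoidHom.toZModLinearMap 3 (AddMonoidHom.mk' (D.bfun u) (D.bfun_add_right u)))
    fun u u' => LinearMap.ext fun v => D.bfun_add_left u u' v)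

theorem b_cl (x y : D.Q) : D.b (D.cl x) (D.cl y) = D.lg ((x : G) * y * (x : G)⁻¹ * (y : G)⁻¹) := D.bfun_cl x y

theorem b_swap (u v : D.W) : D.b v u = -D.b u v := D.bfun_swap u v

theorem b_self (u : D.W) : D.b u u = 0 := by
  have h := D.b_swap u u
  revert h
  generalize D.b u u = k
  revert k; decide

theorem b_eq_zero {x y : D.Q} : D.b (D.cl x) (D.cl y) = 0 ↔ (x : G) * y = y * x := by
  rw [b_cl, D.lg_eq_zero (D.Q_comm _ x.2 _ y.2), mul_inv_eq_one, mul_inv_eq_iff_eq_mul]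

theorem b_nondeg {u : D.W} (h : ∀ v, D.b u v = 0) : u = 0 := by
  obtain ⟨x, rfl⟩ := D.cl_surj u
  exact D.cl_eq_zero.2 (D.Q_center _ x.2 fun y hy => D.b_eq_zero.1 (h (D.cl ⟨y, hy⟩)))

theorem b_act (c : D.C) (u v : D.W) : D.b (D.act c u) (D.act c v) = D.b u v := by
  obtain ⟨x, rfl⟩ := D.cl_surj u
  obtain ⟨y, rfl⟩ := D.cl_surj v
  rw [act_cl, act_cl, b_cl, b_cl,
    show (c : G) * x * (c : G)⁻¹ * ((c : G) * y * (c : G)⁻¹) * ((c : G) * x * (c : G)⁻¹)⁻¹ *
      ((c : G) * y * (c : G)⁻¹)⁻¹ = (c : G) * ((x : G) * y * (x : G)⁻¹ * (y : G)⁻¹) * (c : G)⁻¹ by group,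
    D.zp_central (D.Q_comm _ x.2 _ y.2) c.2]

theorem b_rho (A : SL23) (u v : D.W) : D.b (D.rho A u) (D.rho A v) = D.b u v := D.b_act _ u v

theorem card_W [Finite G] : Nat.card D.W = 81 := by
  have h := Subgroup.card_mul_index D.Zs
  rw [show Nat.card D.Zs = _ from Nat.card_congr (subgroupOfEquivOfLe D.zp_le_Q).toEquiv, Nat.card_zpowers, D.hz, D.Q_card] at h
  rw [Nat.card_congr Additive.toMul, ← Subgroup.index_eq_card]
  omega

end Data

end Cfsg.Lib.LFourThree
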