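import Cfsg.Agent.Lib.LFourThree.Amalgam
import Cfsg.Agent.Lib.Linear.SLBasic

/-!
# The image of `SL(4,3)` and its fusion
-/

set_option autoImplicit false
set_option linter.unusedSectionVars false
set_option linter.style.haveILetI false
set_option maxRecDepth 100000
set_option maxHeartbeats 4000000

namespace Cfsg.Lib.LFourThree

open Subgroup Cfsg.Lib.PSpThree Matrix Cfsg.Lib.Recog.SingleBond Cfsg.Lib.Chev
open scoped MatrixGroups

/-- The special linear group in dimension four over three elements. -/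
abbrev SL43 : Type := Matrix.SpecialLinearGroup (Fin 4) (ZMod 3)

/-- Upper unitriangular elements. -/
def upM (a b c d e f : ZMod 3) : SL43 :=
  ⟨!![1, a, b, c; 0, 1, d, e; 0, 0, 1, f; 0, 0, 0, 1], by simp [Matrix.det_succ_row_zero, Fin.sum_univ_succ]⟩

/-- The elements of the extraspecial subgroup. -/
def qM (w u0 u1 v0 v1 : ZMod 3) : SL43 :=
  tS 0 3 w * tS 0 2 v0 * tS 0 1 (-v1) * tS 1 3 u0 * tS 2 3 u1

/-- The central involution. -/
def nI : SL43 := ⟨!![-1, 0, 0, 0; 0, -1, 0, 0; 0, 0, -1, 0; 0, 0, 0, -1], by decide +kernel⟩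

theorem nI_facts : (∀ g : SL43, nI * g = g * nI) ∧ nI * nI = 1 := by
  refine ⟨fun g => Subtype.ext ?_, by decide +kernel⟩
  show nI.1 * g.1 = g.1 * nI.1
  rw [show nI.1 = -1 by decide +kernel, neg_mul, mul_neg, one_mul, mul_one]

/-- Six elements carrying elements of order three into the extraspecial subgroup. -/
def conjList : List SL43 :=
  [⟨!![1, 0, 0, 0; 1, 1, 0, 0; 0, 0, 1, 0; 0, 0, 0, 1], by decide +kernel⟩,
   ⟨!![1, 0, 0, 0; 2, 1, 0, 0; 0, 0, 1, 0; 0, 0, 0, 1], by decide +kernel⟩,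
   ⟨!![0, 1, 0, 0; 2, 0, 0, 0; 0, 0, 1, 0; 0, 0, 0, 1], by decide +kernel⟩,
   ⟨!![1, 0, 0, 0; 0, 1, 0, 0; 0, 0, 1, 0; 0, 0, 1, 1], by decide +kernel⟩,
   ⟨!![1, 0, 0, 0; 0, 1, 0, 0; 0, 0, 1, 0; 0, 0, 2, 1], by decide +kernel⟩,
   ⟨!![2, 0, 0, 0; 0, 1, 0, 0; 0, 0, 0, 1; 0, 0, 1, 0], by decide +kernel⟩]

theorem qM_eq : ∀ w u0 u1 v0 v1 : ZMod 3, qM w u0 u1 v0 v1 = upM (-v1) v0 (w + v0 * u1 - v1 * u0) 0 u0 u1 := by
  decide +kernel

theorem qM_upr : ∀ w u0 u1 v0 v1 k : ZMod 3, qM w u0 u1 v0 v1 * tS 1 2 k =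
    upM (-v1) (v0 - v1 * k) (w + v0 * u1 - v1 * u0) k u0 u1 := by
  decide +kernel

theorem conj_into_Q : ∀ a b c d e f : ZMod 3, upM a b c d e f ^ 3 = 1 → d = 0 ∨
    ∃ g ∈ conjList, g * upM a b c d e f * g⁻¹ =
      upM ((g * upM a b c d e f * g⁻¹).1 0 1) ((g * upM a b c d e f * g⁻¹).1 0 2)
        ((g * upM a b c d e f * g⁻¹).1 0 3) 0 ((g * upM a b c d e f * g⁻¹).1 1 3)
        ((g * upM a b c d e f * g⁻¹).1 2 3) := by
  decide +kernel

theorem theta_upr : ∀ t : ZMod 3, theta (blockB (upr t)) = tv 0 1 (-t) ∧ theta (blockB (lwr t)) = tv 1 0 (-t) := by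
  decide +kernel

theorem tS_facts : ∀ t : ZMod 3, tS (0 : Fin 4) 2 t = tS 0 1 t * tS 1 2 1 * (tS 0 1 t)⁻¹ * (tS (1 : Fin 4) 2 (1 : ZMod 3))⁻¹ ∧
    tS (1 : Fin 4) 3 t = tS 1 2 t * tS 2 3 1 * (tS 1 2 t)⁻¹ * (tS (2 : Fin 4) 3 (1 : ZMod 3))⁻¹ ∧
    tS (0 : Fin 4) 3 t = tS 0 1 t * tS 1 3 1 * (tS 0 1 t)⁻¹ * (tS (1 : Fin 4) 3 (1 : ZMod 3))⁻¹ ∧
    (tS (0 : Fin 3) 1 t : SL33) * blockB (upr 1) * (tS 0 1 t)⁻¹ * (blockB (upr 1))⁻¹ = rowU 0 t ∧
    (tS (0 : Fin 3) 1 t : SL33) = rowU t 0 ∧ (blockB (upr t)).1 *ᵥ ![0, 0, 1] = ![0, t, 1] := by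
  decide +kernel

namespace Two

variable {G : Type*} [Group G] [Finite G] (P : Two G)

/-- The subgroup isomorphic to `PSL(4,3)`. -/
noncomputable abbrev G0 : Subgroup G := P.phi.range

theorem phi_mem (g : SL43) : P.phi g ∈ P.G0 := ⟨g, rfl⟩

theorem phi_01 (t : ZMod 3) : P.phi (tS 0 1 t) = P.F.D.il P.T (P.F.D.emb P.F.d ![0, -t]) := by
  have h := P.phi_zero (upr t)
  rw [adjEmb_upr, blockA_facts.1, tv_facts.1] at h
  exact h.trans (P.K.row_val t 0)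

theorem phi_12 (t : ZMod 3) : P.phi (tS 1 2 t) = P.K.chi (upr t) := by
  have h := P.phi_one (upr t)
  rwa [adjEmb_upr] at h

theorem phi_23 (t : ZMod 3) : P.phi (tS 2 3 t) = P.F.D.il P.T (P.F.D.emb P.F.c ![0, t]) := by
  have h := P.phi_two (upr t)
  rw [adjEmb_upr, (theta_upr t).1, tv_facts.1] at h
  have e := P.K'.row_val (-t) 0
  rw [neg_neg] at e
  exact h.trans e

theorem phi_02 (t : ZMod 3) : P.phi (tS 0 2 t) = P.F.D.il P.T (P.F.D.emb P.F.d ![t, 0]) := by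
  rw [(tS_facts t).1, map_mul, map_mul, map_mul, map_inv, map_inv, phi_12]
  have h0 : P.phi (tS 0 1 t) = P.K.psi (tS 0 1 t) := by
    rw [phi_01, (tS_facts t).2.2.2.2.1]
    exact (P.K.row_val t 0).symm
  rw [h0, show P.K.chi (upr 1) = P.K.psi (blockB (upr 1)) from rfl, ← map_inv, ← map_inv, ← map_mul, ← map_mul,
    ← map_mul, (tS_facts t).2.2.2.1]
  exact (P.K.row_val 0 t).trans (by rw [neg_zero])

theorem chi_plane (A : SL23) (u : Fin 2 → ZMod 3) :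
    P.K.chi A * P.F.D.il P.T (P.F.D.emb P.F.c u) * (P.K.chi A)⁻¹ = P.F.D.il P.T (P.F.D.emb P.F.c (A.1 *ᵥ u)) := by
  have e := P.K.psi_apply (blockB A) ![0, u 0, u 1]
  rw [(blockB_facts.2.1 A).2, P.F.pt_plane, P.F.pt_plane] at e
  exact e

theorem phi_13 (t : ZMod 3) : P.phi (tS 1 3 t) = P.F.D.il P.T (P.F.D.emb P.F.c ![t, 0]) := by
  rw [(tS_facts t).2.1, map_mul, map_mul, map_mul, map_inv, map_inv, phi_12, phi_23, chi_plane,
    show ((upr t : SL23).1 *ᵥ ![0, 1] : Fin 2 → ZMod 3) = ![t, 0] + ![0, 1] by revert t; decide +kernel,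
    P.F.il_emb_add P.T, mul_inv_cancel_right]

theorem il_emb_c_z (t : ZMod 3) :
    P.F.D.il P.T (P.F.D.emb P.F.d ![0, -t]) * P.F.D.il P.T (P.F.D.emb P.F.c ![1, 0]) *
      (P.F.D.il P.T (P.F.D.emb P.F.d ![0, -t]))⁻¹ * (P.F.D.il P.T (P.F.D.emb P.F.c ![1, 0]))⁻¹ = P.F.z ^ t.val := by
  set x : P.F.D.Q := ⟨_, P.F.D.il_mem P.T (P.F.D.emb P.F.d ![0, -t])⟩
  set y : P.F.D.Q := ⟨_, P.F.D.il_mem P.T (P.F.D.emb P.F.c ![1, 0])⟩
  have h := P.F.D.b_cl x y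
  rw [show P.F.D.cl x = _ from P.F.D.cl_il P.T _, show P.F.D.cl y = _ from P.F.D.cl_il P.T _,
    P.F.D.b_emb P.F.hd P.F.hc, P.F.dc] at h
  have e : P.F.D.lg ((x : G) * y * (x : G)⁻¹ * (y : G)⁻¹) = t := by rw [← h]; simp
  have e2 := P.F.D.lg_spec (P.F.D.Q_comm _ x.2 _ y.2)
  rw [e] at e2
  exact e2

theorem phi_03 (t : ZMod 3) : P.phi (tS 0 3 t) = P.F.z ^ t.val := by
  rw [(tS_facts t).2.2.1, map_mul, map_mul, map_mul, map_inv, map_inv, phi_01, phi_13, il_emb_c_z]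

theorem phi_z : P.phi (tS 0 3 1) = P.F.z := by rw [phi_03, ZMod.val_one, pow_one]

theorem phi_qM (w u0 u1 v0 v1 : ZMod 3) : P.phi (qM w u0 u1 v0 v1) = P.F.z ^ w.val *
    P.F.D.il P.T (P.F.D.emb P.F.d ![v0, v1]) * P.F.D.il P.T (P.F.D.emb P.F.c ![u0, u1]) := by
  have hd := (P.F.swap P.E P.hl P.hp P.hE).il_emb_add P.T ![v0, 0] ![0, v1]
  have hc := P.F.il_emb_add P.T ![u0, 0] ![0, u1]
  rw [show (![v0, 0] : Fin 2 → ZMod 3) + ![0, v1] = ![v0, v1] by simp] at hd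
  rw [show (![u0, 0] : Fin 2 → ZMod 3) + ![0, u1] = ![u0, u1] by simp] at hc
  rw [qM, map_mul, map_mul, map_mul, map_mul, phi_03, phi_02, phi_01, phi_13, phi_23, neg_neg, hc, hd]
  simp only [mul_assoc]

theorem exists_qM {y : G} (hy : y ∈ P.F.D.Q) : ∃ w u0 u1 v0 v1, P.phi (qM w u0 u1 v0 v1) = y := by
  obtain ⟨u, v, huv⟩ := P.F.coords (P.F.D.cl ⟨y, hy⟩)
  set a := P.F.D.il P.T (P.F.D.emb P.F.d v)
  set b := P.F.D.il P.T (P.F.D.emb P.F.c u)
  have hab : a * b ∈ P.F.D.Q := mul_mem (P.F.D.il_mem P.T _) (P.F.D.il_mem P.T _)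
  have hcl : P.F.D.cl ⟨a * b, hab⟩ = P.F.D.cl ⟨y, hy⟩ := by
    rw [show (⟨a * b, hab⟩ : P.F.D.Q) = ⟨a, P.F.D.il_mem P.T _⟩ * ⟨b, P.F.D.il_mem P.T _⟩ from rfl, Data.cl_mul,
      show P.F.D.cl ⟨a, P.F.D.il_mem P.T _⟩ = _ from P.F.D.cl_il P.T _,
      show P.F.D.cl ⟨b, P.F.D.il_mem P.T _⟩ = _ from P.F.D.cl_il P.T _, huv, add_comm]
  have hk := P.F.D.cl_eq_iff.1 hcl
  refine ⟨P.F.D.lg ((a * b)⁻¹ * y), u 0, u 1, v 0, v 1, ?_⟩
  rw [phi_qM, ← P.F.D.lg_spec hk, show (![v 0, v 1] : Fin 2 → ZMod 3) = v by funext i; fin_cases i <;> rfl,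
    show (![u 0, u 1] : Fin 2 → ZMod 3) = u by funext i; fin_cases i <;> rfl,
    show (a * b)⁻¹ * y * a * b = ((a * b)⁻¹ * y) * (a * b) by group,
    ← mul_inv_eq_iff_eq_mul.1 (P.F.D.zp_central hk (P.F.D.Q_le hab))]
  group

theorem Q_le_G0 : P.F.D.Q ≤ P.G0 := fun y hy => by
  obtain ⟨w, u0, u1, v0, v1, h⟩ := P.exists_qM hy
  exact ⟨_, h⟩

theorem chi_mem_G0 (A : SL23) : P.K.chi A ∈ P.G0 := ⟨_, P.phi_one A⟩

theorem C_le_G0 : P.F.D.C ≤ P.G0 := fun g hg => by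
  have h := P.F.D.eq_of_pi (a := ⟨_, P.K.chi_mem (P.F.D.π ⟨g, hg⟩)⟩) (b := ⟨g, hg⟩) (P.K.pi_chi _)
  have := mul_mem (P.chi_mem_G0 (P.F.D.π ⟨g, hg⟩)) (P.Q_le_G0 h)
  rwa [mul_inv_cancel_left] at this

theorem tv_eq_tS (i j : Fin 3) (t : ZMod 3) : (tv i j t : SL33) = tS i j t := rfl

theorem psi_mem_of {ψ : SL33 →* G} (hA : ∀ A, ψ (blockA A) ∈ P.G0) (hB : ∀ A, ψ (blockB A) ∈ P.G0) (g : SL33) :
    ψ g ∈ P.G0 := by
  have h : ∀ i j : Fin 3, ((j : ℕ) = i + 1 ∨ (i : ℕ) = j + 1) → ∀ t : ZMod 3, tS i j t ∈ P.G0.comap ψ := by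
    have key : ∀ i j : Fin 3, ((j : ℕ) = i + 1 ∨ (i : ℕ) = j + 1) → ∀ t : ZMod 3,
        (tS i j t : SL33) = blockA (upr t) ∨ (tS i j t : SL33) = blockA (lwr t) ∨
          (tS i j t : SL33) = blockB (upr t) ∨ (tS i j t : SL33) = blockB (lwr t) := by decide +kernel
    intro i j hij t
    rw [Subgroup.mem_comap]
    rcases key i j hij t with e | e | e | e <;> rw [e]
    exacts [hA _, hA _, hB _, hB _]
  have hall := tS_mem_of_adjacent (N := 3) (M := 3) (K := P.G0.comap ψ) fun i j _ _ hij => h i j hij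
  have htop : (⊤ : Subgroup SL33) ≤ P.G0.comap ψ := by
    rw [← closure_tS_eq_top, Subgroup.closure_le]
    rintro _ ⟨i, j, t, hij, rfl⟩
    exact hall i j hij i.2 j.2 t
  exact htop (Subgroup.mem_top g)

theorem psi_mem_G0 (g : SL33) : P.K.psi g ∈ P.G0 :=
  P.psi_mem_of (fun A => ⟨_, P.phi_zero A⟩) (fun A => P.chi_mem_G0 A) g

theorem psi'_mem_G0 (g : SL33) : P.K'.psi g ∈ P.G0 := by
  have h : ∀ x, P.K'.psi (theta x) ∈ P.G0 := fun x => P.psi_mem_of (ψ := P.K'.psi.comp theta)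
    (fun A => by
      show P.K'.psi (theta (blockA A)) ∈ _
      rw [theta_facts.1, show P.K'.psi (blockB A) = P.K'.chi A from rfl, ← P.hchi]
      exact P.chi_mem_G0 A)
    (fun A => ⟨_, P.phi_two A⟩) x
  obtain ⟨x, rfl⟩ : ∃ x, theta x = g := by
    refine ⟨invT ((MulAut.conj kS).symm g), ?_⟩
    show MulAut.conj kS (invT (invT ((MulAut.conj kS).symm g))) = g
    rw [invT_invT, MulEquiv.apply_symm_apply]
  exact h x

theorem N_le_of {F : Fr G} {T : Tor F.D} (K : F.Comp T) (hV : F.V1 ≤ P.G0) (hK : ∀ A, K.psi A ∈ P.G0) :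
    F.N ≤ P.G0 := fun g hg => by
  obtain ⟨v, hv, k, hk, rfl⟩ := K.cover g hg
  refine mul_mem (hV hv) ?_
  have e := K.psi_unique hk (A := F.sl T ⟨k, K.le hk⟩) rfl
  rw [← e]
  exact hK _

theorem N_le_G0 : P.F.N ≤ P.G0 :=
  P.N_le_of P.K (P.F.isPlane_V1.le.trans P.Q_le_G0) P.psi_mem_G0

theorem N'_le_G0 : (P.F.swap P.E P.hl P.hp P.hE).N ≤ P.G0 :=
  P.N_le_of P.K' (P.F.isPlane_V2.le.trans P.Q_le_G0) P.psi'_mem_G0

theorem pure_conj_z {y : G} (hy : y ∈ P.F.D.Q) (hp : P.F.D.Pure y) : ∃ g ∈ P.G0, g * P.F.z * g⁻¹ = y := by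
  have h1 : y ≠ 1 := by
    obtain ⟨g, e | e⟩ := hp <;> rw [← e]
    · exact fun h => P.F.D.z_ne (conj_eq_one_iff.1 h)
    · exact fun h => P.F.D.z_ne (inv_eq_one.1 (conj_eq_one_iff.1 h))
  rcases P.F.pure_mem_Q hy hp with h | h
  · obtain ⟨g, hg, e⟩ := P.F.N_trans h h1
    exact ⟨g, P.N_le_G0 hg, e⟩
  · obtain ⟨g, hg, e⟩ := (P.F.swap P.E P.hl P.hp P.hE).N_trans h h1
    exact ⟨g, P.N'_le_G0 hg, e⟩

theorem not_pure_one : ¬ P.F.D.Pure (1 : G) := fun ⟨_, h⟩ => by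
  rcases h with e | e
  · exact P.F.D.z_ne (conj_eq_one_iff.1 e)
  · exact P.F.D.z_ne (inv_eq_one.1 (conj_eq_one_iff.1 e))

theorem sylow_card : (729 : ℕ) ∣ Nat.card G ∧ ¬ 2187 ∣ Nat.card G ∧ ∀ R : Subgroup G, IsPGroup 3 R →
    ∃ g : G, ∀ x ∈ R, g * x * g⁻¹ ∈ P.F.D.C := by
  haveI : Fact (Nat.Prime 3) := ⟨Nat.prime_three⟩
  have h3 : Nat.card P.F.D.C = 5832 := P.F.D.card_C
  have hd : (729 : ℕ) ∣ Nat.card P.F.D.C := by rw [h3]; norm_num
  obtain ⟨S₀, hS₀⟩ := Sylow.exists_subgroup_card_pow_prime 3 (G := P.F.D.C) (n := 6) (by simpa using hd)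
  set S := S₀.map P.F.D.C.subtype with hS
  have hScard : Nat.card S = 729 := by
    rw [hS, Subgroup.card_map_of_injective (Subgroup.subtype_injective _), hS₀]; norm_num
  have hSC : S ≤ P.F.D.C := Subgroup.map_subtype_le _
  have hSp : IsPGroup 3 S := IsPGroup.of_card (n := 6) (by rw [hScard]; norm_num)
  have hQS : P.F.D.Q ≤ S := by
    intro q hq
    set Qs := P.F.D.Q.subgroupOf P.F.D.C
    haveI : Qs.Normal := ⟨fun x hx g => P.F.D.conj_Q g.2 hx⟩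
    have hQp : IsPGroup 3 Qs := IsPGroup.of_card (n := 5) (by
      rw [Nat.card_congr (Subgroup.subgroupOfEquivOfLe P.F.D.Q_le).toEquiv, P.F.D.Q_card]; norm_num)
    have hsup : IsPGroup 3 (S₀ ⊔ Qs : Subgroup P.F.D.C) :=
      IsPGroup.to_sup_of_normal_right (IsPGroup.of_card hS₀) hQp
    obtain ⟨n, hn⟩ := hsup.exists_card_eq
    have hle : 729 ∣ 3 ^ n ∧ 3 ^ n ∣ 5832 := by
      refine ⟨?_, ?_⟩
      · rw [← hn, show (729 : ℕ) = 3 ^ 6 by norm_num, ← hS₀]; exact Subgroup.card_dvd_of_le le_sup_left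
      · rw [← hn, ← h3]; exact Subgroup.card_subgroup_dvd_card _
    have h6 : 3 ^ n = 729 := by
      have : n ≤ 6 := by
        by_contra hlt
        exact (by norm_num : ¬ (2187 : ℕ) ∣ 5832)
          ((dvd_trans (Nat.pow_dvd_pow 3 (show 7 ≤ n by omega)) hle.2))
      have hn6 : 6 ≤ n := (Nat.pow_dvd_pow_iff_le_right (show 1 < 3 by norm_num)).1 hle.1
      rw [show n = 6 by omega]; norm_num
    have heq : S₀ = S₀ ⊔ Qs := eq_of_le_of_card_ge le_sup_left (by rw [hn, h6, hS₀]; norm_num)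
    exact ⟨⟨q, P.F.D.Q_le hq⟩, by rw [heq]; exact (le_sup_right : Qs ≤ S₀ ⊔ Qs) (show (⟨q, P.F.D.Q_le hq⟩ : P.F.D.C) ∈ Qs from hq),
      rfl⟩
  have hcent : ∀ x ∈ S, (∀ y ∈ S, x * y = y * x) → x ∈ zpowers P.F.z := by
    intro x hx hc
    have hxC := hSC hx
    refine P.F.D.Q_center x ?_ fun y hy => hc y (hQS hy)
    refine (P.F.D.ker ⟨x, hxC⟩).1 ?_
    have hfix : ∀ u, (P.F.D.π ⟨x, hxC⟩).1 *ᵥ u = u := by
      intro u
      refine P.F.D.emb_injective P.F.hc P.F.c_ne ?_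
      obtain ⟨w, hw⟩ := P.F.D.cl_surj (P.F.D.emb P.F.c u)
      rw [← P.F.D.psi_emb P.F.hc, ← P.F.D.act_eq_psi, ← hw, P.F.D.act_cl]
      exact congrArg P.F.D.cl (Subtype.ext (show x * (w : G) * x⁻¹ = w by
        rw [hc _ (hQS w.2), mul_inv_cancel_right]))
    exact sl_fix _ (hfix _) (hfix _)
  obtain ⟨R, hR⟩ := hSp.exists_le_sylow
  have hRS : (R : Subgroup G) = S := by
    by_contra hne
    have hlt : S.subgroupOf (R : Subgroup G) < ⊤ := by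
      rw [lt_top_iff_ne_top, Ne, Subgroup.subgroupOf_eq_top]
      exact fun h => hne (le_antisymm h hR)
    haveI : Group.IsNilpotent (R : Subgroup G) := R.isPGroup'.isNilpotent
    obtain ⟨n, hn, hnS⟩ := SetLike.exists_of_lt (normalizerCondition_of_isNilpotent _ hlt)
    have hconj : ∀ y ∈ S, (n : G) * y * (n : G)⁻¹ ∈ S := fun y hy =>
      (Subgroup.mem_normalizer_iff.1 hn ⟨y, hR hy⟩).1 hy
    have hzS : P.F.z ∈ S := hQS P.F.D.z_mem
    have hnz : (n : G) * P.F.z * (n : G)⁻¹ ∈ zpowers P.F.z := by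
      refine hcent _ (hconj _ hzS) fun y hy => ?_
      have hy' : (n : G)⁻¹ * y * n ∈ S := by
        have := (Subgroup.mem_normalizer_iff.1 hn ⟨(n : G)⁻¹ * y * n, mul_mem (mul_mem (inv_mem n.2) (hR hy)) n.2⟩).2
          (show (n : G) * ((n : G)⁻¹ * y * n) * (n : G)⁻¹ ∈ S by simpa [mul_assoc] using hy)
        exact this
      have e := P.F.D.comm_z (hSC hy')
      calc (n : G) * P.F.z * (n : G)⁻¹ * y = n * (P.F.z * ((n : G)⁻¹ * y * n)) * (n : G)⁻¹ := by group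
        _ = y * (n * P.F.z * (n : G)⁻¹) := by rw [← e]; group
    have hnC : (n : G) ∈ P.F.D.C := by
      obtain ⟨k, hk⟩ := R.isPGroup' n
      have hk' : (n : G) ^ 3 ^ k = 1 := by simpa using congrArg Subtype.val hk
      rcases P.F.D.mem_zp hnz with e | e | e
      · exact absurd (conj_eq_one_iff.1 e) P.F.D.z_ne
      · exact P.F.D.mem_C.2 (mul_inv_eq_iff_eq_mul.1 e)
      · exfalso
        have hj : ∀ j : ℕ, (n : G) ^ j * P.F.z * ((n : G) ^ j)⁻¹ = P.F.z ^ (2 ^ j) := by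
          intro j
          induction j with
          | zero => simp
          | succ j ih =>
            rw [pow_succ', show (n : G) * (n : G) ^ j * P.F.z * ((n : G) * (n : G) ^ j)⁻¹ =
              n * ((n : G) ^ j * P.F.z * ((n : G) ^ j)⁻¹) * (n : G)⁻¹ by group, ih, ← conj_pow, e, ← pow_two, ← pow_mul]
            ring_nf
        have h1 := hj (3 ^ k)
        rw [hk', inv_one, one_mul, mul_one] at h1
        have h2 : P.F.z ^ (2 ^ 3 ^ k % 3) = P.F.z := by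
          have := pow_mod_orderOf P.F.z (2 ^ 3 ^ k)
          rw [show orderOf P.F.z = 3 from P.F.D.hz] at this
          exact this.trans h1.symm
        have h3 : 2 ^ 3 ^ k % 3 = 2 := by
          have ho : Odd (3 ^ k) := Odd.pow (by decide)
          obtain ⟨m, hm⟩ := ho
          rw [hm, pow_succ, pow_mul, Nat.mul_mod, Nat.pow_mod]; norm_num
        rw [h3, pow_two, mul_eq_left] at h2
        exact P.F.D.z_ne h2
    refine hnS ?_
    show (n : G) ∈ S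
    have hSR : S₀ ≤ (R : Subgroup G).subgroupOf P.F.D.C := fun x hx => hR ⟨x, hx, rfl⟩
    have hp' : IsPGroup 3 ((R : Subgroup G).subgroupOf P.F.D.C) := by
      intro x
      obtain ⟨k, hk⟩ := R.isPGroup' ⟨((x : P.F.D.C) : G), x.2⟩
      exact ⟨k, Subtype.ext (Subtype.ext (by simpa using congrArg Subtype.val hk))⟩
    obtain ⟨m, hm⟩ := hp'.exists_card_eq
    have hm2 : 3 ^ m ∣ 5832 := by rw [← hm, ← h3]; exact Subgroup.card_subgroup_dvd_card _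
    have hm6 : m ≤ 6 := by
      by_contra hlt
      exact (by norm_num : ¬ (2187 : ℕ) ∣ 5832) (dvd_trans (Nat.pow_dvd_pow 3 (show 7 ≤ m by omega)) hm2)
    have heq : S₀ = (R : Subgroup G).subgroupOf P.F.D.C := eq_of_le_of_card_ge hSR (by
      rw [hm, hS₀]; exact Nat.pow_le_pow_right (by norm_num) hm6)
    exact ⟨⟨n, hnC⟩, by rw [heq]; exact n.2, rfl⟩
  have hRc : Nat.card R = 729 := by rw [show Nat.card R = Nat.card (R : Subgroup G) from rfl, hRS, hScard]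
  refine ⟨?_, ?_, fun X hX => ?_⟩
  · rw [← hRc]; exact Subgroup.card_subgroup_dvd_card _
  · intro h
    obtain ⟨U, hU⟩ := Sylow.exists_subgroup_card_pow_prime 3 (G := G) (n := 7) (by simpa using h)
    obtain ⟨W, hW⟩ := (IsPGroup.of_card hU).exists_le_sylow
    have := Subgroup.card_le_of_le hW
    rw [hU, show Nat.card (W : Subgroup G) = Nat.card R from W.card_eq_multiplicity.trans R.card_eq_multiplicity.symm,
      hRc] at this
    norm_num at this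
  · obtain ⟨W, hW⟩ := hX.exists_le_sylow
    obtain ⟨g, hg⟩ := MulAction.exists_smul_eq G W R
    refine ⟨g, fun x hx => hSC (hRS ▸ ?_)⟩
    rw [← hg]
    exact ⟨x, hW hx, rfl⟩

theorem chi_uU_pow (k : Fin 3) : P.K.chi (uU ^ k.val) = P.phi (tS 1 2 (k.val : ZMod 3)) := by
  rw [phi_12]
  congr 1
  revert k; decide +kernel

/-- An element of order three of the centralizer is conjugate in the subgroup into the extraspecial subgroup. -/
theorem C_conj_Q {x : G} (hx : x ∈ P.F.D.C) (h3 : x ^ 3 = 1) : ∃ g ∈ P.G0, g * x * g⁻¹ ∈ P.F.D.Q := by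
  by_cases hp : P.F.D.π ⟨x, hx⟩ = 1
  · exact ⟨1, one_mem _, by simpa using (P.F.D.ker _).1 hp⟩
  have hp3 : P.F.D.π ⟨x, hx⟩ * P.F.D.π ⟨x, hx⟩ * P.F.D.π ⟨x, hx⟩ = 1 := by
    rw [← map_mul, ← map_mul]
    refine (congrArg P.F.D.π (Subtype.ext ?_ : _ = (1 : P.F.D.C))).trans (map_one _)
    show x * x * x = 1
    simpa [pow_succ] using h3
  obtain ⟨a, ha⟩ := sl_conj_facts.2 _ hp3 hp
  obtain ⟨c, rfl⟩ := P.F.D.surj a
  set y := (c : G) * x * (c : G)⁻¹ with hy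
  have hyC : y ∈ P.F.D.C := mul_mem (mul_mem c.2 hx) (inv_mem c.2)
  obtain ⟨k, hk⟩ : ∃ k : Fin 3, P.F.D.π ⟨y, hyC⟩ = uU ^ k.val := by
    rw [show (⟨y, hyC⟩ : P.F.D.C) = c * ⟨x, hx⟩ * c⁻¹ from rfl, map_mul, map_mul, map_inv]
    rcases ha with e | e <;> rw [e]
    · exact ⟨1, (pow_one _).symm⟩
    · exact ⟨2, by decide +kernel⟩
  have hq : (P.K.chi (uU ^ k.val))⁻¹ * y ∈ P.F.D.Q :=
    P.F.D.eq_of_pi (a := ⟨_, P.K.chi_mem _⟩) (b := ⟨y, hyC⟩) ((P.K.pi_chi _).trans hk.symm)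
  have hq' : y * (P.K.chi (uU ^ k.val))⁻¹ ∈ P.F.D.Q := by
    have := P.F.D.conj_Q (P.K.chi_mem (uU ^ k.val)) hq
    simpa [mul_assoc] using this
  obtain ⟨w, u0, u1, v0, v1, hM⟩ := P.exists_qM hq'
  set M := upM (-v1) (v0 - v1 * (k.val : ZMod 3)) (w + v0 * u1 - v1 * u0) (k.val : ZMod 3) u0 u1 with hMdef
  have hyM : P.phi M = y := by
    rw [hMdef, ← qM_upr, map_mul, hM, ← chi_uU_pow, inv_mul_cancel_right]
  have hy3 : y ^ 3 = 1 := by rw [hy, conj_pow, h3, mul_one, mul_inv_cancel]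
  have hcC : (c : G) ∈ P.G0 := P.C_le_G0 c.2
  by_cases hM3 : M ^ 3 = 1
  · rcases conj_into_Q _ _ _ _ _ _ hM3 with e | ⟨g, -, hg⟩
    · refine ⟨c, hcC, ?_⟩
      have hk0 : k = 0 := (by decide : ∀ k : Fin 3, (k.val : ZMod 3) = 0 → k = 0) k e
      have : y ∈ P.F.D.Q := by simpa [hk0] using hq
      exact this
    · refine ⟨P.phi g * c, mul_mem (P.phi_mem g) hcC, ?_⟩
      rw [show P.phi g * (c : G) * x * (P.phi g * (c : G))⁻¹ = P.phi g * y * (P.phi g)⁻¹ by rw [hy]; group, ← hyM,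
        ← map_inv, ← map_mul, ← map_mul, hg]
      rw [show ∀ a b c' e f : ZMod 3, upM a b c' 0 e f = qM (c' - b * f - a * e) e f b (-a) by decide +kernel]
      rw [phi_qM]
      exact mul_mem (mul_mem (pow_mem P.F.D.z_mem _) (P.F.D.il_mem P.T _)) (P.F.D.il_mem P.T _)
  · exfalso
    have hne : ∀ a b c' d e f : ZMod 3, upM a b c' d e f ^ 3 ≠ 1 → upM a b c' d e f ^ 3 =
        qM ((upM a b c' d e f ^ 3).1 0 3) 0 0 0 0 ∧ (upM a b c' d e f ^ 3).1 0 3 ≠ 0 := by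
      decide +kernel
    obtain ⟨h1, h2⟩ := hne _ _ _ _ _ _ hM3
    have := congrArg P.phi h1
    rw [map_pow, hyM, hy3, phi_qM] at this
    refine h2 ?_
    have h0 : ∀ V : Fr G, ∀ T' : Tor V.D, V.D.il T' (V.D.emb V.c ![0, 0]) = 1 := fun V T' => by
      rw [show (![0, 0] : Fin 2 → ZMod 3) = 0 by decide, map_zero, V.D.il_zero]
    rw [h0, h0 (P.F.swap P.E P.hl P.hp P.hE) P.T, mul_one, mul_one] at this
    have e := congrArg P.F.D.lg this
    rw [P.F.D.lg_pow, ZMod.natCast_zmod_val] at e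
    rw [← e]
    exact (P.F.D.lg_eq_zero (one_mem _)).2 rfl

/-- The pure elements of the subgroup are conjugate in it. -/
theorem pure_fusion {y : G} (hy : y ∈ P.G0) (hp : P.F.D.Pure y) : ∃ g ∈ P.G0, g * P.F.z * g⁻¹ = y := by
  haveI : Fact (Nat.Prime 3) := ⟨Nat.prime_three⟩
  obtain ⟨-, h7, hsyl⟩ := P.sylow_card
  have hy3 : y ^ 3 = 1 := by
    obtain ⟨g, e | e⟩ := hp <;> rw [← e, conj_pow]
    · rw [P.F.D.z_cube, mul_one, mul_inv_cancel]
    · rw [inv_pow, P.F.D.z_cube, inv_one, mul_one, mul_inv_cancel]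
  -- a Sylow subgroup of the centralizer is one of the subgroup
  obtain ⟨S₀, hS₀⟩ := Sylow.exists_subgroup_card_pow_prime 3 (G := P.F.D.C) (n := 6)
    (by rw [P.F.D.card_C]; norm_num)
  set S := S₀.map (Subgroup.inclusion P.C_le_G0) with hS
  have hSc : Nat.card S = 729 := by
    rw [hS, Subgroup.card_map_of_injective (Subgroup.inclusion_injective _), hS₀]; norm_num
  obtain ⟨R, hR⟩ := (IsPGroup.of_card (p := 3) (n := 6) (G := S) (by rw [hSc]; norm_num)).exists_le_sylow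
  have hRS : (R : Subgroup P.G0) = S := by
    refine (eq_of_le_of_card_ge hR ?_).symm
    obtain ⟨n, hn⟩ := R.isPGroup'.exists_card_eq
    rw [hSc, hn]
    by_contra hlt
    refine h7 ?_
    have h1 : Nat.card R ∣ Nat.card G :=
      dvd_trans (Subgroup.card_subgroup_dvd_card _) (Subgroup.card_subgroup_dvd_card P.G0)
    rw [hn] at h1
    refine dvd_trans ?_ h1
    have : 7 ≤ n := by
      by_contra h'
      have := Nat.pow_le_pow_right (show 0 < 3 by norm_num) (show n ≤ 6 by omega)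
      omega
    exact Nat.pow_dvd_pow 3 this
  have hyp : IsPGroup 3 (zpowers (⟨y, hy⟩ : P.G0)) := by
    obtain ⟨k, -, hk⟩ := (Nat.dvd_prime_pow Nat.prime_three).1
      (orderOf_dvd_of_pow_eq_one (Subtype.ext hy3 : (⟨y, hy⟩ : P.G0) ^ 3 ^ 1 = 1))
    exact IsPGroup.of_card (n := k) (by rw [Nat.card_zpowers, hk])
  obtain ⟨W, hW⟩ := hyp.exists_le_sylow
  obtain ⟨g, hg⟩ := MulAction.exists_smul_eq P.G0 W R
  have hgy : g * ⟨y, hy⟩ * g⁻¹ ∈ (R : Subgroup P.G0) := by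
    rw [← hg]; exact ⟨⟨y, hy⟩, hW (mem_zpowers _), rfl⟩
  rw [hRS] at hgy
  obtain ⟨s, -, hs⟩ := hgy
  have hsC : (g : G) * y * (g : G)⁻¹ ∈ P.F.D.C := by
    have := congrArg Subtype.val hs
    exact (this ▸ s.2 : _)
  obtain ⟨k, hk, hkQ⟩ := P.C_conj_Q hsC (by rw [conj_pow, hy3, mul_one, mul_inv_cancel])
  obtain ⟨n, hn, e⟩ := P.pure_conj_z hkQ ((hp.conj _ (g : G)).conj _ k)
  refine ⟨(k * g)⁻¹ * n, mul_mem (inv_mem (mul_mem hk g.2)) hn, ?_⟩
  calc (k * (g : G))⁻¹ * n * P.F.z * ((k * (g : G))⁻¹ * n)⁻¹ = (k * (g : G))⁻¹ * (n * P.F.z * n⁻¹) * (k * g) := by group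
    _ = y := by rw [e]; group

/-- The subgroup controls the fusion of the element of order three. -/
theorem mem_of_pure {g x : G} (hx : x ∈ P.G0) (hp : P.F.D.Pure x) (h : g * x * g⁻¹ ∈ P.G0) : g ∈ P.G0 := by
  obtain ⟨a, ha, ea⟩ := P.pure_fusion hx hp
  obtain ⟨b, hb, eb⟩ := P.pure_fusion h (hp.conj _ g)
  have hC : b⁻¹ * g * a ∈ P.F.D.C := P.F.D.mem_C.2 (mul_inv_eq_iff_eq_mul.1 (by
    calc b⁻¹ * g * a * P.F.z * (b⁻¹ * g * a)⁻¹ = b⁻¹ * (g * (a * P.F.z * a⁻¹) * g⁻¹) * b := by group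
      _ = P.F.z := by rw [ea, ← eb]; group))
  have := mul_mem (mul_mem hb (P.C_le_G0 hC)) (inv_mem ha)
  rwa [show b * (b⁻¹ * g * a) * a⁻¹ = g by group] at this

theorem pure_z : P.F.D.Pure P.F.z := ⟨1, Or.inl (by rw [one_mul, inv_one, mul_one])⟩

theorem z_mem_G0 : P.F.z ∈ P.G0 := ⟨_, P.phi_z⟩

theorem mem_of_z {g : G} (h : g * P.F.z * g⁻¹ ∈ P.G0) : g ∈ P.G0 := P.mem_of_pure P.z_mem_G0 P.pure_z h

theorem phi_neg_one : P.phi nI = 1 := by
  have hcomm : ∀ g : SL43, Commute (P.phi nI) (P.phi g) := fun g => by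
    show _ = _
    rw [← map_mul, ← map_mul]
    exact congrArg P.phi (nI_facts.1 g)
  have hC : P.phi nI ∈ P.F.D.C := P.F.D.mem_C.2 (by rw [show P.F.D.z = P.F.z from rfl, ← P.phi_z]; exact (hcomm _).eq)
  have hQ : P.phi nI ∈ P.F.D.Q := by
    refine (P.F.D.ker ⟨_, hC⟩).1 (sl_fix _ ?_ ?_) <;>
    · refine P.F.D.emb_injective P.F.hc P.F.c_ne ?_
      obtain ⟨w, hw⟩ := P.F.D.cl_surj (P.F.D.emb P.F.c _)
      rw [← P.F.D.psi_emb P.F.hc, ← P.F.D.act_eq_psi, ← hw, P.F.D.act_cl]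
      refine congrArg P.F.D.cl (Subtype.ext ?_)
      obtain ⟨m, hm⟩ := P.Q_le_G0 w.2
      show P.phi nI * (w : G) * (P.phi nI)⁻¹ = w
      rw [← hm, (hcomm m).eq, mul_inv_cancel_right]
  have h2 : P.phi nI * P.phi nI = 1 := by rw [← map_mul, nI_facts.2, map_one]
  have h3 := P.F.D.Q_exp _ hQ
  rwa [pow_succ, pow_two, h2, one_mul] at h3

theorem phi_eq_one {g : SL43} : P.phi g = 1 ↔ g = 1 ∨ g = nI := by
  refine ⟨fun h => ?_, fun h => ?_⟩
  · have hsimple : IsSimpleGroup (Matrix.ProjectiveSpecialLinearGroup (Fin 4) (ZMod 3)) := by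
      haveI : Fact (Nat.Prime 3) := ⟨Nat.prime_three⟩
      exact Cfsg.Lib.Linear.PSL_simple_of_three_le (by simp)
    set π' := QuotientGroup.mk' (Subgroup.center SL43)
    have hsurj : Function.Surjective π' := QuotientGroup.mk'_surjective _
    haveI := Subgroup.Normal.map (MonoidHom.normal_ker P.phi) π' hsurj
    rcases hsimple.eq_bot_or_eq_top_of_normal (P.phi.ker.map π') inferInstance with hb | ht
    · have hc : g ∈ Subgroup.center SL43 := by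
        rw [← QuotientGroup.eq_one_iff]
        exact (Subgroup.eq_bot_iff_forall _).1 hb _ ⟨g, h, rfl⟩
      obtain ⟨r, hr, hrg⟩ := Matrix.SpecialLinearGroup.mem_center_iff.1 hc
      rw [Fintype.card_fin] at hr
      rcases (by decide : ∀ r : ZMod 3, r ^ 4 = 1 → r = 1 ∨ r = -1) r hr with rfl | rfl
      · exact Or.inl (Subtype.ext (by rw [← hrg]; simp))
      · exact Or.inr (Subtype.ext (by rw [← hrg]; show _ = (nI : SL43).1; decide +kernel))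
    · exfalso
      obtain ⟨k, hk, e⟩ := (ht.symm ▸ Subgroup.mem_top (π' (tS 0 3 (1 : ZMod 3))) : π' (tS 0 3 (1 : ZMod 3)) ∈ _)
      obtain ⟨r, -, hrg⟩ := Matrix.SpecialLinearGroup.mem_center_iff.1 (QuotientGroup.eq.1 e)
      have hz : ∀ m : SL43, Commute P.F.z (P.phi m) := fun m => by
        have hcen : k⁻¹ * tS 0 3 (1 : ZMod 3) ∈ Subgroup.center SL43 := QuotientGroup.eq.1 e
        have : P.F.z = P.phi (k⁻¹ * tS 0 3 (1 : ZMod 3)) := by
          rw [map_mul, map_inv, (show P.phi k = 1 from hk), inv_one, one_mul, phi_z]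
        rw [this]
        show _ = _
        rw [← map_mul, ← map_mul, (Subgroup.mem_center_iff.1 hcen m)]
      obtain ⟨m, hm⟩ := P.psi_mem_G0 dH
      have := Fr.psi_dH_z P.K
      rw [← hm, ← (hz m).eq, mul_inv_cancel_right] at this
      have e2 : P.F.z * P.F.z = 1 := by nth_rw 1 [this]; exact inv_mul_cancel _
      have e3 := P.F.D.z_cube
      rw [pow_succ, pow_two, e2, one_mul] at e3
      exact P.F.D.z_ne e3
  · rcases h with rfl | rfl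
    · exact map_one _
    · exact P.phi_neg_one

theorem phi_eq {g h : SL43} : P.phi g = P.phi h ↔ g = h ∨ g = h * nI := by
  rw [eq_comm, ← inv_mul_eq_one, ← map_inv, ← map_mul, P.phi_eq_one, inv_mul_eq_one, eq_comm (a := h),
    inv_mul_eq_iff_eq_mul]

end Two

end Cfsg.Lib.LFourThree
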