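import Cfsg.Agent.Lib.LFourThree.Para
import Cfsg.Agent.Lib.Coprime.Generation

/-!
# A pure plane normalises no non-trivial subgroup of order prime to three
-/

set_option autoImplicit false
set_option linter.unusedSectionVars false
set_option linter.style.haveILetI false

namespace Cfsg.Lib.LFourThree

open Subgroup Cfsg.Lib.PSpThree Matrix

variable {G : Type*} [Group G]

theorem sl_stab_three : ∀ (A : SL23) (u : Fin 2 → ZMod 3), u ≠ 0 → A.1 *ᵥ u = u → A * A * A = 1 := by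
  decide +kernel

theorem eq_one_of_nine {X : Subgroup G} (hX : (Nat.card X).Coprime 3) {x : G} (hx : x ∈ X) (h : x ^ 9 = 1) :
    x = 1 := by
  refine orderOf_eq_one_iff.1 (Nat.eq_one_of_dvd_coprimes (Nat.Coprime.pow_right 2 hX) ?_ ?_)
  · exact Subgroup.orderOf_dvd_natCard X hx
  · exact orderOf_dvd_of_pow_eq_one h

namespace Data

variable (D : Data G)

theorem pow_nine_of_mem_C {x : G} (hx : x ∈ D.C)
    (h : D.π ⟨x, hx⟩ * D.π ⟨x, hx⟩ * D.π ⟨x, hx⟩ = 1) : x ^ 9 = 1 := by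
  rw [← map_mul, ← map_mul] at h
  have h3 : x * x * x ∈ D.Q := (D.ker _).1 h
  have := D.Q_exp _ h3
  rw [show x * x * x = x ^ 3 by simp [pow_succ], ← pow_mul] at this
  exact this

end Data

namespace Fr

variable [Finite G] (F : Fr G)

theorem pow_nine_of_comm {x q : G} (hx : x ∈ F.D.C) (hq : q ∈ F.V1) (hqz : q ∉ zpowers F.z)
    (hc : x * q = q * x) : x ^ 9 = 1 := by
  obtain ⟨hqQ, u, hu⟩ := hq
  have hu0 : u ≠ 0 := fun h => hqz ((F.D.cl_eq_zero (x := ⟨q, hqQ⟩)).1 (by rw [hu, h, map_zero]))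
  refine F.D.pow_nine_of_mem_C hx (sl_stab_three _ u hu0 (F.D.emb_injective F.hc F.c_ne ?_))
  rw [← F.D.psi_emb F.hc, ← F.D.act_eq_psi, ← hu, Data.act_cl]
  exact congrArg F.D.cl (Subtype.ext (show x * q * x⁻¹ = q by rw [hc, mul_inv_cancel_right]))

/-- A subgroup of order prime to three normalised by a pure plane is trivial. -/
theorem signalizer {B X : Subgroup G} (hB : B ≤ F.V1) (hc : Nat.card B = 9) (hX : (Nat.card X).Coprime 3)
    (hn : ∀ b ∈ B, ∀ x ∈ X, b * x * b⁻¹ ∈ X) : X = ⊥ := by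
  classical
  haveI : IsMulCommutative B := ⟨⟨fun a b => Subtype.ext (F.isPlane_V1.comm _ (hB a.2) _ (hB b.2))⟩⟩
  have hcube : ∀ b ∈ B, b ^ 3 = 1 := fun b hb => F.D.Q_exp b (F.isPlane_V1.le (hB hb))
  have hnc : ¬ IsCyclic B := by
    intro h
    obtain ⟨g, hg⟩ := h.exists_generator
    have h9 : orderOf g = 9 := by
      rw [← hc, ← Nat.card_zpowers, show zpowers g = ⊤ from eq_top_iff.2 fun x _ => hg x, Subgroup.card_top]
    have h3 : orderOf g ∣ 3 := orderOf_dvd_of_pow_eq_one (Subtype.ext (hcube g g.2))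
    rw [h9] at h3
    norm_num at h3
  have hBn : B ≤ normalizer (X : Set G) := fun b hb => mem_normalizer_iff.2 fun x =>
    ⟨hn b hb x, fun h => by
      have h' := hn _ (inv_mem hb) _ h
      simpa [mul_assoc] using h'⟩
  have hcop : (Nat.card B).Coprime (Nat.card X) := by
    rw [hc, show (9 : ℕ) = 3 ^ 2 by norm_num]
    exact hX.symm.pow_left 2
  refine eq_bot_iff.2 ((Cfsg.Lib.Coprime.le_iSup_centralizer_of_not_isCyclic hnc hBn hcop).trans (iSup_le ?_))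
  rintro ⟨b, hb, hb1⟩ x hx
  obtain ⟨hxX, hxb⟩ := mem_inf.1 hx
  obtain ⟨g, hg, rfl⟩ := F.N_trans (hB hb) hb1
  obtain ⟨b', hb', hb'z⟩ : ∃ b' ∈ B, b' ∉ zpowers (g * F.z * g⁻¹) := by
    by_contra h
    push Not at h
    have h' := card_le_of_le (show B ≤ zpowers (g * F.z * g⁻¹) from h)
    rw [hc, Nat.card_zpowers, orderOf_eq_prime (hcube _ hb) hb1] at h'
    omega
  have hxC : g⁻¹ * x * g ∈ F.D.C := F.D.mem_C.2 (by
    have e := mem_centralizer_singleton_iff.1 hxb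
    calc g⁻¹ * x * g * F.z = g⁻¹ * (x * (g * F.z * g⁻¹)) * g := by group
      _ = F.z * (g⁻¹ * x * g) := by rw [e]; group)
  set q := g⁻¹ * b' * g with hq
  have hqV : q ∈ F.V1 := by
    have := F.conj_N (inv_mem hg) (hB hb')
    rwa [inv_inv] at this
  have hqz : q ∉ zpowers F.z := by
    rintro ⟨k, hk⟩
    exact hb'z ⟨k, by
      show (g * F.z * g⁻¹) ^ k = b'
      rw [conj_zpow, show F.z ^ k = g⁻¹ * b' * g from hk]; group⟩
  have hcm : q * (g⁻¹ * x * g) * q⁻¹ * (g⁻¹ * x * g)⁻¹ ∈ F.D.Q := by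
    have h1 := F.D.conj_Q hxC (inv_mem (F.isPlane_V1.le hqV))
    have h2 := mul_mem (F.isPlane_V1.le hqV) h1
    convert h2 using 1
    group
  have hw : b' * x * b'⁻¹ * x⁻¹ = 1 := by
    refine eq_one_of_nine hX (mul_mem (hn b' hb' x hxX) (inv_mem hxX)) ?_
    have h9 : (q * (g⁻¹ * x * g) * q⁻¹ * (g⁻¹ * x * g)⁻¹) ^ 9 = 1 := by
      rw [show (9 : ℕ) = 3 * 3 by norm_num, pow_mul, F.D.Q_exp _ hcm, one_pow]
    rw [show b' * x * b'⁻¹ * x⁻¹ = g * (q * (g⁻¹ * x * g) * q⁻¹ * (g⁻¹ * x * g)⁻¹) * g⁻¹ by rw [hq]; group,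
      conj_pow, h9, mul_one, mul_inv_cancel]
  have hcomm : g⁻¹ * x * g * q = q * (g⁻¹ * x * g) := by
    have e : b' * x = x * b' := by
      rwa [mul_inv_eq_one, mul_inv_eq_iff_eq_mul] at hw
    rw [hq, show g⁻¹ * x * g * (g⁻¹ * b' * g) = g⁻¹ * (x * b') * g by group, ← e]
    group
  have h9 := F.pow_nine_of_comm hxC hqV hqz hcomm
  refine mem_bot.2 (eq_one_of_nine hX hxX ?_)
  have e := conj_pow (a := g) (b := g⁻¹ * x * g) (i := 9)
  rw [show g * (g⁻¹ * x * g) * g⁻¹ = x by group, h9, mul_one, mul_inv_cancel] at e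
  exact e

end Fr

end Cfsg.Lib.LFourThree
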