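import Cfsg.Agent.Lib.LFourThree.ModelEFacts

/-!
# The alternating group of degree nine does not control this fusion
-/

set_option autoImplicit false
set_option linter.unusedSectionVars false
set_option linter.style.haveILetI false
set_option maxRecDepth 100000
set_option maxHeartbeats 4000000
set_option synthInstance.maxSize 2000
set_option synthInstance.maxHeartbeats 200000

namespace Cfsg.Lib.LFourThree

open Subgroup Matrix Equiv
open Cfsg.Lib.Recog.ThreeCubedFour (Model InBase modelPerm modelPerm_injective rotA rotB rotC)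
open Cfsg.Lib.NineThree (InSyl sylSub)

/-- The product of the three rotations. -/
def x0 : Model := rotA * rotB * rotC

theorem x0_facts : InBase x0 ∧ InSyl x0 ∧ x0 ≠ 1 ∧ (∀ s : Model, InSyl s → s * x0 = x0 * s) := by decide +kernel

theorem center_syl : ∀ c : Model, InSyl c → (∀ s : Model, InSyl s → c * s = s * c) →
    c = 1 ∨ c = x0 ∨ c = x0⁻¹ := by
  decide +kernel

theorem base_lin : ∀ x : Model, InBase x → lin x = 1 := by decide +kernel

theorem root_conj : ∀ y : Model, InBase y → ∀ s : ZMod 3, s ≠ 0 → ∀ k : ZMod 3,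
    s • (!![0, 1; 0, 0] : M22) = tra y + k • (1 : M22) →
      ∃ h : Model, h * y * h⁻¹ = x0 ∨ h * y⁻¹ * h⁻¹ = x0 := by
  decide +kernel

/-- Carries the blocks to a transversal. -/
def permA : Perm (Fin 9) := swap 1 3 * swap 2 6 * swap 5 7 * (swap 0 3 * swap 1 4 * swap 2 5)

/-- Inverts two of the blocks. -/
def permB : Perm (Fin 9) := swap 4 5 * swap 7 8

/-- The cycle of blocks. -/
def s1 : Model := ⟨⟨3, 0, 0, 0⟩, rfl⟩

/-- The rotations with mixed signs. -/
def s2 : Model := rotA * rotB⁻¹ * rotC⁻¹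

theorem perm_facts : InSyl s1 ∧ InSyl s2 ∧ s1 * s2 ≠ s2 * s1 ∧ Perm.sign permA = 1 ∧ Perm.sign permB = 1 ∧
    (permA * modelPerm x0 * permA⁻¹ = modelPerm s1 ∨ permA * modelPerm x0 * permA⁻¹ = modelPerm s1⁻¹) ∧
    (permB * modelPerm x0 * permB⁻¹ = modelPerm s2 ∨ permB * modelPerm x0 * permB⁻¹ = modelPerm s2⁻¹) := by
  decide +kernel

theorem card_sylSub : Nat.card sylSub = 81 := by
  rw [Nat.card_congr (show sylSub ≃ {x : Model // InSyl x} from Equiv.refl _), Nat.card_eq_fintype_card,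
    Fintype.card_subtype]
  decide +kernel

theorem even_of_syl {x : Model} (hx : InSyl x) : modelPerm x ∈ alternatingGroup (Fin 9) :=
  Cfsg.Lib.NineThree.modelPerm_even x

/-- A central element of a Sylow 3-subgroup has two conjugates there that do not commute. -/
theorem nine_fusion (S : Subgroup (alternatingGroup (Fin 9))) (hS : Nat.card S = 81) (x : alternatingGroup (Fin 9))
    (hx : x ∈ S) (hx1 : x ≠ 1) (hc : ∀ s ∈ S, x * s = s * x) :
    ∃ a b : alternatingGroup (Fin 9), a * x * a⁻¹ ∈ S ∧ b * x * b⁻¹ ∈ S ∧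
      a * x * a⁻¹ * (b * x * b⁻¹) ≠ b * x * b⁻¹ * (a * x * a⁻¹) := by
  haveI : Fact (Nat.Prime 3) := ⟨Nat.prime_three⟩
  let f : Model →* alternatingGroup (Fin 9) := modelPerm.codRestrict _ Cfsg.Lib.NineThree.modelPerm_even
  have hf : Function.Injective f := fun a b e => modelPerm_injective (congrArg Subtype.val e)
  set P := sylSub.map f
  have hP : Nat.card P = 81 := by rw [Subgroup.card_map_of_injective hf, card_sylSub]
  have hG : Nat.card (alternatingGroup (Fin 9)) = 181440 := by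
    have := nat_card_alternatingGroup (α := Fin 9)
    rw [Nat.card_fin] at this
    rw [this]; rfl
  obtain ⟨U, hU⟩ := (IsPGroup.of_card (p := 3) (n := 4) (G := S) (by rw [hS]; norm_num)).exists_le_sylow
  obtain ⟨W, hW⟩ := (IsPGroup.of_card (p := 3) (n := 4) (G := P) (by rw [hP]; norm_num)).exists_le_sylow
  have h81 : ∀ V : Sylow 3 (alternatingGroup (Fin 9)), Nat.card V = 81 := by
    intro V
    rw [V.card_eq_multiplicity, hG]
    rw [show Nat.factorization 181440 3 = 4 by
      rw [show (181440 : ℕ) = 3 ^ 4 * 2240 by norm_num, Nat.factorization_mul (by norm_num) (by norm_num),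
        Finsupp.add_apply, Nat.prime_three.factorization_pow, Finsupp.single_eq_same,
        Nat.factorization_eq_zero_of_not_dvd (by norm_num)]]
    norm_num
  have eU : S = (U : Subgroup _) := eq_of_le_of_card_ge hU (by
    rw [hS]; exact (h81 U).le)
  have eW : P = (W : Subgroup _) := eq_of_le_of_card_ge hW (by
    rw [hP]; exact (h81 W).le)
  obtain ⟨g, hg⟩ := MulAction.exists_smul_eq (alternatingGroup (Fin 9)) U W
  have hmem : ∀ s, s ∈ S ↔ g * s * g⁻¹ ∈ P := by
    intro s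
    rw [eU, eW, ← hg]
    constructor
    · exact fun h => ⟨s, h, rfl⟩
    · rintro ⟨t, ht, e⟩
      have : t = s := (MulAut.conj g).injective e
      exact this ▸ ht
  obtain ⟨c, hcS, hce⟩ := (hmem x).1 hx
  have hcc : ∀ s : Model, InSyl s → c * s = s * c := by
    intro s hs
    refine hf ?_
    rw [map_mul, map_mul, hce]
    have h1 : g⁻¹ * f s * g ∈ S := (hmem _).2 (by
      rw [show g * (g⁻¹ * f s * g) * g⁻¹ = f s by group]; exact ⟨s, hs, rfl⟩)
    have := hc _ h1
    calc g * x * g⁻¹ * f s = g * (x * (g⁻¹ * f s * g)) * g⁻¹ := by group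
      _ = f s * (g * x * g⁻¹) := by rw [this]; group
  obtain ⟨h1, h2, hne, pA, pB, eA, eB⟩ := perm_facts
  let a : alternatingGroup (Fin 9) := ⟨permA, Perm.mem_alternatingGroup.2 pA⟩
  let b : alternatingGroup (Fin 9) := ⟨permB, Perm.mem_alternatingGroup.2 pB⟩
  have hc1 : c ≠ 1 := fun e => hx1 (by rw [e, map_one] at hce; exact conj_eq_one_iff.1 hce.symm)
  have conj : ∀ (p : alternatingGroup (Fin 9)) (s : Model), InSyl s →
      ((p : Perm (Fin 9)) * modelPerm x0 * (p : Perm (Fin 9))⁻¹ = modelPerm s ∨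
        (p : Perm (Fin 9)) * modelPerm x0 * (p : Perm (Fin 9))⁻¹ = modelPerm s⁻¹) →
      ∃ s' : Model, InSyl s' ∧ (s' = s ∨ s' = s⁻¹) ∧ p * f c * p⁻¹ = f s' := by
    intro p s hs e
    have hs' : InSyl s⁻¹ := sylSub.inv_mem hs
    rcases center_syl c hcS hcc with rfl | rfl | rfl
    · exact absurd rfl hc1
    · rcases e with e | e
      · exact ⟨s, hs, Or.inl rfl, Subtype.ext e⟩
      · exact ⟨s⁻¹, hs', Or.inr rfl, Subtype.ext e⟩
    · rcases e with e | e
      · exact ⟨s⁻¹, hs', Or.inr rfl, by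
          rw [map_inv, map_inv, show p * (f x0)⁻¹ * p⁻¹ = (p * f x0 * p⁻¹)⁻¹ by group, _root_.inv_inj]
          exact Subtype.ext e⟩
      · exact ⟨s, hs, Or.inl rfl, by
          rw [map_inv, show p * (f x0)⁻¹ * p⁻¹ = (p * f x0 * p⁻¹)⁻¹ by group, inv_eq_iff_eq_inv, ← map_inv]
          exact Subtype.ext e⟩
  obtain ⟨t1, ht1, d1, f1⟩ := conj a s1 h1 eA
  obtain ⟨t2, ht2, d2, f2⟩ := conj b s2 h2 eB
  refine ⟨g⁻¹ * a * g, g⁻¹ * b * g, ?_, ?_, ?_⟩
  · rw [hmem, show g * (g⁻¹ * a * g * x * (g⁻¹ * a * g)⁻¹) * g⁻¹ = a * (g * x * g⁻¹) * a⁻¹ by group]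
    exact ⟨t1, ht1, by rw [← f1, hce]⟩
  · rw [hmem, show g * (g⁻¹ * b * g * x * (g⁻¹ * b * g)⁻¹) * g⁻¹ = b * (g * x * g⁻¹) * b⁻¹ by group]
    exact ⟨t2, ht2, by rw [← f2, hce]⟩
  · intro e
    have hcm : t1 * t2 = t2 * t1 := by
      refine hf ?_
      rw [map_mul, map_mul, ← f1, ← f2, hce]
      calc a * (g * x * g⁻¹) * a⁻¹ * (b * (g * x * g⁻¹) * b⁻¹)
          = g * (g⁻¹ * a * g * x * (g⁻¹ * a * g)⁻¹ * (g⁻¹ * b * g * x * (g⁻¹ * b * g)⁻¹)) * g⁻¹ := by group
        _ = _ := by rw [e]; group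
    refine hne ?_
    have hcm' : Commute t1 t2 := hcm
    rcases d1 with rfl | rfl <;> rcases d2 with rfl | rfl
    · exact hcm'.eq
    · exact (Commute.inv_right_iff.1 hcm').eq
    · exact (Commute.inv_left_iff.1 hcm').eq
    · exact (Commute.inv_inv_iff.1 hcm').eq

end Cfsg.Lib.LFourThree
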