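import Cfsg.Agent.Lib.LFourThree.ModelE
import Cfsg.Agent.Lib.LFourThree.NineFacts
import Cfsg.Agent.Lib.LFourThree.Signalizer
import Mathlib.GroupTheory.SchurZassenhaus

/-!
# The centralizer of an element with two Jordan blocks lies in the subgroup
-/

set_option autoImplicit false
set_option linter.unusedSectionVars false
set_option linter.style.haveILetI false
set_option maxRecDepth 100000
set_option maxHeartbeats 4000000
set_option synthInstance.maxSize 2000
set_option synthInstance.maxHeartbeats 200000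

namespace Cfsg.Lib.LFourThree

open Subgroup Matrix Cfsg.Lib.Recog.SingleBond
open Cfsg.Lib.Recog.ThreeCubedFour (Model InBase baseSub baseSub_normal mem_baseSub)
open Cfsg.Lib.NineThree (InSyl sylSub)
open scoped MatrixGroups

theorem tS03_shape : ∀ ε : ZMod 3, ∀ he : ε * ε = 1,
    (tS (0 : Fin 4) 3 1 : SL43) = mkL ε 1 (ε • !![0, 1; 0, 0]) det2_one he := by
  decide +kernel

theorem tS13_shape : ∀ ε : ZMod 3, ∀ he : ε * ε = 1, ∀ a : ZMod 3,
    (tS (1 : Fin 4) 3 a : SL43) = mkL ε 1 (ε • !![0, 0; 0, a]) det2_one he := by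
  decide +kernel

theorem tS03_pow : ∀ a : ZMod 3, ∀ ε : ZMod 3, ∀ he : ε * ε = 1,
    (tS (0 : Fin 4) 3 a : SL43) = mkL ε 1 (ε • !![0, a; 0, 0]) det2_one he := by
  decide +kernel

namespace Two

variable {G : Type*} [Group G] [Finite G] (P : Two G) {ε : ZMod 3} (he : ε * ε = 1)

/-- The element. -/
noncomputable def eG : G := P.phi (eM ε he)

theorem eG_mem : P.eG he ∈ P.G0 := P.phi_mem _

/-- The lift of the model into the subgroup. -/
noncomputable def mdl : Model →* G :=
  MonoidHom.mk' (fun x => P.phi (modL he x)) fun x y => modL_hom he P.phi P.phi_neg_one x y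

theorem mdl_comm (x : Model) : P.mdl he x ∈ centralizer ({P.eG he} : Set G) := by
  refine mem_centralizer_singleton_iff.2 ?_
  show P.phi (modL he x) * P.phi (eM ε he) = P.phi (eM ε he) * P.phi (modL he x)
  rw [← map_mul, ← map_mul, modL, eM, mkL_mul, mkL_mul]
  exact congrArg P.phi (mkL_congr he (by rw [mul_one, one_mul]) (by rw [mul_one, mul_one, one_mul, one_mul, add_comm]))

theorem cover {g : G} (hg : g ∈ centralizer ({P.eG he} : Set G)) (h0 : g ∈ P.G0) :
    ∃ x : Model, ∃ k : ℕ, g = P.mdl he x * P.eG he ^ k := by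
  obtain ⟨h, rfl⟩ := h0
  have hc : P.phi (eM ε he * h) = P.phi (h * eM ε he) := by
    rw [map_mul, map_mul]; exact (mem_centralizer_singleton_iff.1 hg).symm
  rcases P.phi_eq.1 hc with e | e
  · obtain ⟨x, y, k, -, hk⟩ := cent_cover he h e.symm
    refine ⟨x * y, k, ?_⟩
    rw [map_mul]
    show _ = P.phi (modL he x) * P.phi (modL he y) * P.phi (eM ε he) ^ k
    rcases hk with rfl | rfl
    · rw [map_mul, map_mul, map_pow]
    · rw [map_mul, map_mul, map_mul, map_pow, P.phi_neg_one, mul_one]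
  · exfalso
    have h3 : eM ε he ^ 3 = 1 := by
      rw [eM_pow, ← mkL_zero he]
      exact mkL_congr he rfl (by rw [show ((3 : ℕ) : ZMod 3) = 0 from rfl, zero_smul])
    have e1 : h⁻¹ * eM ε he * h = eM ε he * nI := by rw [mul_assoc, e]; group
    have e2 : (h⁻¹ * eM ε he * h) ^ 3 = (eM ε he * nI) ^ 3 := by rw [e1]
    rw [show h⁻¹ * eM ε he * h = h⁻¹ * eM ε he * h⁻¹⁻¹ by rw [inv_inv], conj_pow, h3, mul_one, mul_inv_cancel,
      (nI_facts.1 (eM ε he)).symm |> fun c : Commute (eM ε he) nI => c.mul_pow 3, h3, one_mul, pow_succ, pow_two,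
      nI_facts.2, one_mul] at e2
    exact absurd e2 (by decide +kernel)

/-- The central subgroup. -/
noncomputable abbrev cycE : Subgroup ↥(centralizer ({P.eG he} : Set G)) :=
  (zpowers (P.eG he)).subgroupOf _

theorem cycE_central {x : ↥(centralizer ({P.eG he} : Set G))} (hx : x ∈ P.cycE he)
    (g : ↥(centralizer ({P.eG he} : Set G))) : g * x = x * g := by
  obtain ⟨k, hk⟩ := (mem_subgroupOf.1 hx)
  refine Subtype.ext ?_
  show (g : G) * x = x * g
  rw [← hk]
  exact ((show Commute (g : G) (P.eG he) from mem_centralizer_singleton_iff.1 g.2).zpow_right k).eq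

instance cycE_normal : (P.cycE he).Normal :=
  ⟨fun x hx g => by rw [P.cycE_central he hx g, mul_inv_cancel_right]; exact hx⟩

/-- The quotient. -/
abbrev quotE : Type _ := ↥(centralizer ({P.eG he} : Set G)) ⧸ P.cycE he

/-- The map into the quotient. -/
noncomputable def hom : Model →* P.quotE he :=
  (QuotientGroup.mk' (P.cycE he)).comp ((P.mdl he).codRestrict _ (P.mdl_comm he))

theorem hom_eq {x : Model} {g : ↥(centralizer ({P.eG he} : Set G))} {k : ℕ}
    (h : (g : G) = P.mdl he x * P.eG he ^ k) : QuotientGroup.mk' (P.cycE he) g = P.hom he x := by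
  refine (QuotientGroup.eq.2 (mem_subgroupOf.2 ?_)).symm
  show (P.mdl he x)⁻¹ * (g : G) ∈ _
  rw [h, inv_mul_cancel_left]
  exact pow_mem (mem_zpowers _) _

theorem mk_mem_range (g : ↥(centralizer ({P.eG he} : Set G))) (h : (g : G) ∈ P.G0) :
    QuotientGroup.mk' (P.cycE he) g ∈ (P.hom he).range := by
  obtain ⟨x, k, e⟩ := P.cover he g.2 h
  exact ⟨x, (P.hom_eq he e).symm⟩

theorem mem_G0_of_mk {g : ↥(centralizer ({P.eG he} : Set G))}
    (h : QuotientGroup.mk' (P.cycE he) g ∈ (P.hom he).range) : (g : G) ∈ P.G0 := by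
  obtain ⟨x, hx⟩ := h
  obtain ⟨k, hk⟩ := mem_subgroupOf.1 (QuotientGroup.eq.1 hx)
  have hk' : P.eG he ^ k = (P.mdl he x)⁻¹ * (g : G) := hk
  rw [show (g : G) = P.mdl he x * P.eG he ^ k by rw [hk', mul_inv_cancel_left]]
  exact mul_mem (P.phi_mem _) (zpow_mem (P.eG_mem he) k)

theorem eG_pow (k : ℕ) : P.eG he ^ k = P.phi (mkL ε 1 ((k : ZMod 3) • 1) det2_one he) := by
  rw [← eM_pow, map_pow]; rfl

theorem hom_injective : Function.Injective (P.hom he) := by
  refine (injective_iff_map_eq_one _).2 fun x hx => ?_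
  obtain ⟨k, hk⟩ := mem_subgroupOf.1 ((QuotientGroup.eq_one_iff _).1 hx)
  have hfin : IsOfFinOrder (P.eG he) := isOfFinOrder_of_finite _
  obtain ⟨n, hn⟩ := hfin.mem_powers_iff_mem_zpowers.2 ⟨k, rfl⟩
  have e : P.phi (mkL ε 1 ((n : ZMod 3) • 1) det2_one he) = P.phi (modL he x) := by
    rw [← eG_pow]; exact hn.trans hk
  rcases P.phi_eq.1 e with e | e
  · refine kernel_trivial x ?_ ⟨(n : ZMod 3), ?_⟩
    · left
      ext i j
      have := congrArg (fun M : SL43 => M.1 (Fin.castLE (by omega) i) (Fin.castLE (by omega) j)) e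
      fin_cases i <;> fin_cases j <;> simpa [mkL, modL] using this.symm
    · ext i j
      have := congrArg (fun M : SL43 => M.1 (Fin.castLE (by omega) i) ((j : Fin 2).natAdd 2)) e
      have hε : ε ≠ 0 := fun h0 => by rw [h0, mul_zero] at he; exact zero_ne_one he
      fin_cases i <;> fin_cases j <;> simpa [mkL, modL, hε] using this.symm
  · rw [modL, ← mkL_neg] at e
    refine kernel_trivial x ?_ ⟨-(n : ZMod 3), ?_⟩
    · right
      ext i j
      have := congrArg (fun M : SL43 => M.1 (Fin.castLE (by omega) i) (Fin.castLE (by omega) j)) e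
      fin_cases i <;> fin_cases j <;> simp [mkL] at this ⊢ <;> rw [this] <;> simp
    · ext i j
      have := congrArg (fun M : SL43 => M.1 (Fin.castLE (by omega) i) ((j : Fin 2).natAdd 2)) e
      have hε : ε ≠ 0 := fun h0 => by rw [h0, mul_zero] at he; exact zero_ne_one he
      fin_cases i <;> fin_cases j <;> simp [mkL, hε] at this ⊢ <;>
        first
          | (rw [this] <;> simp)
          | (have h2 := congrArg (ε * ·) this
             simp [← mul_assoc, he] at h2
             rw [h2]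
             simp)

theorem base_shape (W : M22) : ∃ y : Model, InBase y ∧ ∃ k : ℕ,
    P.phi (mkL ε 1 W det2_one he) = P.mdl he y * P.eG he ^ k := by
  obtain ⟨y, hy, hy1, k, hk⟩ := tra_base W
  refine ⟨y, hy, k.val, ?_⟩
  show _ = P.phi (modL he y) * _
  rw [eG_pow, ← map_mul, modL, mkL_mul]
  refine congrArg P.phi (mkL_congr he ?_ ?_)
  · rw [hy1, mul_one]
  · rw [hy1, ZMod.natCast_zmod_val, one_mul, mul_one, hk, add_comm]

theorem shape_mem (W : M22) : P.phi (mkL ε 1 W det2_one he) ∈ centralizer ({P.eG he} : Set G) := by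
  obtain ⟨y, -, k, e⟩ := P.base_shape he W
  rw [e]
  exact mul_mem (P.mdl_comm he y) (pow_mem (mem_centralizer_singleton_iff.2 rfl) k)

theorem z_shape : P.phi (mkL ε 1 (ε • !![0, 1; 0, 0]) det2_one he) = P.F.z := by
  rw [← tS03_shape ε he, phi_z]

theorem norm' (g : P.quotE he) (h : ∀ x : Model, InBase x → g * P.hom he x * g⁻¹ ∈ baseSub.map (P.hom he)) :
    g ∈ (P.hom he).range := by
  obtain ⟨g, rfl⟩ := QuotientGroup.mk'_surjective _ g
  refine P.mk_mem_range he g (P.mem_of_z ?_)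
  obtain ⟨y, hy, k, hk⟩ := P.base_shape he (ε • !![0, 1; 0, 0])
  rw [z_shape] at hk
  have hzC : P.F.z ∈ centralizer ({P.eG he} : Set G) := P.z_shape he ▸ P.shape_mem he _
  have hzm : QuotientGroup.mk' (P.cycE he) ⟨P.F.z, hzC⟩ = P.hom he y := P.hom_eq he hk
  obtain ⟨x, -, hx⟩ := h y hy
  have := P.mem_G0_of_mk he (g := g * ⟨P.F.z, hzC⟩ * g⁻¹) ⟨x, by rw [hx, map_mul, map_mul, map_inv, hzm]⟩
  exact this

/-- A pure plane centralizing the base. -/
noncomputable def planeB : Subgroup G where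
  carrier := {g | ∃ a b : ZMod 3, g = P.F.pt P.T ![a, b, 0]}
  one_mem' := ⟨0, 0, by rw [show (![0, 0, 0] : Fin 3 → ZMod 3) = 0 by decide, P.F.pt_zero]⟩
  mul_mem' := by
    rintro _ _ ⟨a, b, rfl⟩ ⟨a', b', rfl⟩
    exact ⟨a + a', b + b', by rw [← P.F.pt_add]; congr 1; simp⟩
  inv_mem' := by
    rintro _ ⟨a, b, rfl⟩
    refine ⟨-a, -b, inv_eq_of_mul_eq_one_right ?_⟩
    rw [← P.F.pt_add, show (![a, b, 0] : Fin 3 → ZMod 3) + ![-a, -b, 0] = 0 by revert a b; decide, P.F.pt_zero]

theorem planeB_card : Nat.card P.planeB = 9 := by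
  rw [show 9 = Nat.card (ZMod 3 × ZMod 3) by rw [Nat.card_prod, Nat.card_zmod]]
  refine (Nat.card_eq_of_bijective (fun v : ZMod 3 × ZMod 3 =>
    (⟨P.F.pt P.T ![v.1, v.2, 0], v.1, v.2, rfl⟩ : P.planeB)) ⟨?_, ?_⟩).symm
  · intro v w e
    have := P.F.pt_injective P.T (congrArg Subtype.val e)
    exact Prod.ext (congrFun this 0) (congrFun this 1)
  · rintro ⟨_, a, b, rfl⟩
    exact ⟨(a, b), rfl⟩

theorem planeB_shape {b : G} (hb : b ∈ P.planeB) : ∃ W, b = P.phi (mkL ε 1 W det2_one he) := by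
  obtain ⟨a, c, rfl⟩ := hb
  refine ⟨ε • !![0, a; 0, 0] + ε • !![0, 0; 0, c], ?_⟩
  have e : mkL ε 1 (ε • !![0, a; 0, 0] + ε • !![0, 0; 0, c]) det2_one he = tS 0 3 a * tS 1 3 c := by
    rw [tS03_pow a ε he, tS13_shape ε he c, mkL_mul]
    exact mkL_congr he (mul_one _).symm (by rw [one_mul, mul_one, add_comm])
  rw [e, map_mul, phi_03, phi_13]
  rfl

theorem core_bot (x : Model) (hx : InBase x) (hx1 : x ≠ 1) :
    Cfsg.pPrimeCore 3 ↥(centralizer ({P.hom he x} : Set (P.quotE he))) = ⊥ := by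
  haveI : Fact (Nat.Prime 3) := ⟨Nat.prime_three⟩
  set CX := centralizer ({P.hom he x} : Set (P.quotE he))
  set N := Cfsg.pPrimeCore 3 ↥CX
  have hN : N.Normal := by infer_instance
  set Xb := N.map CX.subtype
  have hXb : Nat.card Xb = Nat.card N := Subgroup.card_map_of_injective (Subgroup.subtype_injective _)
  set π' := QuotientGroup.mk' (P.cycE he)
  set Y := Xb.comap π'
  have hZY : P.cycE he ≤ Y := fun g hg => by
    show π' g ∈ Xb
    rw [show π' g = 1 from (QuotientGroup.eq_one_iff _).2 hg]; exact one_mem _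
  set Z' := (P.cycE he).subgroupOf Y
  haveI : Z'.Normal := Subgroup.Normal.subgroupOf inferInstance Y
  have hn : Z'.index = Nat.card N := by
    let f : Y →* Xb := π'.subgroupComap Xb
    have hsurj : Function.Surjective f := MonoidHom.subgroupComap_surjective_of_surjective π' Xb (QuotientGroup.mk'_surjective _)
    have hker : f.ker = Z' := by
      ext g
      rw [MonoidHom.mem_ker, mem_subgroupOf, ← QuotientGroup.eq_one_iff]
      exact ⟨fun e => congrArg Subtype.val e, fun e => Subtype.ext e⟩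
    rw [← hker, Subgroup.index_ker, MonoidHom.range_eq_top.2 hsurj, Subgroup.card_top, hXb]
  have hcN : (Nat.card N).Coprime 3 := Cfsg.Lib.Core.pPrimeCore_coprime 3 _
  have hZ3 : Nat.card Z' ∣ 3 := by
    rw [Nat.card_congr (Subgroup.subgroupOfEquivOfLe hZY).toEquiv,
      Nat.card_congr (Subgroup.subgroupOfEquivOfLe (zpowers_le.2 (mem_centralizer_singleton_iff.2 rfl))).toEquiv,
      Nat.card_zpowers]
    refine orderOf_dvd_of_pow_eq_one ?_
    rw [eG_pow, show ((3 : ℕ) : ZMod 3) = 0 from rfl, zero_smul, mkL_zero, map_one]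
  have hcop : (Nat.card Z').Coprime Z'.index := by
    rw [hn]; exact Nat.Coprime.coprime_dvd_left hZ3 hcN.symm
  obtain ⟨H, hH⟩ := Subgroup.exists_right_complement'_of_coprime hcop
  have hHc : Nat.card H = Nat.card N := by rw [← hn]; exact hH.symm.index_eq_card.symm
  -- the complement consists of the elements killed by its order
  have hchar : ∀ g : Y, g ^ Nat.card N = 1 → g ∈ H := by
    intro g hg
    obtain ⟨⟨z, h⟩, hzh, -⟩ := hH.existsUnique g
    have hzh' : (z : Y) * h = g := hzh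
    have hcm : Commute (z : Y) (h : Y) := by
      refine Subtype.ext ?_
      exact (P.cycE_central he (mem_subgroupOf.1 z.2) ((h : Y) : _)).symm
    have h1 : (h : Y) ^ Nat.card N = 1 := by
      rw [← hHc]; exact congrArg Subtype.val (pow_card_eq_one' (x := h))
    rw [← hzh', hcm.mul_pow, h1, mul_one] at hg
    have hz1 : (z : Y) = 1 := by
      refine orderOf_eq_one_iff.1 (Nat.eq_one_of_dvd_coprimes hcop ?_ ?_)
      · exact Subgroup.orderOf_dvd_natCard Z' z.2
      · rw [hn]; exact orderOf_dvd_of_pow_eq_one hg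
    rw [← hzh', hz1, one_mul]; exact h.2
  set X := (H.map Y.subtype).map (centralizer ({P.eG he} : Set G)).subtype
  have hX : X = ⊥ := by
    refine P.F.signalizer (B := P.planeB) ?_ P.planeB_card ?_ ?_
    · rintro _ ⟨a, b, rfl⟩; exact P.F.pt_mem P.T _
    · rw [Subgroup.card_map_of_injective (Subgroup.subtype_injective _),
        Subgroup.card_map_of_injective (Subgroup.subtype_injective _), hHc]
      exact hcN
    · rintro b hb _ ⟨_, ⟨h, hh, rfl⟩, rfl⟩
      obtain ⟨W, hW⟩ := P.planeB_shape he hb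
      have hbC : b ∈ centralizer ({P.eG he} : Set G) := hW ▸ P.shape_mem he W
      set b' : ↥(centralizer ({P.eG he} : Set G)) := ⟨b, hbC⟩
      have hbX : π' b' ∈ CX := by
        obtain ⟨y, hy, k, hk⟩ := P.base_shape he W
        rw [show π' b' = P.hom he y from P.hom_eq he (hW.trans hk)]
        refine mem_centralizer_singleton_iff.2 ?_
        rw [← map_mul, ← map_mul, Cfsg.Lib.NineThree.inBase_commute y x hy hx]
      have hmem : b' * (h : Y).1 * b'⁻¹ ∈ Y := by
        obtain ⟨n, hn', en⟩ := (h : Y).2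
        refine ⟨⟨π' b', hbX⟩ * n * ⟨π' b', hbX⟩⁻¹, hN.conj_mem n hn' _, ?_⟩
        rw [map_mul, map_mul, map_inv, map_mul, map_mul, map_inv, ← en]
        rfl
      refine ⟨b' * (h : Y).1 * b'⁻¹, ⟨⟨_, hmem⟩, hchar _ (Subtype.ext ?_), rfl⟩, rfl⟩
      show (b' * (h : Y).1 * b'⁻¹) ^ Nat.card N = 1
      rw [conj_pow, ← hHc, show (h : Y).1 ^ Nat.card H = 1 from
        congrArg (fun t : Y => t.1) (congrArg Subtype.val (pow_card_eq_one' (x := (⟨h, hh⟩ : H)))),
        mul_one, mul_inv_cancel]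
  have h1 : Nat.card X = 1 := by rw [hX]; exact Subgroup.card_bot
  rw [Subgroup.card_map_of_injective (Subgroup.subtype_injective _),
    Subgroup.card_map_of_injective (Subgroup.subtype_injective _), hHc] at h1
  exact Subgroup.card_eq_one.1 h1

/-- The frame in the quotient. -/
noncomputable def frame : Cfsg.Lib.NineThree.Frame (P.quotE he) where
  φ := P.hom he
  inj := P.hom_injective he
  norm := P.norm' he
  core := P.core_bot he

theorem not_nine : IsEmpty (P.quotE he ≃* alternatingGroup (Fin 9)) := by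
  refine ⟨fun f => ?_⟩
  set S := sylSub.map (f.toMonoidHom.comp (P.hom he))
  have hinj : Function.Injective (f.toMonoidHom.comp (P.hom he)) := f.injective.comp (P.hom_injective he)
  have hS : Nat.card S = 81 := by rw [Subgroup.card_map_of_injective hinj, card_sylSub]
  obtain ⟨a, b, ha, hb, hab⟩ := nine_fusion S hS (f (P.hom he x0)) ⟨x0, x0_facts.2.1, rfl⟩
    (fun e => x0_facts.2.2.1 (hinj (e.trans (map_one _).symm)))
    (by
      rintro _ ⟨s, hs, rfl⟩
      show f (P.hom he x0) * f (P.hom he s) = f (P.hom he s) * f (P.hom he x0)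
      rw [← map_mul, ← map_mul, ← map_mul, ← map_mul, x0_facts.2.2.2 s hs])
  -- a lift of the central element conjugate to the element of order three or its inverse
  obtain ⟨y, hy, k, hk⟩ := P.base_shape he (ε • !![0, 1; 0, 0])
  rw [z_shape] at hk
  have hzC : P.F.z ∈ centralizer ({P.eG he} : Set G) := P.z_shape he ▸ P.shape_mem he _
  have hzm : QuotientGroup.mk' (P.cycE he) ⟨P.F.z, hzC⟩ = P.hom he y := P.hom_eq he hk
  obtain ⟨y', hy', hy1', k', hk'⟩ := tra_base (ε • (!![0, 1; 0, 0] : M22))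
  obtain ⟨u, huC, hum, hup⟩ : ∃ u, ∃ hu : u ∈ centralizer ({P.eG he} : Set G),
      QuotientGroup.mk' (P.cycE he) ⟨u, hu⟩ = P.hom he x0 ∧ P.F.D.Pure u ∧ u ∈ P.G0 := by
    obtain ⟨h', hh⟩ : ∃ h : Model, h * y * h⁻¹ = x0 ∨ h * y⁻¹ * h⁻¹ = x0 := by
      have hε : ε ≠ 0 := fun h0 => by rw [h0, mul_zero] at he; exact zero_ne_one he
      have : y = y' := by
        refine P.hom_injective he ?_
        rw [← hzm]
        refine P.hom_eq he (k := k'.val) ?_
        show P.F.z = P.phi (modL he y') * _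
        rw [← P.z_shape he, eG_pow, ← map_mul, modL, mkL_mul]
        exact congrArg P.phi (mkL_congr he (by rw [hy1', mul_one])
          (by rw [hy1', ZMod.natCast_zmod_val, one_mul, mul_one, hk', add_comm]))
      exact root_conj y hy ε hε k' (this ▸ hk')
    set m : ↥(centralizer ({P.eG he} : Set G)) := ⟨P.mdl he h', P.mdl_comm he h'⟩
    have hm : QuotientGroup.mk' (P.cycE he) m = P.hom he h' := P.hom_eq he (k := 0) (by rw [pow_zero, mul_one])
    rcases hh with e | e
    · refine ⟨_, (m * ⟨P.F.z, hzC⟩ * m⁻¹).2, ?_, P.pure_z.conj _ _, mul_mem (mul_mem (P.phi_mem _) P.z_mem_G0)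
        (inv_mem (P.phi_mem _))⟩
      rw [show (⟨_, (m * ⟨P.F.z, hzC⟩ * m⁻¹).2⟩ : ↥(centralizer ({P.eG he} : Set G))) = m * ⟨P.F.z, hzC⟩ * m⁻¹
        from rfl, map_mul, map_mul, map_inv, hm, hzm, ← e, map_mul, map_mul, map_inv]
    · refine ⟨_, (m * ⟨P.F.z, hzC⟩⁻¹ * m⁻¹).2, ?_,
        (show P.F.D.Pure P.F.z⁻¹ from ⟨1, Or.inr (by rw [one_mul, inv_one, mul_one])⟩).conj _ _,
        mul_mem (mul_mem (P.phi_mem _) (inv_mem P.z_mem_G0)) (inv_mem (P.phi_mem _))⟩
      rw [show (⟨_, (m * ⟨P.F.z, hzC⟩⁻¹ * m⁻¹).2⟩ : ↥(centralizer ({P.eG he} : Set G))) = m * ⟨P.F.z, hzC⟩⁻¹ * m⁻¹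
        from rfl, map_mul, map_mul, map_inv, map_inv, hm, hzm, ← e, map_mul, map_mul, map_inv, map_inv]
  obtain ⟨hup, huG⟩ := hup
  have key : ∀ a : alternatingGroup (Fin 9), a * f (P.hom he x0) * a⁻¹ ∈ S →
      ∃ s : Model, InBase s ∧ a * f (P.hom he x0) * a⁻¹ = f (P.hom he s) := by
    intro a ha
    obtain ⟨q, rfl⟩ := f.surjective a
    obtain ⟨g, rfl⟩ := QuotientGroup.mk'_surjective (P.cycE he) q
    obtain ⟨s, -, hs⟩ := ha
    have e1 : QuotientGroup.mk' (P.cycE he) (g * ⟨u, huC⟩ * g⁻¹) = P.hom he s := f.injective (by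
      rw [map_mul (QuotientGroup.mk' (P.cycE he)), map_mul (QuotientGroup.mk' (P.cycE he)), map_inv (QuotientGroup.mk' (P.cycE he)), hum, map_mul,
        map_mul, map_inv]; exact hs.symm)
    have hg := P.mem_of_pure huG hup (g := (g : G)) (P.mem_G0_of_mk he (g := g * ⟨u, huC⟩ * g⁻¹) ⟨s, e1.symm⟩)
    obtain ⟨r, hr⟩ := P.mk_mem_range he g hg
    refine ⟨r * x0 * r⁻¹, baseSub_normal.conj_mem x0 x0_facts.1 r, ?_⟩
    rw [← hr, map_mul (P.hom he), map_mul (P.hom he), map_inv (P.hom he), map_mul, map_mul, map_inv]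
  obtain ⟨s, hs, es⟩ := key a ha
  obtain ⟨t, ht, et⟩ := key b hb
  refine hab ?_
  rw [es, et, ← map_mul, ← map_mul, ← map_mul, ← map_mul, Cfsg.Lib.NineThree.inBase_commute s t hs ht]

/-- The centralizer of the element lies in the subgroup. -/
theorem cent_eG_le : centralizer ({P.eG he} : Set G) ≤ P.G0 := by
  rcases (P.frame he).recognised with h | h
  · intro g hg
    refine P.mem_G0_of_mk he (g := ⟨g, hg⟩) ?_
    rw [show (P.hom he).range = ⊤ from h]; exact Subgroup.mem_top _
  · exact ((P.not_nine he).false h.some).elim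

end Two

end Cfsg.Lib.LFourThree
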