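import Cfsg.Agent.Lib.LFourThree.CentTBase

/-!
# The centralizer of the first involution lies in the subgroup
-/

set_option autoImplicit false
set_option linter.unusedSectionVars false
set_option linter.style.haveILetI false
set_option maxRecDepth 100000
set_option maxHeartbeats 4000000

namespace Cfsg.Lib.LFourThree

open Subgroup Matrix Cfsg.Lib.Recog.SingleBond Cfsg.Lib.PSpThree
open scoped MatrixGroups

theorem upr_sl : (upr (1 : ZMod 3) : SL23) * qI = qJ⁻¹ * upr 1 ∧ (upr (1 : ZMod 3) : SL23) * qJ = qJ * qI * upr 1 := by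
  decide +kernel

theorem det_one_neg : det2 (1 : M22) * det2 (-1 : M22) = 1 := by decide

theorem norm_shape : ∀ i j : Fin 2, ∀ a b a' b' : ZMod 3,
    iM ^ i.val * tM ^ j.val * (tS 0 3 a * tS 1 2 b) * (tS 0 3 a' * tS 1 2 b') =
      tS 0 3 (if i = 0 then a' else -a') * tS 1 2 (if i = 0 then b' else -b') *
        (iM ^ i.val * tM ^ j.val * (tS 0 3 a * tS 1 2 b)) := by
  decide +kernel

theorem small_facts : swM * tM = tM * swM * nI ∧ iM * swM = swM * iM ∧ nI ≠ 1 ∧ tM ≠ 1 ∧ tM ≠ nI ∧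
    (∀ a b : ZMod 3, iM * (tS 0 3 a * tS 1 2 b) = (tS 0 3 (-a) * tS 1 2 (-b)) * iM) ∧
    (∀ a b : ZMod 3, tM * (tS 0 3 a * tS 1 2 b) = (tS 0 3 a * tS 1 2 b) * tM) ∧
    iM ≠ 1 ∧ iM ≠ nI ∧ iM * tM ≠ 1 ∧ iM * tM ≠ nI := by
  decide +kernel

namespace Two

variable {G : Type*} [Group G] [Finite G] (P : Two G)

/-- Involutions of the subgroup are of two kinds. -/
def TwoKinds : Prop := ∀ x ∈ P.G0, x * x = 1 → x ≠ 1 →
  ∃ k ∈ P.G0, k * P.phi tM * k⁻¹ = x ∨ k * P.phi uM * k⁻¹ = x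

/-- The second involution is not conjugate to the first. -/
def Distinct : Prop := ¬ IsConj (P.phi tM) (P.phi uM)

theorem ET_comm {a b : G} (ha : a ∈ P.ET) (hb : b ∈ P.ET) : a * b = b * a := by
  obtain ⟨x, y, rfl⟩ := ha
  obtain ⟨x', y', rfl⟩ := hb
  rw [P.eT_add, P.eT_add, add_comm x, add_comm y]

theorem ET_cube {a : G} (ha : a ∈ P.ET) : a ^ 3 = 1 := by
  obtain ⟨x, y, rfl⟩ := ha
  rw [pow_succ, pow_two, P.eT_add, P.eT_add]
  have : ∀ c : ZMod 3, c + c + c = 0 := by decide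
  rw [this, this, P.eT_zero]

theorem ET_not_cyclic : ¬ IsCyclic P.ET := by
  intro h
  obtain ⟨g, hg⟩ := h.exists_generator
  have h9 : orderOf g = 9 := by
    rw [← P.ET_card, ← Nat.card_zpowers, show zpowers g = ⊤ from eq_top_iff.2 fun x _ => hg x, Subgroup.card_top]
  have h3 : orderOf g ∣ 3 := orderOf_dvd_of_pow_eq_one (Subtype.ext (P.ET_cube g.2))
  rw [h9] at h3
  norm_num at h3

theorem z_mem_ET : P.F.z ∈ P.ET := ⟨1, 0, by rw [eT, tS_zero.2, mul_one, P.phi_z]⟩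

/-- The subgroup for three is a Sylow subgroup of every subgroup between it and the centralizer. -/
theorem exists_sylow_three (Y : Subgroup G) (h1 : P.ET ≤ Y) (h2 : Y ≤ P.CT) :
    ∃ S : Sylow 3 Y, (S : Subgroup Y) = P.ET.subgroupOf Y := by
  haveI : Fact (Nat.Prime 3) := ⟨Nat.prime_three⟩
  have hp : IsPGroup 3 (P.ET.subgroupOf Y) := IsPGroup.of_card (n := 2) (by
    rw [Nat.card_congr (Subgroup.subgroupOfEquivOfLe h1).toEquiv, P.ET_card]; norm_num)
  obtain ⟨S, hS⟩ := hp.exists_le_sylow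
  refine ⟨S, le_antisymm ?_ hS⟩
  have e := P.sylow_three ((S : Subgroup Y).map Y.subtype) (S.isPGroup'.map _)
    (fun g hg => ⟨⟨g, h1 hg⟩, hS hg, rfl⟩) ((Subgroup.map_subtype_le _).trans h2)
  intro g hg
  show (g : G) ∈ P.ET
  rw [← e]
  exact ⟨g, hg, rfl⟩

theorem side_images {n : G} (h : ∀ g : SL23, n * P.side false g * n⁻¹ ∈ P.G0 ∧ n * P.side true g * n⁻¹ ∈ P.G0)
    (s : Bool) : n * P.side s qI * n⁻¹ ∈ P.G0 ∧ n * P.side s qJ * n⁻¹ ∈ P.G0 := by
  cases s <;> exact ⟨by first | exact (h qI).1 | exact (h qI).2, by first | exact (h qJ).1 | exact (h qJ).2⟩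

theorem centQ_three {l : G} (hl : l ∈ P.centQ) (h3 : l ^ 3 = 1) : l = 1 := by
  haveI : Fact (Nat.Prime 3) := ⟨Nat.prime_three⟩
  by_contra hl1
  obtain ⟨S, hS⟩ := P.exists_sylow_three P.CT P.ET_le_CT le_rfl
  set L : P.CT := ⟨l, hl.1⟩
  have hp : IsPGroup 3 (zpowers L) := by
    obtain ⟨k, -, hk⟩ := (Nat.dvd_prime_pow Nat.prime_three).1
      (orderOf_dvd_of_pow_eq_one (show L ^ 3 ^ 1 = 1 from Subtype.ext (by simpa using h3)))
    exact IsPGroup.of_card (n := k) (by rw [Nat.card_zpowers, hk])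
  obtain ⟨W, hW⟩ := hp.exists_le_sylow
  obtain ⟨x, hx⟩ := MulAction.exists_smul_eq P.CT W S
  have he : (x : G) * l * (x : G)⁻¹ ∈ P.ET := by
    have : x * L * x⁻¹ ∈ (S : Subgroup P.CT) := by
      rw [← hx]; exact ⟨L, hW (mem_zpowers _), rfl⟩
    rw [hS] at this
    exact this
  set e := (x : G) * l * (x : G)⁻¹ with hedef
  have he1 : e ≠ 1 := fun h => hl1 (conj_eq_one_iff.1 h)
  have hcomm : ∀ s, Commute e ((x : G) * P.side s qI * (x : G)⁻¹) ∧ Commute e ((x : G) * P.side s qJ * (x : G)⁻¹) :=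
    fun s => ⟨(hl.2 s).1.map (MulAut.conj (x : G)).toMonoidHom, (hl.2 s).2.map (MulAut.conj (x : G)).toMonoidHom⟩
  have hG : ∀ s, (x : G) * P.side s qI * (x : G)⁻¹ ∈ P.G0 ∧ (x : G) * P.side s qJ * (x : G)⁻¹ ∈ P.G0 := fun s =>
    ⟨P.cent_ET he he1 (mem_centralizer_singleton_iff.2 (hcomm s).1.eq.symm),
      P.cent_ET he he1 (mem_centralizer_singleton_iff.2 (hcomm s).2.eq.symm)⟩
  have heQ : e ∈ P.centQ := ⟨P.ET_le_CT he, fun s =>
    ⟨P.comm_std x.2 hG (P.ET_le_CT he) hcomm s qI upr_conj.2.2.1,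
      P.comm_std x.2 hG (P.ET_le_CT he) hcomm s qJ upr_conj.2.2.2.1⟩⟩
  rcases P.centQ_small heQ (P.ET_le_G0 he) with h | h
  · exact he1 h
  · refine he1 ?_
    have h3' := P.ET_cube he
    rw [pow_succ, pow_two, h, P.phi_tM_sq, one_mul] at h3'
    rw [h, h3']

theorem centQ_le {g : G} (hg : g ∈ P.centQ) : g ∈ P.G0 := by
  haveI : Fact (Nat.Prime 3) := ⟨Nat.prime_three⟩
  haveI : IsMulCommutative P.ET := ⟨⟨fun a b => Subtype.ext (P.ET_comm a.2 b.2)⟩⟩
  have hnorm : ∀ e ∈ P.ET, ∀ c ∈ P.centQ, e * c * e⁻¹ ∈ P.centQ := by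
    intro e he c hc
    have heC := P.ET_le_CT he
    have hm : e * c * e⁻¹ ∈ P.CT := mul_mem (mul_mem heC hc.1) (inv_mem heC)
    have hG : ∀ s, e * P.side s qI * e⁻¹ ∈ P.G0 ∧ e * P.side s qJ * e⁻¹ ∈ P.G0 := fun s =>
      ⟨mul_mem (mul_mem (P.ET_le_G0 he) (P.side_mem_G0 s _)) (inv_mem (P.ET_le_G0 he)),
        mul_mem (mul_mem (P.ET_le_G0 he) (P.side_mem_G0 s _)) (inv_mem (P.ET_le_G0 he))⟩
    have hcm : ∀ s, Commute (e * c * e⁻¹) (e * P.side s qI * e⁻¹) ∧ Commute (e * c * e⁻¹) (e * P.side s qJ * e⁻¹) :=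
      fun s => ⟨(hc.2 s).1.map (MulAut.conj e).toMonoidHom, (hc.2 s).2.map (MulAut.conj e).toMonoidHom⟩
    exact ⟨hm, fun s => ⟨P.comm_std heC hG hm hcm s qI upr_conj.2.2.1, P.comm_std heC hG hm hcm s qJ upr_conj.2.2.2.1⟩⟩
  have hn : P.ET ≤ normalizer (P.centQ : Set G) := fun e he => mem_normalizer_iff.2 fun c =>
    ⟨hnorm e he c, fun h => by
      have h' := hnorm _ (inv_mem he) _ h
      simpa [mul_assoc] using h'⟩
  have hcop : (Nat.card P.ET).Coprime (Nat.card P.centQ) := by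
    rw [P.ET_card, show (9 : ℕ) = 3 ^ 2 by norm_num]
    refine Nat.Coprime.pow_left 2 ((Nat.prime_three.coprime_iff_not_dvd).2 fun hd => ?_)
    obtain ⟨l, hl⟩ := exists_prime_orderOf_dvd_card' 3 hd
    have h3 : (l : G) ^ 3 = 1 := by
      have := pow_orderOf_eq_one l
      rw [hl] at this
      simpa using congrArg Subtype.val this
    rw [show l = 1 from Subtype.ext (P.centQ_three l.2 h3), orderOf_one] at hl
    norm_num at hl
  refine ((Cfsg.Lib.Coprime.le_iSup_centralizer_of_not_isCyclic P.ET_not_cyclic hn hcop).trans (iSup_le ?_)) hg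
  rintro ⟨a, ha, ha1⟩
  exact inf_le_right.trans (P.cent_ET ha ha1)

/-- An element carrying both quaternion subgroups into the subgroup lies in it. -/
theorem mem_of_quat {n : G} (hn : n ∈ P.CT) (h : ∀ s, n * P.side s qI * n⁻¹ ∈ P.G0 ∧ n * P.side s qJ * n⁻¹ ∈ P.G0) :
    n ∈ P.G0 := by
  obtain ⟨σ, a, b, hf⟩ := P.sideFrame hn h
  obtain ⟨ha, hb, hab, ea, eb⟩ := hf false
  obtain ⟨-, -, -, ea', eb'⟩ := hf true
  rw [Bool.xor_false] at ea eb
  rw [Bool.xor_true] at ea' eb'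
  obtain ⟨x, hx1, hx2⟩ := q_conj _ _ ha hb hab
  set a₀ := a false
  set b₀ := b false
  have hbinv : b₀⁻¹.1 = -b₀.1 := by
    have e : b₀⁻¹ = b₀ * (b₀ * b₀)⁻¹ := by group
    have e2 : b₀ * b₀ = qI * qI := Subtype.ext (hb.trans upr_conj.2.2.1.symm)
    rw [e, e2, show (qI * qI)⁻¹ = qI * qI by decide +kernel]
    show b₀.1 * (qI.1 * qI.1) = -b₀.1
    rw [show qI.1 * qI.1 = -1 from upr_conj.2.2.1, mul_neg, mul_one]
  have X1 : x * a₀ = b₀⁻¹ * x := Subtype.ext (by
    show x.1 * a₀.1 = b₀⁻¹.1 * x.1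
    rw [hbinv]; exact hx1)
  have X2 : x * b₀ = b₀ * a₀ * x := Subtype.ext hx2
  set w := n * P.F.z * n⁻¹ with hw
  set y := (P.side σ x)⁻¹ * w with hy
  have hwC : w ∈ P.CT := mul_mem (mul_mem hn P.z_mem_CT) (inv_mem hn)
  have hyC : y ∈ P.CT := mul_mem (inv_mem (P.side_mem_CT _ _)) hwC
  have hz1 : P.F.z * P.side false qI * P.F.z⁻¹ = (P.side false qJ)⁻¹ := by
    rw [P.z_side, ← map_inv, ← map_mul, ← map_mul, upr_sl.1, mul_inv_cancel_right, map_inv]
  have hz2 : P.F.z * P.side false qJ * P.F.z⁻¹ = P.side false qJ * P.side false qI := by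
    rw [P.z_side, ← map_inv, ← map_mul, ← map_mul, upr_sl.2, mul_inv_cancel_right, map_mul]
  have hz3 : ∀ q, P.F.z * P.side true q * P.F.z⁻¹ = P.side true q := fun q => by
    rw [P.z_side]
    exact mul_inv_eq_iff_eq_mul.2 (show Commute (P.side false (upr 1)) (P.side true q) from P.side_comm false _ q).eq
  have cw : ∀ q, w * (n * P.side true q * n⁻¹) * w⁻¹ = n * P.side true q * n⁻¹ := fun q => by
    rw [hw, show n * P.F.z * n⁻¹ * (n * P.side true q * n⁻¹) * (n * P.F.z * n⁻¹)⁻¹ =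
      n * (P.F.z * P.side true q * P.F.z⁻¹) * n⁻¹ by group, hz3]
  have wa : w * P.side σ a₀ * w⁻¹ = (P.side σ b₀)⁻¹ := by
    rw [← ea, ← eb, hw, show n * P.F.z * n⁻¹ * (n * P.side false qI * n⁻¹) * (n * P.F.z * n⁻¹)⁻¹ =
      n * (P.F.z * P.side false qI * P.F.z⁻¹) * n⁻¹ by group, hz1]
    group
  have wb : w * P.side σ b₀ * w⁻¹ = P.side σ b₀ * P.side σ a₀ := by
    rw [← ea, ← eb, hw, show n * P.F.z * n⁻¹ * (n * P.side false qJ * n⁻¹) * (n * P.F.z * n⁻¹)⁻¹ =
      n * (P.F.z * P.side false qJ * P.F.z⁻¹) * n⁻¹ by group, hz2]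
    group
  have hcm : ∀ v : G, w * v * w⁻¹ = P.side σ x * v * (P.side σ x)⁻¹ → Commute y v := by
    intro v e
    refine mul_inv_eq_iff_eq_mul.1 ?_
    rw [hy, show (P.side σ x)⁻¹ * w * v * ((P.side σ x)⁻¹ * w)⁻¹ = (P.side σ x)⁻¹ * (w * v * w⁻¹) * P.side σ x by group, e]
    group
  have hc : ∀ s, Commute y (n * P.side s qI * n⁻¹) ∧ Commute y (n * P.side s qJ * n⁻¹) := by
    intro s
    cases s
    · refine ⟨hcm _ ?_, hcm _ ?_⟩
      · rw [ea, wa, ← map_inv, ← map_inv, ← map_mul, ← map_mul, X1, mul_inv_cancel_right]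
      · rw [eb, wb, ← map_inv, ← map_mul, ← map_mul, ← map_mul, X2, mul_inv_cancel_right]
    · refine ⟨hcm _ ?_, hcm _ ?_⟩
      · rw [cw, ea', (P.side_comm σ x _).eq, mul_inv_cancel_right]
      · rw [cw, eb', (P.side_comm σ x _).eq, mul_inv_cancel_right]
  have hyQ : y ∈ P.centQ := ⟨hyC, fun s =>
    ⟨P.comm_std hn h hyC hc s qI upr_conj.2.2.1, P.comm_std hn h hyC hc s qJ upr_conj.2.2.2.1⟩⟩
  have hwG : w ∈ P.G0 := by
    have := mul_mem (P.side_mem_G0 σ x) (P.centQ_le hyQ)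
    rwa [hy, mul_inv_cancel_left] at this
  exact P.mem_of_z hwG

/-- The diagonal elements. -/
def IsDiag (g : G) : Prop := ∃ A B, ∃ h : det2 A * det2 B = 1, g = P.phi (blk A B h)

theorem not_diag_swap {A B : M22} (h : det2 A * det2 B = 1) : ¬ P.IsDiag (P.phi (blk A B h * swM)) := by
  rintro ⟨A', B', h', e⟩
  rcases P.phi_eq.1 e with e | e
  · exact swM_ne e
  · rw [blk_neg] at e
    exact swM_ne e

theorem diag_mul {a b : G} (ha : P.IsDiag a) (hb : P.IsDiag b) : P.IsDiag (a * b) := by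
  obtain ⟨A, B, h, rfl⟩ := ha
  obtain ⟨A', B', h', rfl⟩ := hb
  rw [← map_mul, blk_mul]
  exact ⟨_, _, _, rfl⟩

theorem diag_one : P.IsDiag 1 := ⟨1, 1, by decide, by rw [blk_one, map_one]⟩

theorem diag_inv {a : G} (ha : P.IsDiag a) : P.IsDiag a⁻¹ := by
  have hpow : ∀ n : ℕ, P.IsDiag (a ^ n) := fun n => by
    induction n with
    | zero => rw [pow_zero]; exact P.diag_one
    | succ n ih => rw [pow_succ]; exact P.diag_mul ih ha
  have e : a⁻¹ = a ^ (orderOf a - 1) := inv_eq_of_mul_eq_one_right (by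
    rw [← pow_succ', Nat.sub_add_cancel (orderOf_pos a), pow_orderOf_eq_one])
  rw [e]; exact hpow _

theorem swap_mul_swap {A B A' B' : M22} (h : det2 A * det2 B = 1) (h' : det2 A' * det2 B' = 1) :
    P.IsDiag (P.phi (blk A B h * swM) * P.phi (blk A' B' h' * swM)) := by
  rw [← map_mul, show blk A B h * swM * (blk A' B' h' * swM) = blk A B h * (swM * blk A' B' h') * swM by group,
    swM_mul, show blk A B h * (blk B' A' ((mul_comm _ _).trans h') * swM) * swM =
      blk A B h * blk B' A' ((mul_comm _ _).trans h') * (swM * swM) by group, swM_sq.1, mul_one, blk_mul]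
  exact ⟨_, _, _, rfl⟩

/-- The part of the centralizer inside the subgroup. -/
noncomputable abbrev CT0 : Subgroup P.CT := P.G0.subgroupOf P.CT

open Classical in
/-- The sign of an element. -/
noncomputable def sgn : P.CT0 →* ℤˣ where
  toFun g := if P.IsDiag ((g : P.CT) : G) then 1 else -1
  map_one' := by rw [if_pos]; exact P.diag_one
  map_mul' := by
    intro g g'
    have key : ∀ a : P.CT0, P.IsDiag ((a : P.CT) : G) ∨
        ∃ A B, ∃ h : det2 A * det2 B = 1, ((a : P.CT) : G) = P.phi (blk A B h * swM) := fun a => by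
      obtain ⟨A, B, h, e | e⟩ := P.CT_shape (a : P.CT).2 a.2
      · exact Or.inl ⟨A, B, h, e⟩
      · exact Or.inr ⟨A, B, h, e⟩
    have hmul : (((g * g' : P.CT0) : P.CT) : G) = ((g : P.CT) : G) * ((g' : P.CT) : G) := rfl
    rw [hmul]
    rcases key g with hg | ⟨A, B, h, hg⟩ <;> rcases key g' with hg' | ⟨A', B', h', hg'⟩
    · rw [if_pos hg, if_pos hg', if_pos (P.diag_mul hg hg'), one_mul]
    · have h2 : ¬ P.IsDiag ((g' : P.CT) : G) := by rw [hg']; exact P.not_diag_swap h'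
      rw [if_pos hg, if_neg h2, if_neg fun h => h2 (by simpa using P.diag_mul (P.diag_inv hg) h), one_mul]
    · have h1 : ¬ P.IsDiag ((g : P.CT) : G) := by rw [hg]; exact P.not_diag_swap h
      rw [if_neg h1, if_pos hg', if_neg fun h => h1 (by simpa using P.diag_mul h (P.diag_inv hg')), mul_one]
    · rw [hg, hg', if_neg (P.not_diag_swap h), if_neg (P.not_diag_swap h'), if_pos (P.swap_mul_swap h h'),
        neg_mul_neg, one_mul]

theorem sgn_diag {g : P.CT0} (h : P.IsDiag ((g : P.CT) : G)) : P.sgn g = 1 := by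
  classical
  simp [sgn, h]

theorem sgn_swap {g : P.CT0} (h : ¬ P.IsDiag ((g : P.CT) : G)) : P.sgn g = -1 := by
  classical
  simp [sgn, h]

theorem CT0_odd : Odd P.CT0.index := by
  haveI : Fact (Nat.Prime 2) := ⟨Nat.prime_two⟩
  let f : q8 × q8 →* G := MonoidHom.noncommCoprod ((P.side false).comp q8.subtype) ((P.side true).comp q8.subtype)
    fun a b => P.side_comm false (a : SL23) (b : SL23)
  have hfC : ∀ v, f v ∈ P.CT := fun v =>
    (mul_mem (P.side_mem_CT false v.1) (P.side_mem_CT true v.2) : P.side false v.1 * P.side true v.2 ∈ P.CT)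
  have hf0 : ∀ v, (⟨f v, hfC v⟩ : P.CT) ∈ P.CT0 := fun v =>
    (mul_mem (P.side_mem_G0 false v.1) (P.side_mem_G0 true v.2) : P.side false v.1 * P.side true v.2 ∈ P.G0)
  let f' : q8 × q8 →* P.CT0 := (f.codRestrict P.CT hfC).codRestrict P.CT0 hf0
  have hp : IsPGroup 2 f'.range := by
    rintro ⟨_, v, rfl⟩
    refine ⟨2, Subtype.ext ?_⟩
    show f' v ^ 4 = 1
    rw [← map_pow, show v ^ 4 = 1 from Prod.ext (Subtype.ext (by
      show (v.1 : SL23) ^ 4 = 1
      rw [show (v.1 : SL23) ^ 4 = v.1 * v.1 * (v.1 * v.1) by simp [pow_succ, mul_assoc]]; exact v.1.2)) (Subtype.ext (by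
      show (v.2 : SL23) ^ 4 = 1
      rw [show (v.2 : SL23) ^ 4 = v.2 * v.2 * (v.2 * v.2) by simp [pow_succ, mul_assoc]]; exact v.2.2)), map_one]
  obtain ⟨R0, hR0⟩ := hp.exists_le_sylow
  obtain ⟨R, hR⟩ := (R0.isPGroup'.map P.CT0.subtype).exists_le_sylow
  have hQ : ∀ s, ∀ q : SL23, q ∈ q8 → ∃ r ∈ (R0 : Subgroup P.CT0), (((r : P.CT) : G)) = P.side s q := by
    intro s q hq
    cases s
    · exact ⟨f' (⟨q, hq⟩, 1), hR0 ⟨_, rfl⟩, by show P.side false q * P.side true 1 = _; rw [map_one, mul_one]⟩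
    · exact ⟨f' (1, ⟨q, hq⟩), hR0 ⟨_, rfl⟩, by show P.side false 1 * P.side true q = _; rw [map_one, one_mul]⟩
  have hle : (R : Subgroup P.CT) ≤ P.CT0 := by
    by_contra hnle
    set S := (R0 : Subgroup P.CT0).map P.CT0.subtype
    have hlt : S.subgroupOf (R : Subgroup P.CT) < ⊤ := by
      rw [lt_top_iff_ne_top, Ne, Subgroup.subgroupOf_eq_top]
      exact fun h => hnle (h.trans (Subgroup.map_subtype_le _))
    haveI : Group.IsNilpotent (R : Subgroup P.CT) := R.isPGroup'.isNilpotent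
    obtain ⟨n, hn, hnS⟩ := SetLike.exists_of_lt (Group.normalizerCondition_of_isNilpotent _ hlt)
    have hconj : ∀ g ∈ S, (n : P.CT) * g * (n : P.CT)⁻¹ ∈ S := fun g hg =>
      (Subgroup.mem_normalizer_iff.1 hn ⟨g, hR hg⟩).1 hg
    have key : ∀ s, ∀ q : SL23, q ∈ q8 → ((n : P.CT) : G) * P.side s q * ((n : P.CT) : G)⁻¹ ∈ P.G0 := by
      intro s q hq
      obtain ⟨r, hr, e⟩ := hQ s q hq
      rw [← e]
      exact (Subgroup.map_subtype_le _ (hconj _ ⟨r, hr, rfl⟩) : (n : P.CT) * (r : P.CT) * (n : P.CT)⁻¹ ∈ P.CT0)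
    have hn0 : (n : P.CT) ∈ P.CT0 := P.mem_of_quat (n : P.CT).2 fun s =>
      ⟨key s qI (show _ = _ by decide +kernel), key s qJ (show _ = _ by decide +kernel)⟩
    have hR' : IsPGroup 2 ((R : Subgroup P.CT).subgroupOf P.CT0) := by
      intro x
      obtain ⟨k, hk⟩ := R.isPGroup' ⟨(x : P.CT0).1, x.2⟩
      exact ⟨k, Subtype.ext (Subtype.ext (by simpa using congrArg Subtype.val hk))⟩
    have heq : (R : Subgroup P.CT).subgroupOf P.CT0 = R0 :=
      R0.is_maximal' hR' (fun x hx => hR ⟨x, hx, rfl⟩)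
    refine hnS ?_
    refine ⟨⟨(n : P.CT), hn0⟩, ?_, rfl⟩
    rw [← heq]; exact n.2
  rw [← Nat.not_even_iff_odd, even_iff_two_dvd]
  exact fun h => R.not_dvd_index (dvd_trans h (Subgroup.index_dvd_of_le hle))

theorem sq_of_conj_t (hd : P.Distinct) (hk : P.TwoKinds) {g : SL43} (h : IsConj P.tG (P.phi g)) : g * g = 1 := by
  obtain ⟨c, hc⟩ := isConj_iff.1 h
  have h2 : P.phi g * P.phi g = 1 := by
    rw [← hc, show c * P.tG * c⁻¹ * (c * P.tG * c⁻¹) = c * (P.tG * P.tG) * c⁻¹ by group, P.phi_tM_sq]; group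
  have h1 : P.phi g ≠ 1 := by
    rw [← hc]
    intro e
    rcases P.phi_eq_one.1 (conj_eq_one_iff.1 e) with e | e
    · exact small_facts.2.2.2.1 e
    · exact small_facts.2.2.2.2.1 e
  obtain ⟨_, ⟨m, rfl⟩, e | e⟩ := hk _ (P.phi_mem g) h2 h1
  · rw [← map_inv, ← map_mul, ← map_mul] at e
    rcases P.phi_eq.1 e.symm with e | e <;> rw [e]
    · rw [show m * tM * m⁻¹ * (m * tM * m⁻¹) = m * (tM * tM) * m⁻¹ by group, iM_facts.2.1]; group
    · rw [show m * tM * m⁻¹ * nI * (m * tM * m⁻¹ * nI) = m * tM * m⁻¹ * (nI * (m * tM * m⁻¹)) * nI by group,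
        nI_facts.1, show m * tM * m⁻¹ * (m * tM * m⁻¹ * nI) * nI = m * (tM * tM) * m⁻¹ * (nI * nI) by group,
        iM_facts.2.1, nI_facts.2]
      group
  · exact absurd (h.trans (isConj_iff.2 ⟨(P.phi m)⁻¹, by rw [← e]; group⟩)) hd

theorem conj_t_of_sq (hk : P.TwoKinds) {g : SL43} (h2 : g * g = 1) (h1 : g ≠ 1) (h1' : g ≠ nI) :
    IsConj P.tG (P.phi g) := by
  have e2 : P.phi g * P.phi g = 1 := by rw [← map_mul, h2, map_one]
  obtain ⟨_, ⟨m, rfl⟩, e | e⟩ := hk _ (P.phi_mem g) e2 (fun e => by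
    rcases P.phi_eq_one.1 e with e | e
    exacts [h1 e, h1' e])
  · exact isConj_iff.2 ⟨_, e⟩
  · exfalso
    rw [← map_inv, ← map_mul, ← map_mul] at e
    have hu : uM * uM = nI := by decide +kernel
    have hg : g * g = nI := by
      rcases P.phi_eq.1 e.symm with e | e <;> rw [e]
      · rw [show m * uM * m⁻¹ * (m * uM * m⁻¹) = m * (uM * uM) * m⁻¹ by group, hu, ← nI_facts.1,
          mul_inv_cancel_right]
      · rw [show m * uM * m⁻¹ * nI * (m * uM * m⁻¹ * nI) = m * uM * m⁻¹ * (nI * (m * uM * m⁻¹)) * nI by group,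
          nI_facts.1, show m * uM * m⁻¹ * (m * uM * m⁻¹ * nI) * nI = m * (uM * uM) * m⁻¹ * (nI * nI) by group,
          hu, nI_facts.2, mul_one, ← nI_facts.1, mul_inv_cancel_right]
    exact small_facts.2.2.1 (hg.symm.trans h2)

theorem mul_t_sq {A B : M22} (h : det2 A * det2 B = 1) :
    (blk A B h * tM) * (blk A B h * tM) = blk A B h * blk A B h ∧
      (blk A B h * swM * tM) * (blk A B h * swM * tM) = (blk A B h * swM) * (blk A B h * swM) * nI := by
  have hc : tM * blk A B h = blk A B h * tM := by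
    rw [tM_eq, blk_mul, blk_mul]
    exact blk_congr (by rw [one_mul, mul_one]) (by rw [neg_mul, one_mul, mul_neg, mul_one])
  refine ⟨?_, ?_⟩
  · rw [show blk A B h * tM * (blk A B h * tM) = blk A B h * (tM * blk A B h) * tM by group, hc,
      show blk A B h * (blk A B h * tM) * tM = blk A B h * blk A B h * (tM * tM) by group, iM_facts.2.1, mul_one]
  · have hs : tM * swM = swM * tM * nI := by rw [small_facts.1, mul_assoc, nI_facts.2, mul_one]
    rw [show blk A B h * swM * tM * (blk A B h * swM * tM) = blk A B h * swM * (tM * blk A B h) * swM * tM by group,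
      hc, show blk A B h * swM * (blk A B h * tM) * swM * tM = blk A B h * swM * blk A B h * (tM * swM) * tM by group,
      hs, show blk A B h * swM * blk A B h * (swM * tM * nI) * tM = blk A B h * swM * blk A B h * swM * tM * (nI * tM)
        by group, nI_facts.1, show blk A B h * swM * blk A B h * swM * tM * (tM * nI) =
          blk A B h * swM * (blk A B h * swM) * (tM * tM) * nI by group, iM_facts.2.1, mul_one]

theorem conj_sgn (hd : P.Distinct) (hk : P.TwoKinds) {d : P.CT} (g : P.CT) (h : g⁻¹ * d * g ∈ P.CT0)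
    (hd1 : IsConj P.tG (d : G)) (hd0 : (d : G) ≠ P.tG) :
    (¬ IsConj P.tG ((d : G) * P.tG) → P.sgn ⟨g⁻¹ * d * g, h⟩ = -1) ∧
      (IsConj P.tG ((d : G) * P.tG) → P.sgn ⟨g⁻¹ * d * g, h⟩ = 1) := by
  set a : G := (g : G)⁻¹ * (d : G) * (g : G) with ha
  have e1 : IsConj P.tG a := hd1.trans (isConj_iff.2 ⟨(g : G)⁻¹, by rw [ha, inv_inv]⟩)
  have e2 : IsConj ((d : G) * P.tG) (a * P.tG) := isConj_iff.2 ⟨(g : G)⁻¹, by
    rw [inv_inv, ha, show (g : G)⁻¹ * ((d : G) * P.tG) * g = (g : G)⁻¹ * (d : G) * (P.tG * g) by group,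
      ← mem_centralizer_singleton_iff.1 g.2]
    group⟩
  have ht : (⟨g⁻¹ * d * g, h⟩ : P.CT0).1.1 = a := rfl
  obtain ⟨A, B, hAB, e | e⟩ := P.CT_shape (g⁻¹ * d * g).2 h
  · have hD : P.IsDiag a := ⟨A, B, hAB, e⟩
    have e' : a = P.phi (blk A B hAB) := e
    refine ⟨fun hn => absurd ?_ hn, fun _ => P.sgn_diag hD⟩
    rw [e'] at e1
    have hsq := P.sq_of_conj_t hd hk e1
    have hne : ∀ v : SL43, (v = 1 ∨ v = nI) → blk A B hAB * tM ≠ v := by
      intro v hv e3
      have e4 : blk A B hAB = v * tM := by rw [← e3, mul_assoc, iM_facts.2.1, mul_one]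
      have : a = P.tG := by
        rw [e', e4, map_mul]
        rcases hv with rfl | rfl
        · rw [map_one, one_mul]
        · rw [P.phi_neg_one, one_mul]
      have hdt : (d : G) = P.tG := by
        rw [show (d : G) = (g : G) * a * (g : G)⁻¹ by rw [ha]; group, this, mem_centralizer_singleton_iff.1 g.2,
          mul_inv_cancel_right]
      exact hd0 hdt
    have h3 := P.conj_t_of_sq hk (g := blk A B hAB * tM) (by rw [(mul_t_sq hAB).1, hsq])
      (hne 1 (Or.inl rfl)) (hne nI (Or.inr rfl))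
    rw [map_mul, ← e'] at h3
    exact h3.trans e2.symm
  · have e' : a = P.phi (blk A B hAB * swM) := e
    have hD : ¬ P.IsDiag a := by rw [e']; exact P.not_diag_swap hAB
    refine ⟨fun _ => P.sgn_swap hD, fun hy => ?_⟩
    exfalso
    rw [e'] at e1
    have hsq := P.sq_of_conj_t hd hk e1
    have h4 := hy.trans e2
    rw [e', ← map_mul] at h4
    have hsq' := P.sq_of_conj_t hd hk h4
    rw [(mul_t_sq hAB).2, hsq, one_mul] at hsq'
    exact small_facts.2.2.1 hsq'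

/-- The centralizer of the first involution lies in the subgroup. -/
theorem cent_t_le (hd : P.Distinct) (hk : P.TwoKinds) : P.CT ≤ P.G0 := by
  haveI : Fact (Nat.Prime 3) := ⟨Nat.prime_three⟩
  set χ := MonoidHom.transfer P.sgn with hχ
  have hconjT : ∀ m : SL43, ∀ g : SL43, g * tM = m * g → IsConj P.tG (P.phi m) := fun m g e =>
    isConj_iff.2 ⟨P.phi g, by rw [← map_mul, e, map_mul, mul_inv_cancel_right]⟩
  let s : P.CT := ⟨P.phi swM, P.swM_mem_CT⟩
  let ι : P.CT := ⟨P.phi iM, P.blk_mem_CT _⟩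
  let t : P.CT := ⟨P.tG, mem_centralizer_singleton_iff.2 rfl⟩
  have sT : IsConj P.tG (P.phi swM) := hconjT _ gT conj_facts.1
  have iT : IsConj P.tG (P.phi iM) := P.conj_t_of_sq hk iM_facts.1 small_facts.2.2.2.2.2.2.2.1
    small_facts.2.2.2.2.2.2.2.2.1
  have χs : χ s = -1 := by
    have hfix : Odd (Nat.card {q : P.CT ⧸ P.CT0 // s • q = q}) := by
      classical
      haveI := Fintype.ofFinite (P.CT ⧸ P.CT0)
      have hs2 : s * s = 1 := Subtype.ext (show P.phi swM * P.phi swM = 1 by rw [← map_mul, swM_sq.1, map_one])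
      have hm := Equiv.Perm.card_fixedPoints_modEq (p := 2) (n := 1)
        (f := (fun q => s • q : Function.End (P.CT ⧸ P.CT0))) (funext fun q => by
          show s • s • q = q
          rw [← mul_smul, hs2, one_smul])
      have ho := P.CT0_odd
      rw [Subgroup.index_eq_card, Nat.card_eq_fintype_card, Nat.odd_iff] at ho
      rw [Nat.odd_iff, Nat.card_eq_fintype_card]
      unfold Nat.ModEq at hm
      rw [ho] at hm
      refine (Eq.trans ?_ hm.symm)
      congr 1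
    rw [hχ, Cfsg.Lib.Fischer.Relations.transfer_involution (Subtype.ext (show P.phi swM * P.phi swM = 1 by
      rw [← map_mul, swM_sq.1, map_one])) P.CT0 P.sgn fun g h => (P.conj_sgn hd hk g h sT ?_).1 ?_]
    · exact hfix.neg_one_pow
    · intro e
      rcases P.phi_eq.1 e with e | e <;> exact absurd e (by decide +kernel)
    · intro hy
      have := (isConj_iff.2 ⟨P.phi gU, ?_⟩ : IsConj (P.phi uM) (P.phi swM * P.tG))
      · exact hd (IsConj.trans hy this.symm)
      · show P.phi gU * P.phi uM * (P.phi gU)⁻¹ = _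
        rcases conj_facts.2 with e | e <;> rw [← map_mul P.phi gU, e]
        · rw [map_mul, map_mul, mul_inv_cancel_right]
        · rw [map_mul, P.phi_neg_one, mul_one, map_mul, map_mul, mul_inv_cancel_right]
  have χi : χ ι = 1 := by
    refine transfer_one (Subtype.ext (show P.phi iM * P.phi iM = 1 by rw [← map_mul, iM_facts.1, map_one])) _ _
      fun g h => (P.conj_sgn hd hk g h iT ?_).2 ?_
    · intro e
      rcases P.phi_eq.1 e with e | e <;> exact absurd e (by decide +kernel)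
    show IsConj P.tG (P.phi iM * P.phi tM)
    rw [← map_mul]
    refine P.conj_t_of_sq hk ?_ small_facts.2.2.2.2.2.2.2.2.2.1 small_facts.2.2.2.2.2.2.2.2.2.2
    rw [show iM * tM * (iM * tM) = iM * (tM * iM) * tM by group, ← iM_facts.2.2.1,
      show iM * (iM * tM) * tM = iM * iM * (tM * tM) by group, iM_facts.1, iM_facts.2.1, one_mul]
  have χt : χ t = 1 := by
    refine transfer_one (Subtype.ext P.phi_tM_sq) _ _ fun g h => P.sgn_diag ?_
    refine ⟨1, -1, det_one_neg, ?_⟩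
    show (g : G)⁻¹ * P.tG * g = _
    rw [show (g : G)⁻¹ * P.tG * g = (g : G)⁻¹ * (P.tG * g) by group, ← mem_centralizer_singleton_iff.1 g.2,
      inv_mul_cancel_left, ← tM_eq]
  have hcube : ∀ v : ℤˣ, v ^ 3 = 1 → v = 1 := fun v h => by
    rcases Int.units_eq_one_or v with rfl | rfl
    · rfl
    · exact absurd h (by decide)
  have χe : ∀ e : P.CT, (e : G) ∈ P.ET → χ e = 1 := fun e he => hcube _ (by
    rw [← map_pow, show e ^ 3 = 1 from Subtype.ext (by simpa using P.ET_cube he), map_one])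
  set Y := χ.ker.map P.CT.subtype with hY
  have hYC : Y ≤ P.CT := Subgroup.map_subtype_le _
  have hEY : P.ET ≤ Y := fun e he => ⟨⟨e, P.ET_le_CT he⟩, χe _ he, rfl⟩
  -- it suffices to treat the kernel
  suffices hY0 : Y ≤ P.G0 by
    intro g hg
    rcases Int.units_eq_one_or (χ ⟨g, hg⟩) with h | h
    · exact hY0 ⟨⟨g, hg⟩, h, rfl⟩
    · have h' : (⟨g, hg⟩ * s : P.CT) ∈ χ.ker := by rw [MonoidHom.mem_ker, map_mul, h, χs]; rfl
      have := mul_mem (hY0 ⟨_, h', rfl⟩) (inv_mem (P.phi_mem swM))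
      show g ∈ P.G0
      simpa [s] using this
  obtain ⟨S, hS⟩ := P.exists_sylow_three Y hEY hYC
  haveI : IsMulCommutative (S : Subgroup Y) := ⟨⟨fun a b => Subtype.ext (Subtype.ext (by
    have ha : ((a : Y) : G) ∈ P.ET := (hS ▸ a.2 : (a : Y) ∈ P.ET.subgroupOf Y)
    have hb : ((b : Y) : G) ∈ P.ET := (hS ▸ b.2 : (b : Y) ∈ P.ET.subgroupOf Y)
    exact P.ET_comm ha hb))⟩⟩
  have memS : ∀ y : Y, y ∈ (S : Subgroup Y) ↔ (y : G) ∈ P.ET := fun y => by rw [hS]; rfl
  -- the normalizer in the kernel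
  have hN : ∀ n : Y, n ∈ normalizer ((S : Subgroup Y) : Set Y) → (n : G) ∈ P.G0 ∧
      ∃ i : Fin 2, ∀ a b, (n : G) * P.eT a b * (n : G)⁻¹ = P.eT (if i = 0 then a else -a) (if i = 0 then b else -b) := by
    intro n hn
    have hnorm : ∀ g ∈ P.ET, (n : G) * g * (n : G)⁻¹ ∈ P.ET := fun g hg =>
      (memS _).1 ((mem_normalizer_iff.1 hn ⟨g, hEY hg⟩).1 ((memS _).2 hg))
    have hn0 : (n : G) ∈ P.G0 := P.mem_of_z (P.ET_le_G0 (hnorm _ P.z_mem_ET))
    refine ⟨hn0, ?_⟩
    obtain ⟨⟨m, hm⟩, hmk, hme⟩ := n.2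
    have hme' : m = (n : G) := hme
    obtain ⟨i, j, a, b, e | e⟩ := P.ET_decomp (hYC n.2) hn0 hnorm
    · refine ⟨i, fun a' b' => ?_⟩
      rw [e, eT, eT, eT, ← map_pow, ← map_pow, ← map_mul, ← map_mul, ← map_inv, ← map_mul, ← map_mul]
      refine congrArg P.phi ?_
      rw [mul_inv_eq_iff_eq_mul]
      exact norm_shape i j a b a' b'
    · exfalso
      have heC := P.eT_mem_CT a b
      have h1 : χ (ι ^ i.val * t ^ j.val * ⟨P.eT a b, heC⟩ * s) = 1 := by
        rw [show ι ^ i.val * t ^ j.val * ⟨P.eT a b, heC⟩ * s = (⟨m, hm⟩ : P.CT) from Subtype.ext (by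
          show _ = m
          rw [hme', e]; simp [ι, t, s])]
        exact hmk
      rw [map_mul, map_mul, map_mul, map_pow, map_pow, χi, χt, χe _ ⟨a, b, rfl⟩, χs, one_pow, one_pow] at h1
      exact absurd h1 (by decide)
  have hcent : ∀ n : Y, n ∈ normalizer ((S : Subgroup Y) : Set Y) →
      (∀ g ∈ P.ET, (n : G) * g * (n : G)⁻¹ = g) ∨ (∀ g ∈ P.ET, (n : G) * g * (n : G)⁻¹ = g⁻¹) := by
    intro n hn
    obtain ⟨-, i, hi⟩ := hN n hn
    by_cases h0 : i = 0
    · refine Or.inl ?_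
      rintro _ ⟨a, b, rfl⟩
      rw [hi, if_pos h0, if_pos h0]
    · refine Or.inr ?_
      rintro _ ⟨a, b, rfl⟩
      rw [hi, if_neg h0, if_neg h0]
      exact (inv_eq_of_mul_eq_one_right (by rw [P.eT_add, add_neg_cancel, add_neg_cancel, P.eT_zero])).symm
  have hself : ∀ g ∈ P.ET, g = g⁻¹ → g = 1 := fun g hg e => by
    have h3 := P.ET_cube hg
    rwa [pow_succ, pow_two, show g * g = 1 by nth_rw 2 [e]; exact mul_inv_cancel g, one_mul] at h3
  have memC : ∀ n : Y, n ∈ centralizer ((S : Subgroup Y) : Set Y) ↔ ∀ g ∈ P.ET, (n : G) * g * (n : G)⁻¹ = g := by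
    intro n
    constructor
    · intro h g hg
      exact mul_inv_eq_iff_eq_mul.2 (congrArg Subtype.val (mem_centralizer_iff.1 h ⟨g, hEY hg⟩ ((memS _).2 hg))).symm
    · intro h
      refine mem_centralizer_iff.2 fun g hg => Subtype.ext ?_
      exact (mul_inv_eq_iff_eq_mul.1 (h _ ((memS g).1 hg))).symm
  have hιY : (ι : G) ∈ Y := ⟨ι, χi, rfl⟩
  have hιinv : ∀ g ∈ P.ET, (ι : G) * g * (ι : G)⁻¹ = g⁻¹ := by
    rintro _ ⟨a, b, rfl⟩
    rw [(inv_eq_of_mul_eq_one_right (by rw [P.eT_add, add_neg_cancel, add_neg_cancel, P.eT_zero]) :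
      (P.eT a b)⁻¹ = P.eT (-a) (-b)), mul_inv_eq_iff_eq_mul]
    show P.phi iM * P.eT a b = P.eT (-a) (-b) * P.phi iM
    rw [eT, eT, ← map_mul, ← map_mul, small_facts.2.2.2.2.2.1]
  have hfree : Cfsg.Lib.Block.FreeAction S := by
    intro y hy hy1
    refine le_antisymm (fun n hn => ?_) (fun n hn => ⟨mem_centralizer_singleton_iff.2
      (mem_centralizer_iff.1 hn y hy).symm, Subgroup.centralizer_le_normalizer _ hn⟩)
    rcases hcent n hn.2 with h | h
    · exact (memC n).2 h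
    · exfalso
      refine hy1 (Subtype.ext (hself _ ((memS y).1 hy) ?_))
      have := congrArg Subtype.val (mem_centralizer_singleton_iff.1 hn.1)
      rw [← h _ ((memS y).1 hy)]
      exact (mul_inv_eq_iff_eq_mul.2 this).symm
  have hιN : (⟨(ι : G), hιY⟩ : Y) ∈ normalizer ((S : Subgroup Y) : Set Y) := mem_normalizer_iff.2 fun g => by
    constructor
    · intro hg
      refine (memS _).2 ?_
      show (ι : G) * (g : G) * (ι : G)⁻¹ ∈ P.ET
      rw [hιinv _ ((memS g).1 hg)]; exact inv_mem ((memS g).1 hg)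
    · intro hg
      have h := hιinv _ ((memS _).1 hg)
      refine (memS g).2 ?_
      have hii : (ι : G) * (ι : G) = 1 := by show P.phi iM * P.phi iM = 1; rw [← map_mul, iM_facts.1, map_one]
      have h' : (ι : G) * ((ι : G) * g * (ι : G)⁻¹) * (ι : G)⁻¹ = g := by
        rw [show (ι : G) * ((ι : G) * g * (ι : G)⁻¹) * (ι : G)⁻¹ = (ι : G) * ι * g * ((ι : G) * ι)⁻¹ by group, hii]
        group
      rw [← h', show ((⟨(ι : G), hιY⟩ * g * ⟨(ι : G), hιY⟩⁻¹ : Y) : G) = (ι : G) * g * (ι : G)⁻¹ from rfl] at *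
      rw [h]
      exact inv_mem ((memS _).1 hg)
  have hCN : (centralizer ((S : Subgroup Y) : Set Y)).relIndex (normalizer ((S : Subgroup Y) : Set Y)) = 2 := by
    refine Subgroup.index_eq_two_iff.2 ⟨⟨_, hιN⟩, fun n => ?_⟩
    simp only [mem_subgroupOf, memC]
    rcases hcent _ n.2 with h | h
    · refine Or.inr ⟨h, fun h2 => ?_⟩
      have hz := h2 _ P.z_mem_ET
      have e : ((n : Y) : G) * ((ι : G) * P.F.z * (ι : G)⁻¹) * ((n : Y) : G)⁻¹ = P.F.z := by
        refine Eq.trans ?_ hz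
        show _ = ((n : Y) : G) * (ι : G) * P.F.z * (((n : Y) : G) * (ι : G))⁻¹
        group
      rw [hιinv _ P.z_mem_ET, h _ (inv_mem P.z_mem_ET)] at e
      exact P.F.D.z_ne (hself _ P.z_mem_ET e.symm)
    · refine Or.inl ⟨fun g hg => ?_, fun h2 => ?_⟩
      · show ((n : Y) : G) * (ι : G) * g * (((n : Y) : G) * (ι : G))⁻¹ = g
        rw [show ((n : Y) : G) * (ι : G) * g * (((n : Y) : G) * (ι : G))⁻¹ =
          ((n : Y) : G) * ((ι : G) * g * (ι : G)⁻¹) * ((n : Y) : G)⁻¹ by group, hιinv g hg, h _ (inv_mem hg), inv_inv]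
      · have := h _ P.z_mem_ET
        rw [h2 _ P.z_mem_ET] at this
        exact P.F.D.z_ne (hself _ P.z_mem_ET this)
  have hnc : ¬ IsCyclic (S : Subgroup Y) := fun h => P.ET_not_cyclic ((Subgroup.subgroupOfEquivOfLe hEY).isCyclic.1
    (by rw [← hS]; exact h))
  obtain ⟨K, hK, hSK, hKN⟩ := Cfsg.Lib.SmithTyrer.exists_normal (P := S) (by norm_num) hnc hfree hCN
  -- the normal complement
  set SK : Sylow 3 K := S.subtype hSK
  have hSKc : (SK : Subgroup K) = (S : Subgroup Y).subgroupOf K := rfl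
  have hburn : normalizer ((SK : Subgroup K) : Set K) ≤ centralizer ((SK : Subgroup K) : Set K) := by
    intro n hn
    rw [hSKc] at hn ⊢
    have hn' : (n : Y) ∈ normalizer ((S : Subgroup Y) : Set Y) := mem_normalizer_iff.2 fun g => by
      constructor
      · exact fun hg => (mem_normalizer_iff.1 hn ⟨g, hSK hg⟩).1 hg
      · intro hg
        have h1 : (⟨(n : Y) * g * (n : Y)⁻¹, hSK hg⟩ : K) ∈ (S : Subgroup Y).subgroupOf K := hg
        have h2 := (mem_normalizer_iff.1 (inv_mem hn) _).1 h1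
        simpa [mem_subgroupOf, mul_assoc] using h2
    have hc := mem_centralizer_iff.1 (hKN ⟨n.2, hn'⟩)
    exact mem_centralizer_iff.2 fun g hg => Subtype.ext (hc _ hg)
  set R := (MonoidHom.transferSylow SK hburn).ker
  have hcompl := MonoidHom.ker_transferSylow_isComplement' SK hburn
  set RG := (R.map K.subtype).map Y.subtype with hRG
  have hRcard : (Nat.card RG).Coprime 3 := by
    rw [Subgroup.card_map_of_injective (Subgroup.subtype_injective _),
      Subgroup.card_map_of_injective (Subgroup.subtype_injective _), ← hcompl.index_eq_card]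
    exact (Nat.prime_three.coprime_iff_not_dvd.2 SK.not_dvd_index).symm
  have hRn : ∀ e ∈ P.ET, ∀ r ∈ RG, e * r * e⁻¹ ∈ RG := by
    rintro e he _ ⟨_, ⟨r, hr, rfl⟩, rfl⟩
    let e' : K := ⟨⟨e, hEY he⟩, hSK ((memS _).2 he)⟩
    exact ⟨_, ⟨_, (MonoidHom.normal_ker (MonoidHom.transferSylow SK hburn)).conj_mem r hr e', rfl⟩, rfl⟩
  have hR0 : RG ≤ P.G0 := by
    haveI : IsMulCommutative P.ET := ⟨⟨fun a b => Subtype.ext (P.ET_comm a.2 b.2)⟩⟩
    have hn : P.ET ≤ normalizer (RG : Set G) := fun e he => mem_normalizer_iff.2 fun c =>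
      ⟨hRn e he c, fun h => by
        have h' := hRn _ (inv_mem he) _ h
        simpa [mul_assoc] using h'⟩
    have hcop : (Nat.card P.ET).Coprime (Nat.card RG) := by
      rw [P.ET_card, show (9 : ℕ) = 3 ^ 2 by norm_num]
      exact hRcard.symm.pow_left 2
    refine (Cfsg.Lib.Coprime.le_iSup_centralizer_of_not_isCyclic P.ET_not_cyclic hn hcop).trans (iSup_le ?_)
    rintro ⟨a, ha, ha1⟩
    exact inf_le_right.trans (P.cent_ET ha ha1)
  have hK0 : ∀ k : Y, k ∈ K → (k : G) ∈ P.G0 := by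
    intro k hk
    obtain ⟨⟨r, q⟩, hrq, -⟩ := hcompl.existsUnique ⟨k, hk⟩
    have : (k : G) = ((r : K) : Y) * (((q : K) : Y) : G) := congrArg (fun v : K => ((v : Y) : G)) hrq.symm
    rw [this]
    exact mul_mem (hR0 ⟨_, ⟨r, r.2, rfl⟩, rfl⟩) (P.ET_le_G0 ((memS _).1 q.2))
  intro g hg
  haveI := hK
  have htop := Sylow.normalizer_sup_eq_top' S hSK
  obtain ⟨n, hn, k, hk, hnk⟩ := Subgroup.mem_sup_of_normal_right.1 (htop.symm ▸ Subgroup.mem_top (⟨g, hg⟩ : Y))
  have : g = (n : G) * (k : G) := congrArg Subtype.val hnk.symm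
  rw [this]
  exact mul_mem (hN n hn).1 (hK0 k hk)

end Two

end Cfsg.Lib.LFourThree
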