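import Cfsg.Agent.Lib.LFourThree.ModelE

/-!
# Matrices centralizing an involution with two eigenspaces of dimension two
-/

set_option autoImplicit false
set_option linter.unusedSectionVars false
set_option linter.style.haveILetI false
set_option maxRecDepth 100000
set_option maxHeartbeats 4000000

namespace Cfsg.Lib.LFourThree

open Subgroup Matrix Cfsg.Lib.Recog.SingleBond Cfsg.Lib.PSpThree
open scoped MatrixGroups

/-- The involution. -/
def tM : SL43 := ⟨!![1, 0, 0, 0; 0, -1, 0, 0; 0, 0, -1, 0; 0, 0, 0, 1], by decide +kernel⟩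

/-- The second involution. -/
def uM : SL43 := ⟨!![0, 1, 0, 0; -1, 0, 0, 0; 0, 0, 0, 1; 0, 0, -1, 0], by decide +kernel⟩

/-- Matrices preserving the two eigenspaces. -/
def blk (A B : M22) (h : det2 A * det2 B = 1) : SL43 :=
  ⟨!![A 0 0, 0, 0, A 0 1; 0, B 0 0, B 0 1, 0; 0, B 1 0, B 1 1, 0; A 1 0, 0, 0, A 1 1], by
    have e : Matrix.det !![A 0 0, 0, 0, A 0 1; 0, B 0 0, B 0 1, 0; 0, B 1 0, B 1 1, 0; A 1 0, 0, 0, A 1 1] =
        det2 A * det2 B := by
      simp [Matrix.det_succ_row_zero, Fin.sum_univ_succ, Fin.succAbove, det2]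
      ring
    rw [e, h]⟩

/-- The exchange of the two eigenspaces. -/
def swM : SL43 := ⟨!![0, 1, 0, 0; 1, 0, 0, 0; 0, 0, 0, 1; 0, 0, 1, 0], by decide +kernel⟩

theorem blk_mul {A B A' B' : M22} {h : det2 A * det2 B = 1} {h' : det2 A' * det2 B' = 1} :
    blk A B h * blk A' B' h' = blk (A * A') (B * B')
      (by rw [det2_mul, det2_mul, mul_mul_mul_comm, h, h', one_mul]) := by
  refine Subtype.ext ?_
  show (_ : SL43).1 * (_ : SL43).1 = _
  ext i j
  fin_cases i <;> fin_cases j <;> simp [blk, Matrix.mul_apply, Fin.sum_univ_four, Fin.sum_univ_two]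

theorem blk_congr {A B A' B' : M22} {h : det2 A * det2 B = 1} {h' : det2 A' * det2 B' = 1}
    (e1 : A = A') (e2 : B = B') : blk A B h = blk A' B' h' := by
  subst e1 e2; rfl

theorem blk_inj {A B A' B' : M22} {h : det2 A * det2 B = 1} {h' : det2 A' * det2 B' = 1}
    (e : blk A B h = blk A' B' h') : A = A' ∧ B = B' := by
  have f := fun i j => congrArg (fun M : SL43 => M.1 i j) e
  constructor
  · ext i j
    fin_cases i <;> fin_cases j
    exacts [f 0 0, f 0 3, f 3 0, f 3 3]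
  · ext i j
    fin_cases i <;> fin_cases j
    exacts [f 1 1, f 1 2, f 2 1, f 2 2]

theorem blk_one : blk (1 : M22) (1 : M22) (by decide) = 1 := by decide +kernel

theorem blk_neg {A B : M22} (h : det2 A * det2 B = 1) :
    blk A B h * nI = blk (-A) (-B) (by rw [det2_neg, det2_neg]; exact h) := by
  refine Subtype.ext ?_
  show (_ : SL43).1 * (_ : SL43).1 = _
  ext i j
  fin_cases i <;> fin_cases j <;> simp [blk, nI, Matrix.mul_apply, Fin.sum_univ_four]

theorem tM_eq : tM = blk 1 (-1) (by decide) := by decide +kernel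

theorem swM_sq : swM * swM = 1 ∧ blk (1 : M22) (-1) (by decide) * swM = swM * blk (-1 : M22) 1 (by decide) := by
  decide +kernel

theorem swM_mul {A B : M22} {h : det2 A * det2 B = 1} :
    swM * blk A B h = blk B A ((mul_comm _ _).trans h) * swM := by
  refine Subtype.ext ?_
  show (_ : SL43).1 * (_ : SL43).1 = (_ : SL43).1 * (_ : SL43).1
  ext i j
  fin_cases i <;> fin_cases j <;> simp [blk, swM, Matrix.mul_apply, Fin.sum_univ_four]

theorem swM_ne {A B A' B' : M22} {h : det2 A * det2 B = 1} {h' : det2 A' * det2 B' = 1} :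
    blk A B h * swM ≠ blk A' B' h' := by
  intro e
  have f := fun i j => congrArg (fun M : SL43 => M.1 i j) e
  have e0 : (blk A B h).1 * swM.1 = (blk A' B' h').1 := congrArg Subtype.val e
  have g := fun i j => congrFun (congrFun e0 i) j
  have a1 := g 0 1; have a2 := g 0 2; have a3 := g 3 1; have a4 := g 3 2
  simp [blk, swM, Matrix.mul_apply, Fin.sum_univ_four] at a1 a2 a3 a4
  rw [det2, a1, a2, a3, a4] at h
  simp at h

/-- The shape of the matrices centralizing the involution up to sign. -/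
theorem t_shape (g : SL43) (hc : g * tM = tM * g ∨ g * tM = tM * g * nI) :
    ∃ A B, ∃ h : det2 A * det2 B = 1, g = blk A B h ∨ g = blk A B h * swM := by
  have key : ∀ g : SL43, g * tM = tM * g → ∃ A B, ∃ h : det2 A * det2 B = 1, g = blk A B h := by
    intro g hc
    have e0 : g.1 * tM.1 = tM.1 * g.1 := congrArg Subtype.val hc
    have f := fun i j => congrFun (congrFun e0 i) j
    have h2 : ∀ a : ZMod 3, a = -a ∨ -a = a → a = 0 := by decide
    have z01 : g.1 0 1 = 0 := h2 _ (by have := f 0 1; simp [tM, Matrix.mul_apply, Fin.sum_univ_four] at this; tauto)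
    have z02 : g.1 0 2 = 0 := h2 _ (by have := f 0 2; simp [tM, Matrix.mul_apply, Fin.sum_univ_four] at this; tauto)
    have z31 : g.1 3 1 = 0 := h2 _ (by have := f 3 1; simp [tM, Matrix.mul_apply, Fin.sum_univ_four] at this; tauto)
    have z32 : g.1 3 2 = 0 := h2 _ (by have := f 3 2; simp [tM, Matrix.mul_apply, Fin.sum_univ_four] at this; tauto)
    have z10 : g.1 1 0 = 0 := h2 _ (by have := f 1 0; simp [tM, Matrix.mul_apply, Fin.sum_univ_four] at this; tauto)
    have z13 : g.1 1 3 = 0 := h2 _ (by have := f 1 3; simp [tM, Matrix.mul_apply, Fin.sum_univ_four] at this; tauto)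
    have z20 : g.1 2 0 = 0 := h2 _ (by have := f 2 0; simp [tM, Matrix.mul_apply, Fin.sum_univ_four] at this; tauto)
    have z23 : g.1 2 3 = 0 := h2 _ (by have := f 2 3; simp [tM, Matrix.mul_apply, Fin.sum_univ_four] at this; tauto)
    refine ⟨!![g.1 0 0, g.1 0 3; g.1 3 0, g.1 3 3], !![g.1 1 1, g.1 1 2; g.1 2 1, g.1 2 2], ?_, ?_⟩
    · refine Eq.trans ?_ g.2
      have : ∀ m : Matrix (Fin 4) (Fin 4) (ZMod 3), m 0 1 = 0 → m 0 2 = 0 → m 3 1 = 0 → m 3 2 = 0 → m 1 0 = 0 →
          m 1 3 = 0 → m 2 0 = 0 → m 2 3 = 0 →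
          det2 !![m 0 0, m 0 3; m 3 0, m 3 3] * det2 !![m 1 1, m 1 2; m 2 1, m 2 2] = m.det := by
        intro m q1 q2 q3 q4 q5 q6 q7 q8
        simp [Matrix.det_succ_row_zero, Fin.sum_univ_succ, Fin.succAbove, det2, q1, q2, q3, q4, q5, q6, q7, q8]
        ring
      exact this g.1 z01 z02 z31 z32 z10 z13 z20 z23
    · refine Subtype.ext ?_
      ext i j
      fin_cases i <;> fin_cases j <;> simp [blk, z01, z02, z31, z32, z10, z13, z20, z23]
  rcases hc with e | e
  · obtain ⟨A, B, h, h'⟩ := key g e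
    exact ⟨A, B, h, Or.inl h'⟩
  · have hst : swM * tM = tM * swM * nI ∧ tM * nI = nI * tM := by decide +kernel
    obtain ⟨A, B, h, h'⟩ := key (g * swM) (by
      rw [mul_assoc, hst.1, ← mul_assoc, ← mul_assoc, e, mul_assoc (tM * g) nI swM, nI_facts.1 swM,
        ← mul_assoc, mul_assoc (tM * g * swM) nI nI, nI_facts.2, mul_one, mul_assoc])
    exact ⟨A, B, h, Or.inr (by rw [← h', mul_assoc, swM_sq.1, mul_one])⟩

/-- The elements of the quaternion group. -/
def IsQ (q : M22) : Prop := q * q = -1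

instance : DecidablePred IsQ := fun q => inferInstanceAs (Decidable (q * q = -1))

theorem sq_facts : (∀ A : M22, A * A = -1 → det2 A = 1) ∧
    (∀ A : M22, A * A = 1 → det2 A = 1 → A = 1 ∨ A = -1) := by
  decide +kernel

theorem scalar_of_comm : ∀ A : M22, A * unitQ 0 = unitQ 0 * A → A * unitQ 1 = unitQ 1 * A →
    det2 A ≠ 0 → A = 1 ∨ A = -1 := by
  decide +kernel

theorem q_gen : ∀ a b : M22, IsQ a → IsQ b → a * b ≠ b * a → ∀ q, IsQ q →
    q = a ∨ q = -a ∨ q = b ∨ q = -b ∨ q = a * b ∨ q = -(a * b) := by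
  decide +kernel

theorem q_conj : ∀ a b : M22, IsQ a → IsQ b → a * b ≠ b * a → ∃ x : SL23,
    x.1 * a = -b * x.1 ∧ x.1 * b = b * a * x.1 := by
  decide +kernel

theorem upr_conj : (upr (1 : ZMod 3) : SL23).1 * unitQ 0 = -unitQ 1 * (upr (1 : ZMod 3) : SL23).1 ∧
    (upr (1 : ZMod 3) : SL23).1 * unitQ 1 = unitQ 1 * unitQ 0 * (upr (1 : ZMod 3) : SL23).1 ∧
    IsQ (unitQ 0) ∧ IsQ (unitQ 1) ∧ unitQ 0 * unitQ 1 ≠ unitQ 1 * unitQ 0 ∧
    unitQ 0 * unitQ 1 ≠ -(unitQ 1 * unitQ 0) * -1 ∧ det2 (unitQ 0) = 1 ∧ det2 (unitQ 1) = 1 := by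
  decide +kernel

theorem q_anti : ∀ a b : M22, IsQ a → IsQ b → a * b ≠ b * a → a * b = -(b * a) := by decide +kernel

theorem anti_exists : ∀ B : M22, (B * B = 1 ∨ B * B = -1) → B ≠ 1 → B ≠ -1 →
    ∃ C : M22, det2 C = 1 ∧ C * B = -B * C := by
  decide +kernel

theorem upper_decomp : ∀ A : M22, A 1 0 = 0 → det2 A ≠ 0 →
    ∃ k : ZMod 3, ∃ n : ZMod 3, A = n • (!![det2 A, 0; 0, 1] * !![1, k; 0, 1]) ∧ (n = 1 ∨ n = -1) := by
  decide +kernel

theorem upper_conj : ∀ A : M22, A 1 0 = 0 → det2 A ≠ 0 → ∀ a : ZMod 3,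
    A * !![1, a; 0, 1] = !![1, det2 A * a; 0, 1] * A := by
  decide +kernel

theorem upper_of_norm : ∀ A : M22, det2 A ≠ 0 → ∀ a b : ZMod 3, a ≠ 0 →
    (A * !![1, a; 0, 1] = !![1, b; 0, 1] * A ∨ A * !![1, a; 0, 1] = -(!![1, b; 0, 1] * A)) → A 1 0 = 0 := by
  decide +kernel

/-- The conjugator to the standard element, on the first eigen-decomposition. -/
def eConjT (a : ZMod 3) : SL43 :=
  ⟨if a = 0 then 1 else !![-1, 0, 0, 0; 0, 1, 0, 0; 0, 0, 0, -a; 0, 0, -a, 0], by revert a; decide +kernel⟩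

/-- The conjugator to the standard element, on the second one. -/
def eConjU (a b : ZMod 3) : SL43 :=
  ⟨if a = 0 ∧ b = 0 then 1 else
    !![1, 0, 0, 0; 0, 1, 0, 0; 0, 0, a, b; 0, 0, -((a * a + b * b) * b), (a * a + b * b) * a], by
    revert a b; decide +kernel⟩

/-- The elements of order three centralizing the second involution. -/
def uShape (a b : ZMod 3) : SL43 := upM 0 a b (-b) a 0

/-- The exchange of pairs of coordinates. -/
def pPair : SL43 := ⟨!![0, 1, 0, 0; 1, 0, 0, 0; 0, 0, 0, 1; 0, 0, 1, 0], by decide +kernel⟩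

/-- Carries the first involution to the exchange. -/
def gT : SL43 := ⟨!![0, 2, 1, 1; 0, 1, 2, 1; 2, 1, 0, 0; 2, 2, 0, 0], by decide +kernel⟩

/-- Carries the second involution to a product. -/
def gU : SL43 := ⟨!![2, 2, 1, 0; 1, 2, 0, 1; 0, 1, 2, 1; 1, 0, 1, 1], by decide +kernel⟩

theorem conj_facts : gT * tM = swM * gT ∧ (gU * uM = swM * tM * gU ∨ gU * uM = swM * tM * gU * nI) := by
  decide +kernel

theorem pPair_conj : ∀ b : ZMod 3, pPair * tS 1 2 b * pPair⁻¹ = tS 0 3 b := by decide +kernel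

theorem eConjT_conj : ∀ a b : ZMod 3, a ≠ 0 → b ≠ 0 → ∀ he : (-(a * b)) * (-(a * b)) = 1,
    eConjT a * (tS 0 3 a * tS 1 2 b) = eM (-(a * b)) he * eConjT a := by
  decide +kernel

theorem uShape_facts : (∀ a b a' b' : ZMod 3, uShape a b * uShape a' b' = uShape (a + a') (b + b')) ∧
    (∀ a b : ZMod 3, uShape a b * uM = uM * uShape a b) ∧ uShape 0 0 = 1 ∧
    (∀ a b : ZMod 3, (a ≠ 0 ∨ b ≠ 0) → ∀ he : (a * a + b * b) * (a * a + b * b) = 1,
      eConjU a b * uShape a b = eM (a * a + b * b) he * eConjU a b) ∧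
    (∀ a b : ZMod 3, (a ≠ 0 ∨ b ≠ 0) → (a * a + b * b) * (a * a + b * b) = 1) ∧
    (∀ a b : ZMod 3, uShape a b = 1 → a = 0 ∧ b = 0) ∧ (∀ a b : ZMod 3, uShape a b ≠ nI) := by
  decide +kernel

/-- The inverting element. -/
def iM : SL43 := blk !![-1, 0; 0, 1] !![-1, 0; 0, 1] (by decide)

theorem iM_facts : iM * iM = 1 ∧ tM * tM = 1 ∧ iM * tM = tM * iM ∧ swM * iM = iM * swM := by decide +kernel

end Cfsg.Lib.LFourThree
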