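import Cfsg.Agent.Lib.LFourThree.CentE
import Cfsg.Agent.Lib.LFourThree.CentTFacts
import Cfsg.Agent.Lib.Fischer.Relations.TwentyFour.Transfer
import Cfsg.Agent.Lib.SmithTyrer.Reduction
import Cfsg.Agent.Lib.Coprime.Generation

/-!
# The centralizer of the first involution lies in the subgroup
-/

set_option autoImplicit false
set_option linter.unusedSectionVars false
set_option linter.style.haveILetI false
set_option maxRecDepth 100000
set_option maxHeartbeats 4000000

namespace Cfsg.Lib.LFourThree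

open Subgroup Matrix Cfsg.Lib.Recog.SingleBond Cfsg.Lib.PSpThree
open scoped MatrixGroups

theorem det2_sl (x : SL23) : det2 x.1 = 1 := by
  have := x.2
  rw [Matrix.det_fin_two] at this
  simpa [det2, mul_comm] using this

/-- A quaternion unit. -/
def qI : SL23 := ⟨unitQ 0, by decide +kernel⟩

/-- A second quaternion unit. -/
def qJ : SL23 := ⟨unitQ 1, by decide +kernel⟩

theorem q_comm : ∀ a b q : M22, IsQ a → IsQ b → a * b ≠ b * a → IsQ q → ¬ (a * q = q * a ∧ b * q = q * b) := by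
  decide +kernel

/-- The elements of the quaternion subgroup. -/
def q8 : Subgroup SL23 where
  carrier := {x | x * x * (x * x) = 1}
  one_mem' := by simp
  mul_mem' := by
    intro a b ha hb
    revert ha hb
    revert a b
    decide +kernel
  inv_mem' := by
    intro a ha
    show a⁻¹ * a⁻¹ * (a⁻¹ * a⁻¹) = 1
    have : (a * a * (a * a))⁻¹ = 1 := by rw [ha, inv_one]
    rw [← this]; group

theorem gT'_conj : ∃ g : SL43, g * tM = blk !![-1, 0; 0, 1] !![-1, 0; 0, 1] (by decide) * swM * g := by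
  exact ⟨⟨!![2, 2, 2, 1; 1, 2, 2, 2; 2, 1, 0, 0; 2, 2, 0, 0], by decide +kernel⟩, by decide +kernel⟩

theorem gU'_conj : ∃ g : SL43, g * uM = blk !![-1, 0; 0, 1] !![1, 0; 0, -1] (by decide) * swM * g ∨
    g * uM = blk !![-1, 0; 0, 1] !![1, 0; 0, -1] (by decide) * swM * g * nI := by
  exact ⟨⟨!![1, 1, 0, 0; 1, 2, 0, 0; 1, 2, 2, 2; 2, 2, 2, 1], by decide +kernel⟩, by decide +kernel⟩

theorem root_blk : ∀ a : ZMod 3, (tS (0 : Fin 4) 3 a : SL43) = blk (upr a : SL23).1 1 (by revert a; decide +kernel) ∧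
    (tS (1 : Fin 4) 2 a : SL43) = blk 1 (upr a : SL23).1 (by revert a; decide +kernel) := by
  decide +kernel

theorem upr_val : ∀ a : ZMod 3, (upr a : SL23).1 = !![1, a; 0, 1] := by decide +kernel

theorem upper_three : ∀ i j : Fin 2, ∀ a b : ZMod 3,
    (iM ^ i.val * tM ^ j.val * (tS 0 3 a * tS 1 2 b)) ^ 6 = 1 ∧
      (((iM ^ i.val * tM ^ j.val * (tS 0 3 a * tS 1 2 b)) ^ 3 = 1 ∨
        (iM ^ i.val * tM ^ j.val * (tS 0 3 a * tS 1 2 b)) ^ 3 = nI) → i = 0 ∧ j = 0) := by
  decide +kernel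

theorem upper_pair : ∀ n m : ZMod 3, (n = 1 ∨ n = -1) → (m = 1 ∨ m = -1) → ∀ d : ZMod 3, (d = 1 ∨ d = -1) →
    ∀ k l : ZMod 3, ∃ i j : Fin 2, ∀ h : det2 (n • (!![d, 0; 0, 1] * !![1, k; 0, 1]) : M22) *
      det2 (m • (!![d, 0; 0, 1] * !![1, l; 0, 1]) : M22) = 1,
      blk (n • (!![d, 0; 0, 1] * !![1, k; 0, 1])) (m • (!![d, 0; 0, 1] * !![1, l; 0, 1])) h =
          iM ^ i.val * tM ^ j.val * (tS 0 3 k * tS 1 2 l) ∨
        blk (n • (!![d, 0; 0, 1] * !![1, k; 0, 1])) (m • (!![d, 0; 0, 1] * !![1, l; 0, 1])) h =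
          iM ^ i.val * tM ^ j.val * (tS 0 3 k * tS 1 2 l) * nI := by
  decide +kernel

theorem swap_three : ∀ i j : Fin 2, ∀ a b : ZMod 3,
    ((iM ^ i.val * tM ^ j.val * (tS 0 3 a * tS 1 2 b) * swM) ^ 12 = 1 ∨
      (iM ^ i.val * tM ^ j.val * (tS 0 3 a * tS 1 2 b) * swM) ^ 12 = nI) ∧
    ¬ ((iM ^ i.val * tM ^ j.val * (tS 0 3 a * tS 1 2 b) * swM) ^ 3 = 1 ∨
      (iM ^ i.val * tM ^ j.val * (tS 0 3 a * tS 1 2 b) * swM) ^ 3 = nI) := by
  decide +kernel

theorem det_left (q : SL23) : det2 q.1 * det2 (1 : M22) = 1 := by rw [det2_sl]; rfl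

theorem det_right (q : SL23) : det2 (1 : M22) * det2 q.1 = 1 := by rw [det2_sl]; rfl

theorem tS_zero : (tS (0 : Fin 4) 3 (0 : ZMod 3) : SL43) = 1 ∧ (tS (1 : Fin 4) 2 (0 : ZMod 3) : SL43) = 1 := by
  decide +kernel

theorem det_pm : ∀ a b : ZMod 3, a * b = 1 → a = b ∧ (a = 1 ∨ a = -1) := by decide

theorem transfer_one {H : Type*} [Group H] [Finite H] {d : H} (hd : d * d = 1) (K : Subgroup H) (χ : ↥K →* ℤˣ)
    (hχ : ∀ g : H, ∀ h : g⁻¹ * d * g ∈ K, χ ⟨_, h⟩ = 1) : MonoidHom.transfer χ d = 1 := by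
  classical
  letI := Fintype.ofFinite (Quotient (MulAction.orbitRel (Subgroup.zpowers d) (H ⧸ K)))
  rw [MonoidHom.transfer_eq_prod_quotient_orbitRel_zpowers_quot]
  refine Finset.prod_eq_one fun q _ => ?_
  have hper : Function.IsPeriodicPt (d • ·) 2 q.out := by
    show d • d • q.out = q.out
    rw [← mul_smul, hd, one_smul]
  have hm := QuotientGroup.out_conj_pow_minimalPeriod_mem K d q.out
  rcases (Nat.dvd_prime Nat.prime_two).1 hper.minimalPeriod_dvd with e | e
  · rw [e, pow_one] at hm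
    refine (congrArg χ (Subtype.ext ?_)).trans (hχ _ hm)
    show q.out.out⁻¹ * d ^ Function.minimalPeriod (d • ·) q.out * q.out.out = q.out.out⁻¹ * d * q.out.out
    rw [e, pow_one]
  · refine (congrArg χ (Subtype.ext ?_)).trans (map_one χ)
    show q.out.out⁻¹ * d ^ Function.minimalPeriod (d • ·) q.out * q.out.out = 1
    rw [e, pow_two, hd, mul_one, inv_mul_cancel]

namespace Two

variable {G : Type*} [Group G] [Finite G] (P : Two G)

/-- The involution. -/
noncomputable abbrev tG : G := P.phi tM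

/-- Its centralizer. -/
noncomputable abbrev CT : Subgroup G := centralizer ({P.tG} : Set G)

theorem phi_blk_neg {A B : M22} (h : det2 A * det2 B = 1) :
    P.phi (blk (-A) (-B) (by rw [det2_neg, det2_neg]; exact h)) = P.phi (blk A B h) := by
  rw [← blk_neg h, map_mul, P.phi_neg_one, mul_one]

theorem phi_tM_sq : P.tG * P.tG = 1 := by rw [← map_mul, iM_facts.2.1, map_one]

theorem CT_shape {g : G} (hg : g ∈ P.CT) (h0 : g ∈ P.G0) : ∃ A B, ∃ h : det2 A * det2 B = 1,
    g = P.phi (blk A B h) ∨ g = P.phi (blk A B h * swM) := by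
  obtain ⟨m, rfl⟩ := h0
  have hc : P.phi (tM * m) = P.phi (m * tM) := by
    rw [map_mul, map_mul]; exact (mem_centralizer_singleton_iff.1 hg).symm
  have hc' : m * tM = tM * m ∨ m * tM = tM * m * nI := by
    rcases P.phi_eq.1 hc with e | e
    · exact Or.inl e.symm
    · exact Or.inr (by rw [e, mul_assoc, nI_facts.2, mul_one])
  obtain ⟨A, B, h, e | e⟩ := t_shape m hc'
  · exact ⟨A, B, h, Or.inl (by rw [e])⟩
  · exact ⟨A, B, h, Or.inr (by rw [e])⟩

theorem blk_mem_CT {A B : M22} (h : det2 A * det2 B = 1) : P.phi (blk A B h) ∈ P.CT := by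
  refine mem_centralizer_singleton_iff.2 ?_
  rw [← map_mul, ← map_mul, tM_eq, blk_mul, blk_mul]
  exact congrArg P.phi (blk_congr (by rw [mul_one, one_mul]) (by rw [mul_neg, neg_mul, mul_one, one_mul]))

theorem swM_mem_CT : P.phi swM ∈ P.CT := by
  refine mem_centralizer_singleton_iff.2 ?_
  have e : swM * tM = tM * swM * nI := by decide +kernel
  rw [← map_mul, ← map_mul, e, map_mul, P.phi_neg_one, mul_one]

/-- A block of the centralizer. -/
noncomputable def side (s : Bool) : SL23 →* G :=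
  match s with
  | false => MonoidHom.mk' (fun q => P.phi (blk q.1 1 (det_left q))) fun x y => by
      rw [← map_mul, blk_mul]; exact congrArg P.phi (blk_congr rfl (mul_one _).symm)
  | true => MonoidHom.mk' (fun q => P.phi (blk 1 q.1 (det_right q))) fun x y => by
      rw [← map_mul, blk_mul]; exact congrArg P.phi (blk_congr (mul_one _).symm rfl)

theorem side_mem_G0 (s : Bool) (q : SL23) : P.side s q ∈ P.G0 := by
  cases s <;> exact P.phi_mem _

theorem side_mem_CT (s : Bool) (q : SL23) : P.side s q ∈ P.CT := by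
  cases s <;> exact P.blk_mem_CT _

theorem side_comm (s : Bool) (q r : SL23) : Commute (P.side s q) (P.side (!s) r) := by
  cases s <;>
  · show P.phi _ * P.phi _ = P.phi _ * P.phi _
    rw [← map_mul, ← map_mul, blk_mul, blk_mul]
    exact congrArg P.phi (blk_congr (by rw [mul_one, one_mul]) (by rw [mul_one, one_mul]))

theorem side_neg_one (s : Bool) (q : SL23) (h : q.1 = -1) : P.side s q = P.tG := by
  cases s
  · show P.phi (blk q.1 1 _) = P.phi tM
    rw [tM_eq, ← P.phi_blk_neg (A := (1 : M22)) (B := -1) (by decide)]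
    exact congrArg P.phi (blk_congr h (neg_neg _).symm)
  · show P.phi (blk 1 q.1 _) = P.phi tM
    rw [tM_eq]
    exact congrArg P.phi (blk_congr rfl h)

theorem side_injective (s : Bool) : Function.Injective (P.side s) := by
  refine (injective_iff_map_eq_one _).2 fun q hq => Subtype.ext ?_
  have h1 : (1 : M22) ≠ -1 := by decide
  have e1 : (blk (1 : M22) (1 : M22) (by decide) : SL43) = 1 := blk_one
  have e2 : (blk (-1 : M22) (-1 : M22) (by decide) : SL43) = nI := by decide +kernel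
  cases s <;> rcases P.phi_eq_one.1 hq with e | e
  · exact (blk_inj (e.trans e1.symm)).1
  · exact absurd (blk_inj (e.trans e2.symm)).2 h1
  · exact (blk_inj (e.trans e1.symm)).2
  · exact absurd (blk_inj (e.trans e2.symm)).1 h1

theorem side_sq (s : Bool) (q : SL23) (hq : IsQ q.1) : P.side s q * P.side s q = P.tG := by
  rw [← map_mul]; exact P.side_neg_one s _ hq

theorem side_inv (s : Bool) (q r : SL23) (h : q.1 = -r.1) : P.side s q = P.side s r * P.tG := by
  let m : SL23 := ⟨-1, by decide⟩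
  have e : q = r * m := Subtype.ext (by rw [h]; show -r.1 = r.1 * -1; rw [mul_neg, mul_one])
  rw [e, map_mul, P.side_neg_one s m rfl]

theorem sq_t {g : G} (hg : g ∈ P.CT) (h0 : g ∈ P.G0) (h2 : g * g = P.tG) :
    ∃ s q, IsQ q.1 ∧ g = P.side s q := by
  obtain ⟨A, B, h, rfl | rfl⟩ := P.CT_shape hg h0
  · rw [← map_mul, blk_mul, show P.tG = P.phi (blk 1 (-1) (by decide)) by rw [← tM_eq]] at h2
    have hd := det_pm _ _ h
    rcases P.phi_eq.1 h2 with e | e
    · obtain ⟨eA, eB⟩ := blk_inj e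
      have hB := sq_facts.1 B eB
      have hA : det2 A = 1 := hd.1.trans hB
      rcases sq_facts.2 A eA hA with rfl | rfl
      · exact ⟨true, ⟨B, by rw [Matrix.det_fin_two]; simpa [det2] using hB⟩, eB, rfl⟩
      · refine ⟨true, ⟨-B, by rw [Matrix.det_fin_two]; simpa [det2] using (det2_neg B).trans hB⟩, ?_, ?_⟩
        · show -B * -B = -1
          rw [neg_mul_neg, eB]
        · show _ = P.phi (blk 1 (-B) _)
          rw [← P.phi_blk_neg h]
          exact congrArg P.phi (blk_congr (neg_neg _) rfl)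
    · rw [blk_neg] at e
      obtain ⟨eA, eB⟩ := blk_inj e
      rw [neg_neg] at eB
      have hA := sq_facts.1 A eA
      have hB : det2 B = 1 := hd.1.symm.trans hA
      rcases sq_facts.2 B eB hB with rfl | rfl
      · exact ⟨false, ⟨A, by rw [Matrix.det_fin_two]; simpa [det2] using hA⟩, eA, rfl⟩
      · refine ⟨false, ⟨-A, by rw [Matrix.det_fin_two]; simpa [det2] using (det2_neg A).trans hA⟩, ?_, ?_⟩
        · show -A * -A = -1
          rw [neg_mul_neg, eA]
        · show _ = P.phi (blk (-A) 1 _)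
          rw [← P.phi_blk_neg h]
          exact congrArg P.phi (blk_congr rfl (neg_neg _))
  · exfalso
    rw [← map_mul, show blk A B h * swM * (blk A B h * swM) = blk A B h * (swM * blk A B h) * swM by group, swM_mul,
      show blk A B h * (blk B A ((mul_comm _ _).trans h) * swM) * swM = blk A B h * blk B A ((mul_comm _ _).trans h) * (swM * swM) by group, swM_sq.1, mul_one,
      blk_mul, show P.tG = P.phi (blk 1 (-1) (by decide)) by rw [← tM_eq]] at h2
    rcases P.phi_eq.1 h2 with e | e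
    · obtain ⟨e1, e2⟩ := blk_inj e
      rw [mul_eq_one_comm.1 e1] at e2
      exact absurd e2 (by decide)
    · rw [blk_neg] at e
      obtain ⟨e1, e2⟩ := blk_inj e
      rw [neg_neg] at e2
      rw [mul_eq_one_comm.1 e2] at e1
      exact absurd e1 (by decide)

theorem side_image {n : G} (hn : n ∈ P.CT) (s : Bool) (q : SL23) (hq : IsQ q.1)
    (h : n * P.side s q * n⁻¹ ∈ P.G0) : ∃ r a, IsQ a.1 ∧ n * P.side s q * n⁻¹ = P.side r a := by
  refine P.sq_t (mul_mem (mul_mem hn (P.side_mem_CT s q)) (inv_mem hn)) h ?_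
  rw [show n * P.side s q * n⁻¹ * (n * P.side s q * n⁻¹) = n * (P.side s q * P.side s q) * n⁻¹ by group,
    P.side_sq s q hq, mem_centralizer_singleton_iff.1 hn, mul_inv_cancel_right]

theorem sideFrame {n : G} (hn : n ∈ P.CT) (h : ∀ s, n * P.side s qI * n⁻¹ ∈ P.G0 ∧ n * P.side s qJ * n⁻¹ ∈ P.G0) :
    ∃ σ : Bool, ∃ a b : Bool → SL23, ∀ s, IsQ (a s).1 ∧ IsQ (b s).1 ∧ (a s).1 * (b s).1 ≠ (b s).1 * (a s).1 ∧
      n * P.side s qI * n⁻¹ = P.side (xor σ s) (a s) ∧ n * P.side s qJ * n⁻¹ = P.side (xor σ s) (b s) := by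
  have hI : IsQ qI.1 := upr_conj.2.2.1
  have hJ : IsQ qJ.1 := upr_conj.2.2.2.1
  have key : ∀ s, ∃ r a b, IsQ (a : SL23).1 ∧ IsQ (b : SL23).1 ∧ a.1 * b.1 ≠ b.1 * a.1 ∧
      n * P.side s qI * n⁻¹ = P.side r a ∧ n * P.side s qJ * n⁻¹ = P.side r b := by
    intro s
    obtain ⟨r, a, ha, ea⟩ := P.side_image hn s qI hI (h s).1
    obtain ⟨r', b, hb, eb⟩ := P.side_image hn s qJ hJ (h s).2
    have hne : n * P.side s qI * n⁻¹ * (n * P.side s qJ * n⁻¹) ≠ n * P.side s qJ * n⁻¹ * (n * P.side s qI * n⁻¹) := by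
      intro e
      have e' : P.side s (qI * qJ) = P.side s (qJ * qI) := by
        rw [map_mul, map_mul]
        exact mul_left_cancel (a := n) (mul_right_cancel (b := n⁻¹) (by
          calc n * (P.side s qI * P.side s qJ) * n⁻¹ = _ := by group
            _ = _ := e
            _ = n * (P.side s qJ * P.side s qI) * n⁻¹ := by group))
      exact upr_conj.2.2.2.2.1 (congrArg Subtype.val (P.side_injective s e'))
    rw [ea, eb] at hne
    have hr : r' = r := by
      by_contra hr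
      have : r' = !r := by cases r <;> cases r' <;> simp_all
      subst this
      exact hne (P.side_comm r a b).eq
    subst r'
    refine ⟨r, a, b, ha, hb, fun e => hne ?_, ea, eb⟩
    rw [← map_mul, ← map_mul]
    exact congrArg _ (Subtype.ext e)
  choose r a b ha hb hab ea eb using key
  refine ⟨r false, a, b, fun s => ⟨ha s, hb s, hab s, ?_⟩⟩
  have hne : r true ≠ r false := by
    intro e
    have c1 : Commute (n * P.side false qI * n⁻¹) (n * P.side true qI * n⁻¹) := by
      show _ = _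
      rw [show n * P.side false qI * n⁻¹ * (n * P.side true qI * n⁻¹) = n * (P.side false qI * P.side true qI) * n⁻¹
        by group, (show Commute (P.side false qI) (P.side true qI) from P.side_comm false qI qI).eq]
      group
    have c2 : Commute (n * P.side false qJ * n⁻¹) (n * P.side true qI * n⁻¹) := by
      show _ = _
      rw [show n * P.side false qJ * n⁻¹ * (n * P.side true qI * n⁻¹) = n * (P.side false qJ * P.side true qI) * n⁻¹
        by group, (show Commute (P.side false qJ) (P.side true qI) from P.side_comm false qJ qI).eq]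
      group
    rw [ea, ea, e] at c1
    rw [eb, ea, e] at c2
    refine q_comm _ _ _ (ha false) (hb false) (hab false) (ha true) ⟨?_, ?_⟩
    · exact congrArg Subtype.val (P.side_injective (r false) (show P.side _ (a false * a true) = P.side _ (a true * a false)
        by rw [map_mul, map_mul]; exact c1.eq))
    · exact congrArg Subtype.val (P.side_injective (r false) (show P.side _ (b false * a true) = P.side _ (a true * b false)
        by rw [map_mul, map_mul]; exact c2.eq))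
  have hx : xor (r false) s = r s := by
    revert hne
    cases s <;> cases r false <;> cases r true <;> simp
  rw [hx]
  exact ⟨ea s, eb s⟩

theorem comm_std {n g : G} (hn : n ∈ P.CT) (h : ∀ s, n * P.side s qI * n⁻¹ ∈ P.G0 ∧ n * P.side s qJ * n⁻¹ ∈ P.G0)
    (hg : g ∈ P.CT) (hc : ∀ s, Commute g (n * P.side s qI * n⁻¹) ∧ Commute g (n * P.side s qJ * n⁻¹)) (s : Bool)
    (q : SL23) (hq : IsQ q.1) : Commute g (P.side s q) := by
  obtain ⟨σ, a, b, hf⟩ := P.sideFrame hn h
  obtain ⟨ha, hb, hab, ea, eb⟩ := hf (xor σ s)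
  have hs : xor σ (xor σ s) = s := by cases σ <;> cases s <;> rfl
  rw [hs] at ea eb
  have ca : Commute g (P.side s (a (xor σ s))) := ea ▸ (hc _).1
  have cb : Commute g (P.side s (b (xor σ s))) := eb ▸ (hc _).2
  have ct : Commute g P.tG := mem_centralizer_singleton_iff.1 hg
  rcases q_gen _ _ ha hb hab _ hq with e | e | e | e | e | e
  · rw [show q = a (xor σ s) from Subtype.ext e]; exact ca
  · rw [P.side_inv s q _ e]; exact ca.mul_right ct
  · rw [show q = b (xor σ s) from Subtype.ext e]; exact cb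
  · rw [P.side_inv s q _ e]; exact cb.mul_right ct
  · rw [show q = a (xor σ s) * b (xor σ s) from Subtype.ext e, map_mul]; exact ca.mul_right cb
  · rw [P.side_inv s q (a (xor σ s) * b (xor σ s)) e, map_mul]; exact (ca.mul_right cb).mul_right ct

/-- The elements centralizing both quaternion subgroups. -/
def centQ : Subgroup G where
  carrier := {g | g ∈ P.CT ∧ ∀ s, Commute g (P.side s qI) ∧ Commute g (P.side s qJ)}
  one_mem' := ⟨one_mem _, fun _ => ⟨Commute.one_left _, Commute.one_left _⟩⟩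
  mul_mem' := fun ha hb => ⟨mul_mem ha.1 hb.1, fun s => ⟨(ha.2 s).1.mul_left (hb.2 s).1, (ha.2 s).2.mul_left (hb.2 s).2⟩⟩
  inv_mem' := fun ha => ⟨inv_mem ha.1, fun s => ⟨(ha.2 s).1.inv_left, (ha.2 s).2.inv_left⟩⟩

theorem centQ_small {g : G} (hg : g ∈ P.centQ) (h0 : g ∈ P.G0) : g = 1 ∨ g = P.tG := by
  obtain ⟨hgC, hc⟩ := hg
  obtain ⟨A, B, h, rfl | rfl⟩ := P.CT_shape hgC h0
  · have hd := det_pm _ _ h
    have hA0 : det2 A ≠ 0 := fun e => by rw [e, zero_mul] at h; exact zero_ne_one h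
    have hB0 : det2 B ≠ 0 := fun e => by rw [e, mul_zero] at h; exact zero_ne_one h
    have hcomm : ∀ q : SL23, Commute (P.phi (blk A B h)) (P.side false q) → A * q.1 = q.1 * A := by
      intro q e
      have e' : P.phi (blk A B h * blk q.1 1 (by rw [det2_sl]; rfl)) = P.phi (blk q.1 1 (by rw [det2_sl]; rfl) * blk A B h) := by
        rw [map_mul, map_mul]; exact e.eq
      rw [blk_mul, blk_mul] at e'
      rcases P.phi_eq.1 e' with e'' | e''
      · exact (blk_inj e'').1
      · rw [blk_neg] at e''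
        have := (blk_inj e'').2
        rw [mul_one, one_mul] at this
        exact absurd this ((by decide +kernel : ∀ B : M22, det2 B ≠ 0 → B ≠ -B) B hB0)
    have hcomm' : ∀ q : SL23, Commute (P.phi (blk A B h)) (P.side true q) → B * q.1 = q.1 * B := by
      intro q e
      have e' : P.phi (blk A B h * blk 1 q.1 (by rw [det2_sl]; rfl)) = P.phi (blk 1 q.1 (by rw [det2_sl]; rfl) * blk A B h) := by
        rw [map_mul, map_mul]; exact e.eq
      rw [blk_mul, blk_mul] at e'
      rcases P.phi_eq.1 e' with e'' | e''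
      · exact (blk_inj e'').2
      · rw [blk_neg] at e''
        have := (blk_inj e'').1
        rw [mul_one, one_mul] at this
        exact absurd this ((by decide +kernel : ∀ B : M22, det2 B ≠ 0 → B ≠ -B) A hA0)
    rcases scalar_of_comm A (hcomm qI (hc false).1) (hcomm qJ (hc false).2) hA0 with rfl | rfl <;>
      rcases scalar_of_comm B (hcomm' qI (hc true).1) (hcomm' qJ (hc true).2) hB0 with rfl | rfl
    · exact Or.inl (by rw [blk_one, map_one])
    · exact Or.inr (by rw [← tM_eq])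
    · refine Or.inr ?_
      show _ = P.phi tM
      rw [tM_eq, ← P.phi_blk_neg (A := (1 : M22)) (B := -1) (by decide)]
      exact congrArg P.phi (blk_congr rfl (neg_neg _).symm)
    · refine Or.inl ?_
      rw [P.phi_blk_neg (A := (1 : M22)) (B := 1) (by decide), blk_one, map_one]
  · exfalso
    have e := (hc false).1.eq
    have e' : P.phi (blk A B h * swM * blk qI.1 1 (by decide)) = P.phi (blk qI.1 1 (by decide) * (blk A B h * swM)) := by
      rw [map_mul (f := P.phi) (blk A B h * swM), map_mul (f := P.phi) (blk qI.1 1 _)]; exact e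
    rw [show blk A B h * swM * blk qI.1 1 (by decide) = blk A B h * (swM * blk qI.1 1 (by decide)) by group, swM_mul,
      ← mul_assoc, ← mul_assoc, blk_mul, blk_mul] at e'
    have hA0 : det2 A ≠ 0 := fun e => by rw [e, zero_mul] at h; exact zero_ne_one h
    have hfact : ∀ A : M22, det2 A ≠ 0 → A * 1 ≠ qI.1 * A ∧ A * 1 ≠ -(qI.1 * A) := by decide +kernel
    rcases P.phi_eq.1 e' with e'' | e''
    · exact (hfact A hA0).1 (blk_inj (mul_right_cancel e'')).1
    · exact (hfact A hA0).2 (blk_inj ((mul_right_cancel (b := swM) (e''.trans (by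
        rw [mul_assoc, ← nI_facts.1 swM, ← mul_assoc]))).trans (blk_neg _))).1

theorem z_side : P.F.z = P.side false (upr 1) := by
  rw [← P.phi_z, (root_blk 1).1]; rfl

theorem z_mem_CT : P.F.z ∈ P.CT := P.z_side ▸ P.side_mem_CT _ _

/-- The element with two parameters. -/
noncomputable def eT (a b : ZMod 3) : G := P.phi (tS 0 3 a * tS 1 2 b)

theorem eT_add (a b a' b' : ZMod 3) : P.eT a b * P.eT a' b' = P.eT (a + a') (b + b') := by
  have : ∀ a b a' b' : ZMod 3, (tS 0 3 a * tS 1 2 b : SL43) * (tS 0 3 a' * tS 1 2 b') =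
      tS 0 3 (a + a') * tS 1 2 (b + b') := by decide +kernel
  rw [eT, eT, ← map_mul, this]; rfl

theorem eT_zero : P.eT 0 0 = 1 := by
  rw [eT, show (tS 0 3 0 * tS 1 2 0 : SL43) = 1 by decide +kernel, map_one]

/-- The Sylow subgroup for three of the centralizer. -/
def ET : Subgroup G where
  carrier := {g | ∃ a b, g = P.eT a b}
  one_mem' := ⟨0, 0, P.eT_zero.symm⟩
  mul_mem' := by rintro _ _ ⟨a, b, rfl⟩ ⟨a', b', rfl⟩; exact ⟨_, _, P.eT_add a b a' b'⟩
  inv_mem' := by
    rintro _ ⟨a, b, rfl⟩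
    exact ⟨-a, -b, inv_eq_of_mul_eq_one_right (by rw [P.eT_add, add_neg_cancel, add_neg_cancel, P.eT_zero])⟩

theorem ET_le_G0 : P.ET ≤ P.G0 := by rintro _ ⟨a, b, rfl⟩; exact P.phi_mem _

theorem eT_mem_CT (a b : ZMod 3) : P.eT a b ∈ P.CT := by
  rw [eT, (root_blk a).1, (root_blk b).2, blk_mul]; exact P.blk_mem_CT _

theorem ET_le_CT : P.ET ≤ P.CT := by rintro _ ⟨a, b, rfl⟩; exact P.eT_mem_CT a b

theorem eT_inj {a b a' b' : ZMod 3} (h : P.eT a b = P.eT a' b') : a = a' ∧ b = b' := by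
  have key : ∀ a b a' b' : ZMod 3, ((tS 0 3 a * tS 1 2 b : SL43) = tS 0 3 a' * tS 1 2 b' → a = a' ∧ b = b') ∧
      ((tS 0 3 a * tS 1 2 b : SL43) ≠ tS 0 3 a' * tS 1 2 b' * nI) := by decide +kernel
  rcases P.phi_eq.1 h with e | e
  · exact (key a b a' b').1 e
  · exact absurd e (key a b a' b').2

theorem ET_card : Nat.card P.ET = 9 := by
  rw [show 9 = Nat.card (ZMod 3 × ZMod 3) by rw [Nat.card_prod, Nat.card_zmod]]
  refine (Nat.card_eq_of_bijective (fun v : ZMod 3 × ZMod 3 => (⟨P.eT v.1 v.2, v.1, v.2, rfl⟩ : P.ET)) ⟨?_, ?_⟩).symm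
  · intro v w e
    obtain ⟨h1, h2⟩ := P.eT_inj (congrArg Subtype.val e)
    exact Prod.ext h1 h2
  · rintro ⟨_, a, b, rfl⟩
    exact ⟨(a, b), rfl⟩

theorem cent_ET {a : G} (ha : a ∈ P.ET) (h1 : a ≠ 1) : centralizer ({a} : Set G) ≤ P.G0 := by
  obtain ⟨x, y, rfl⟩ := ha
  intro g hg
  have hc := mem_centralizer_singleton_iff.1 hg
  have hpure : ∀ (w : G), P.F.D.Pure w → w ∈ P.G0 → g * w = w * g → g ∈ P.G0 := fun w hw hw0 e =>
    P.mem_of_pure hw0 hw (by rw [e, mul_inv_cancel_right]; exact hw0)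
  have zpure : ∀ w : ZMod 3, w ≠ 0 → P.F.D.Pure (P.phi (tS 0 3 w)) := by
    intro w hw
    rcases (by revert w; decide : w = 1 ∨ w = 2) with rfl | rfl
    · rw [P.phi_z]; exact P.pure_z
    · rw [phi_03, show ((2 : ZMod 3)).val = 2 from rfl, show P.F.z ^ 2 = P.F.z⁻¹ by
        refine eq_inv_of_mul_eq_one_left ?_
        rw [← pow_succ]; exact P.F.D.z_cube]
      exact ⟨1, Or.inr (by rw [one_mul, inv_one, mul_one])⟩
  by_cases hy : y = 0
  · subst hy
    have e : P.eT x 0 = P.phi (tS 0 3 x) := by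
      rw [eT, tS_zero.2, mul_one]
    rw [e] at hc h1
    refine hpure _ (zpure x fun hx => h1 ?_) (P.phi_mem _) hc
    rw [hx, tS_zero.1, map_one]
  by_cases hx : x = 0
  · subst hx
    have e : P.eT 0 y = P.phi (tS 1 2 y) := by
      rw [eT, tS_zero.1, one_mul]
    rw [e] at hc
    refine hpure _ ?_ (P.phi_mem _) hc
    have := (zpure y hy).conj _ (P.phi pPair)⁻¹
    rwa [← pPair_conj y, map_mul, map_mul, map_inv,
      show (P.phi pPair)⁻¹ * (P.phi pPair * P.phi (tS 1 2 y) * (P.phi pPair)⁻¹) * (P.phi pPair)⁻¹⁻¹ = P.phi (tS 1 2 y) by group]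
      at this
  have he : (-(x * y)) * (-(x * y)) = 1 :=
    (by decide : ∀ x y : ZMod 3, x ≠ 0 → y ≠ 0 → (-(x * y)) * (-(x * y)) = 1) x y hx hy
  set m := P.phi (eConjT x)
  have e1 : m * P.eT x y * m⁻¹ = P.eG he := by
    rw [eT, ← map_mul, eConjT_conj x y hx hy he, map_mul, mul_inv_cancel_right]; rfl
  have h2 : m * g * m⁻¹ ∈ P.G0 := P.cent_eG_le he (mem_centralizer_singleton_iff.2 (by
    rw [← e1]
    calc m * g * m⁻¹ * (m * P.eT x y * m⁻¹) = m * (g * P.eT x y) * m⁻¹ := by group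
      _ = m * P.eT x y * m⁻¹ * (m * g * m⁻¹) := by rw [hc]; group))
  have := mul_mem (mul_mem (inv_mem (P.phi_mem (eConjT x))) h2) (P.phi_mem (eConjT x))
  rwa [show m⁻¹ * (m * g * m⁻¹) * m = g by group] at this

theorem ET_decomp {n : G} (hn : n ∈ P.CT) (h0 : n ∈ P.G0) (hnorm : ∀ g ∈ P.ET, n * g * n⁻¹ ∈ P.ET) :
    ∃ i j : Fin 2, ∃ a b : ZMod 3, n = P.phi iM ^ i.val * P.tG ^ j.val * P.eT a b ∨
      n = P.phi iM ^ i.val * P.tG ^ j.val * P.eT a b * P.phi swM := by
  have main : ∀ A B, ∀ h : det2 A * det2 B = 1,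
      (∀ g ∈ P.ET, P.phi (blk A B h) * g * (P.phi (blk A B h))⁻¹ ∈ P.ET) →
      ∃ i j : Fin 2, ∃ a b : ZMod 3, P.phi (blk A B h) = P.phi iM ^ i.val * P.tG ^ j.val * P.eT a b := by
    intro A B h hN
    obtain ⟨hAB, hd⟩ := det_pm _ _ h
    have hA0 : det2 A ≠ 0 := fun e => by rw [e, zero_mul] at h; exact zero_ne_one h
    have hB0 : det2 B ≠ 0 := fun e => by rw [e, mul_zero] at h; exact zero_ne_one h
    have key : ∀ a b : ZMod 3, ∃ a' b', (A * !![1, a; 0, 1] = !![1, a'; 0, 1] * A ∨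
        A * !![1, a; 0, 1] = -(!![1, a'; 0, 1] * A)) ∧
        (B * !![1, b; 0, 1] = !![1, b'; 0, 1] * B ∨ B * !![1, b; 0, 1] = -(!![1, b'; 0, 1] * B)) := by
      intro a b
      obtain ⟨a', b', e⟩ := hN _ ⟨a, b, rfl⟩
      rw [mul_inv_eq_iff_eq_mul, eT, eT, (root_blk a).1, (root_blk b).2, (root_blk a').1, (root_blk b').2,
        ← map_mul, ← map_mul, blk_mul, blk_mul, blk_mul, blk_mul] at e
      refine ⟨a', b', ?_⟩
      rcases P.phi_eq.1 e with e' | e'
      · obtain ⟨e1, e2⟩ := blk_inj e'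
        simp only [upr_val, mul_one, one_mul] at e1 e2
        exact ⟨Or.inl e1, Or.inl e2⟩
      · rw [blk_neg] at e'
        obtain ⟨e1, e2⟩ := blk_inj e'
        simp only [upr_val, mul_one, one_mul] at e1 e2
        exact ⟨Or.inr e1, Or.inr e2⟩
    obtain ⟨a', b', hA, hB⟩ := key 1 1
    have uA := upper_of_norm A hA0 1 a' one_ne_zero hA
    have uB := upper_of_norm B hB0 1 b' one_ne_zero hB
    obtain ⟨k, n₁, eA, hn₁⟩ := upper_decomp A uA hA0
    obtain ⟨l, n₂, eB, hn₂⟩ := upper_decomp B uB hB0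
    rw [← hAB] at eB
    generalize det2 A = d at eA eB hd
    subst eA eB
    obtain ⟨i, j, hij⟩ := upper_pair n₁ n₂ hn₁ hn₂ d hd k l
    refine ⟨i, j, k, l, ?_⟩
    rw [eT, ← map_pow P.phi, ← map_pow P.phi, ← map_mul P.phi, ← map_mul P.phi]
    rcases hij h with e | e <;> rw [e]
    rw [map_mul, P.phi_neg_one, mul_one]
  obtain ⟨A, B, h, rfl | rfl⟩ := P.CT_shape hn h0
  · obtain ⟨i, j, a, b, e⟩ := main A B h hnorm
    exact ⟨i, j, a, b, Or.inl e⟩
  · obtain ⟨i, j, a, b, e⟩ := main A B h (by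
      rintro _ ⟨a, b, rfl⟩
      have hs : P.phi swM * P.eT a b * (P.phi swM)⁻¹ = P.eT b a := by
        rw [mul_inv_eq_iff_eq_mul, eT, eT, (root_blk a).1, (root_blk b).2, (root_blk b).1, (root_blk a).2,
          ← map_mul, ← map_mul, blk_mul, blk_mul, swM_mul]
        exact congrArg (fun m => P.phi (m * swM)) (blk_congr (by rw [mul_one, one_mul]) (by rw [mul_one, one_mul]))
      have := hnorm _ ⟨b, a, rfl⟩
      rw [map_mul, show P.phi (blk A B h) * P.phi swM * P.eT b a * (P.phi (blk A B h) * P.phi swM)⁻¹ =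
        P.phi (blk A B h) * (P.phi swM * P.eT b a * (P.phi swM)⁻¹) * (P.phi (blk A B h))⁻¹ by group] at this
      have hs' : P.phi swM * P.eT b a * (P.phi swM)⁻¹ = P.eT a b := by
        rw [mul_inv_eq_iff_eq_mul, eT, eT, (root_blk a).1, (root_blk b).2, (root_blk b).1, (root_blk a).2,
          ← map_mul, ← map_mul, blk_mul, blk_mul, swM_mul]
        exact congrArg (fun m => P.phi (m * swM)) (blk_congr (by rw [mul_one, one_mul]) (by rw [mul_one, one_mul]))
      rwa [hs'] at this)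
    exact ⟨i, j, a, b, Or.inr (by rw [map_mul, e])⟩

theorem sylow_three (R : Subgroup G) (hR : IsPGroup 3 R) (hle : P.ET ≤ R) (hCT : R ≤ P.CT) : R = P.ET := by
  haveI : Fact (Nat.Prime 3) := ⟨Nat.prime_three⟩
  by_contra hne
  have hlt : P.ET.subgroupOf R < ⊤ := by
    rw [lt_top_iff_ne_top, Ne, Subgroup.subgroupOf_eq_top]
    exact fun h => hne (le_antisymm h hle)
  haveI : Group.IsNilpotent R := hR.isNilpotent
  obtain ⟨n, hn, hnS⟩ := SetLike.exists_of_lt (Group.normalizerCondition_of_isNilpotent _ hlt)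
  have hconj : ∀ g ∈ P.ET, (n : G) * g * (n : G)⁻¹ ∈ P.ET := fun g hg =>
    (Subgroup.mem_normalizer_iff.1 hn ⟨g, hle hg⟩).1 hg
  have hzE : P.F.z ∈ P.ET := ⟨1, 0, by
    rw [eT, tS_zero.2, mul_one, P.phi_z]⟩
  have hn0 : (n : G) ∈ P.G0 := P.mem_of_z (P.ET_le_G0 (hconj _ hzE))
  obtain ⟨k, hk⟩ := hR n
  have hk' : (n : G) ^ 3 ^ k = 1 := by simpa using congrArg Subtype.val hk
  obtain ⟨i, j, a, b, e | e⟩ := P.ET_decomp (hCT n.2) hn0 hconj
  · rw [eT, ← map_pow, ← map_pow, ← map_mul, ← map_mul] at e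
    have h6 : (n : G) ^ 6 = 1 := by rw [e, ← map_pow, (upper_three i j a b).1, map_one]
    have h3 : (n : G) ^ 3 = 1 := by
      refine orderOf_dvd_iff_pow_eq_one.1 ?_
      obtain ⟨l, -, hl⟩ := (Nat.dvd_prime_pow Nat.prime_three).1 (orderOf_dvd_of_pow_eq_one hk')
      have h6' := orderOf_dvd_of_pow_eq_one h6
      rw [hl] at h6' ⊢
      have : Nat.Coprime (3 ^ l) 2 := Nat.Coprime.pow_left _ (by norm_num)
      exact this.dvd_of_dvd_mul_left (by simpa using h6')
    rw [e, ← map_pow] at h3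
    obtain ⟨rfl, rfl⟩ := (upper_three i j a b).2 (P.phi_eq_one.1 h3)
    refine hnS ?_
    show (n : G) ∈ P.ET
    rw [e]
    simp only [Fin.val_zero, pow_zero, one_mul]
    exact ⟨a, b, rfl⟩
  · rw [eT, ← map_pow, ← map_pow, ← map_mul, ← map_mul, ← map_mul] at e
    obtain ⟨h12, h3'⟩ := swap_three i j a b
    have h12' : (n : G) ^ 12 = 1 := by rw [e, ← map_pow]; exact P.phi_eq_one.2 h12
    have h3 : (n : G) ^ 3 = 1 := by
      refine orderOf_dvd_iff_pow_eq_one.1 ?_
      obtain ⟨l, -, hl⟩ := (Nat.dvd_prime_pow Nat.prime_three).1 (orderOf_dvd_of_pow_eq_one hk')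
      have h6' := orderOf_dvd_of_pow_eq_one h12'
      rw [hl] at h6' ⊢
      have : Nat.Coprime (3 ^ l) 4 := Nat.Coprime.pow_left _ (by norm_num)
      exact this.dvd_of_dvd_mul_left (by simpa using h6')
    rw [e, ← map_pow] at h3
    exact h3' (P.phi_eq_one.1 h3)

end Two

end Cfsg.Lib.LFourThree
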