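import Cfsg.Agent.Lib.LFourThree.CentT

/-!
# The two classes of involutions are distinct, and a recognition from their centralizers
-/

set_option autoImplicit false
set_option linter.unusedSectionVars false
set_option linter.style.haveILetI false
set_option maxRecDepth 100000
set_option maxHeartbeats 4000000

namespace Cfsg.Lib.LFourThree

open Subgroup Matrix Cfsg.Lib.Recog.SingleBond Cfsg.Lib.PSpThree
open Cfsg.Lib.Recog.ThreeCubedFour (Model)
open scoped MatrixGroups

theorem mem_center_facts : ∀ g : SL43, g ∈ Subgroup.center SL43 → g = 1 ∨ g = nI := by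
  intro g hc
  obtain ⟨r, hr, hrg⟩ := Matrix.SpecialLinearGroup.mem_center_iff.1 hc
  rw [Fintype.card_fin] at hr
  rcases (by decide : ∀ r : ZMod 3, r ^ 4 = 1 → r = 1 ∨ r = -1) r hr with rfl | rfl
  · exact Or.inl (Subtype.ext (by rw [← hrg]; simp))
  · exact Or.inr (Subtype.ext (by rw [← hrg]; show _ = (nI : SL43).1; decide +kernel))

theorem uM_facts : uM * uM = nI ∧ uM ≠ 1 ∧ uM ≠ nI := by decide +kernel

namespace Two

variable {G : Type*} [Group G] [Finite G] (P : Two G)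

theorem not_pure_eG {ε : ZMod 3} (he : ε * ε = 1) : ¬ P.F.D.Pure (P.eG he) := by
  intro hp
  obtain ⟨a, ha, ea⟩ := P.pure_fusion (P.eG_mem he) hp
  have hc : Nat.card (centralizer ({P.eG he} : Set G)) = 5832 := by
    rw [← P.F.D.card_C]
    refine Nat.card_congr
      { toFun := fun g => ⟨a⁻¹ * g * a, P.F.D.mem_C.2 ?_⟩
        invFun := fun g => ⟨a * g * a⁻¹, mem_centralizer_singleton_iff.2 ?_⟩
        left_inv := fun g => Subtype.ext (by show a * (a⁻¹ * g * a) * a⁻¹ = g; group)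
        right_inv := fun g => Subtype.ext (by show a⁻¹ * (a * g * a⁻¹) * a = g; group) }
    · have : (g : G) * (a * P.F.z * a⁻¹) = a * P.F.z * a⁻¹ * (g : G) := by
        rw [ea]; exact mem_centralizer_singleton_iff.1 g.2
      calc a⁻¹ * (g : G) * a * P.F.z = a⁻¹ * ((g : G) * (a * P.F.z * a⁻¹)) * a := by group
        _ = P.F.z * (a⁻¹ * g * a) := by rw [this]; group
    · rw [← ea]
      have := P.F.D.comm_z g.2
      calc a * (g : G) * a⁻¹ * (a * P.F.z * a⁻¹) = a * ((g : G) * P.F.z) * a⁻¹ := by group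
        _ = a * P.F.z * a⁻¹ * (a * g * a⁻¹) := by rw [show (g : G) * P.F.z = P.F.z * g from this]; group
  have hle : Nat.card (centralizer ({P.eG he} : Set G)) ≤ Nat.card (Model × Fin 3) := by
    refine Nat.card_le_card_of_surjective (fun v => ⟨P.mdl he v.1 * P.eG he ^ v.2.val,
      mul_mem (P.mdl_comm he v.1) (pow_mem (mem_centralizer_singleton_iff.2 rfl) _)⟩) fun g => ?_
    obtain ⟨x, k, e⟩ := P.cover he g.2 (P.cent_eG_le he g.2)
    refine ⟨(x, ⟨k % 3, Nat.mod_lt _ (by norm_num)⟩), Subtype.ext ?_⟩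
    show P.mdl he x * P.eG he ^ (k % 3) = g
    have h3 : P.eG he ^ 3 = 1 := by
      rw [eG_pow, show ((3 : ℕ) : ZMod 3) = 0 from rfl, zero_smul, mkL_zero, map_one]
    rw [pow_mod_pow_eq h3]; exact e.symm
  rw [hc, Nat.card_prod, Nat.card_fin, Nat.card_eq_fintype_card, Cfsg.Lib.Recog.ThreeCubedFour.card_model] at hle
  norm_num at hle
where
  pow_mod_pow_eq {x : G} (h : x ^ 3 = 1) {k : ℕ} : x ^ (k % 3) = x ^ k := by
    conv_rhs => rw [← Nat.mod_add_div k 3, pow_add, pow_mul, h, one_pow, mul_one]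

theorem phi_uM_sq : P.phi uM * P.phi uM = 1 := by rw [← map_mul, uM_facts.1, P.phi_neg_one]

/-- The subgroup of order nine centralizing the second involution. -/
def EU : Subgroup G where
  carrier := {g | ∃ a b, g = P.phi (uShape a b)}
  one_mem' := ⟨0, 0, by rw [uShape_facts.2.2.1, map_one]⟩
  mul_mem' := by
    rintro _ _ ⟨a, b, rfl⟩ ⟨a', b', rfl⟩
    exact ⟨_, _, by rw [← map_mul, uShape_facts.1]⟩
  inv_mem' := by
    rintro _ ⟨a, b, rfl⟩
    exact ⟨-a, -b, inv_eq_of_mul_eq_one_right (by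
      rw [← map_mul, uShape_facts.1, add_neg_cancel, add_neg_cancel, uShape_facts.2.2.1, map_one])⟩

theorem EU_card : Nat.card P.EU = 9 := by
  rw [show 9 = Nat.card (ZMod 3 × ZMod 3) by rw [Nat.card_prod, Nat.card_zmod]]
  refine (Nat.card_eq_of_bijective (fun v : ZMod 3 × ZMod 3 => (⟨P.phi (uShape v.1 v.2), v.1, v.2, rfl⟩ : P.EU))
    ⟨?_, ?_⟩).symm
  · intro v w e
    have e' : P.phi (uShape v.1 v.2 * uShape (-w.1) (-w.2)) = 1 := by
      rw [map_mul, show P.phi (uShape v.1 v.2) = P.phi (uShape w.1 w.2) from congrArg Subtype.val e, ← map_mul,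
        uShape_facts.1, add_neg_cancel, add_neg_cancel, uShape_facts.2.2.1, map_one]
    rw [uShape_facts.1] at e'
    rcases P.phi_eq_one.1 e' with h | h
    · obtain ⟨h1, h2⟩ := uShape_facts.2.2.2.2.2.1 _ _ h
      exact Prod.ext (eq_of_sub_eq_zero (by rw [sub_eq_add_neg]; exact h1))
        (eq_of_sub_eq_zero (by rw [sub_eq_add_neg]; exact h2))
    · exact absurd h (uShape_facts.2.2.2.2.2.2 _ _)
  · rintro ⟨_, a, b, rfl⟩
    exact ⟨(a, b), rfl⟩

theorem not_pure_EU {e : G} (he : e ∈ P.EU) : ¬ P.F.D.Pure e := by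
  obtain ⟨a, b, rfl⟩ := he
  by_cases hab : a = 0 ∧ b = 0
  · rw [hab.1, hab.2, uShape_facts.2.2.1, map_one]; exact P.not_pure_one
  · have hab' : a ≠ 0 ∨ b ≠ 0 := by tauto
    have hs := uShape_facts.2.2.2.2.1 a b hab'
    intro hp
    refine P.not_pure_eG hs ?_
    have := hp.conj _ (P.phi (eConjU a b))
    rwa [← map_mul, uShape_facts.2.2.2.1 a b hab' hs, map_mul, mul_inv_cancel_right] at this

theorem distinct : P.Distinct := by
  haveI : Fact (Nat.Prime 3) := ⟨Nat.prime_three⟩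
  intro h
  obtain ⟨c, hc⟩ := isConj_iff.1 h
  set R := P.EU.map (MulAut.conj c⁻¹).toMonoidHom
  have hRc : R ≤ P.CT := by
    rintro _ ⟨_, ⟨a, b, rfl⟩, rfl⟩
    refine mem_centralizer_singleton_iff.2 ?_
    have e : P.phi (uShape a b) * P.phi uM = P.phi uM * P.phi (uShape a b) := by
      rw [← map_mul, ← map_mul, uShape_facts.2.1]
    rw [← hc] at e
    show c⁻¹ * P.phi (uShape a b) * c⁻¹⁻¹ * P.tG = P.tG * (c⁻¹ * P.phi (uShape a b) * c⁻¹⁻¹)
    calc c⁻¹ * P.phi (uShape a b) * c⁻¹⁻¹ * P.tG = c⁻¹ * (P.phi (uShape a b) * (c * P.tG * c⁻¹)) * c := by group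
      _ = _ := by rw [e]; group
  have hcard : Nat.card R = 9 := by
    rw [Subgroup.card_map_of_injective (MulAut.conj c⁻¹).injective, P.EU_card]
  obtain ⟨S, hS⟩ := P.exists_sylow_three P.CT P.ET_le_CT le_rfl
  have hp : IsPGroup 3 (R.subgroupOf P.CT) := IsPGroup.of_card (n := 2) (by
    rw [Nat.card_congr (Subgroup.subgroupOfEquivOfLe hRc).toEquiv, hcard]; norm_num)
  obtain ⟨W, hW⟩ := hp.exists_le_sylow
  obtain ⟨x, hx⟩ := MulAction.exists_smul_eq P.CT W S
  have hmap : R.map (MulAut.conj (x : G)).toMonoidHom = P.ET := by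
    refine eq_of_le_of_card_ge ?_ (by
      rw [Subgroup.card_map_of_injective (MulAut.conj (x : G)).injective, hcard, P.ET_card])
    rintro _ ⟨r, hr, rfl⟩
    have : x * ⟨r, hRc hr⟩ * x⁻¹ ∈ (S : Subgroup P.CT) := by
      rw [← hx]; exact ⟨⟨r, hRc hr⟩, hW hr, rfl⟩
    rw [hS] at this
    exact this
  obtain ⟨r, ⟨e, he, her⟩, hre⟩ := (hmap.symm ▸ P.z_mem_ET : P.F.z ∈ R.map (MulAut.conj (x : G)).toMonoidHom)
  refine P.not_pure_EU he ?_
  have := P.pure_z.conj _ ((x : G) * c⁻¹)⁻¹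
  have e2 : P.F.z = ((x : G) * c⁻¹) * e * ((x : G) * c⁻¹)⁻¹ := by
    rw [← hre, ← her]
    show (x : G) * (c⁻¹ * e * c⁻¹⁻¹) * (x : G)⁻¹ = _
    group
  rwa [e2, show ((x : G) * c⁻¹)⁻¹ * ((x : G) * c⁻¹ * e * ((x : G) * c⁻¹)⁻¹) * ((x : G) * c⁻¹)⁻¹⁻¹ = e by group] at this

/-- The centralizers of both classes of involutions lying inside forces the subgroup to be everything. -/
theorem range_top (hk : P.TwoKinds) (hu : centralizer ({P.phi uM} : Set G) ≤ P.G0) : P.G0 = ⊤ := by
  have hd := P.distinct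
  have ht := P.cent_t_le hd hk
  have hcent : ∀ a ∈ P.G0, a * a = 1 → a ≠ 1 → centralizer ({a} : Set G) ≤ P.G0 := by
    intro a ha h2 h1 g hg
    obtain ⟨k, hk0, e | e⟩ := hk a ha h2 h1
    · have h : k⁻¹ * g * k ∈ P.G0 := ht (mem_centralizer_singleton_iff.2 (by
        have := mem_centralizer_singleton_iff.1 hg
        rw [← e] at this
        calc k⁻¹ * g * k * P.tG = k⁻¹ * (g * (k * P.tG * k⁻¹)) * k := by group
          _ = P.tG * (k⁻¹ * g * k) := by rw [this]; group))
      have := mul_mem (mul_mem hk0 h) (inv_mem hk0)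
      rwa [show k * (k⁻¹ * g * k) * k⁻¹ = g by group] at this
    · have h : k⁻¹ * g * k ∈ P.G0 := hu (mem_centralizer_singleton_iff.2 (by
        have := mem_centralizer_singleton_iff.1 hg
        rw [← e] at this
        calc k⁻¹ * g * k * P.phi uM = k⁻¹ * (g * (k * P.phi uM * k⁻¹)) * k := by group
          _ = P.phi uM * (k⁻¹ * g * k) := by rw [this]; group))
      have := mul_mem (mul_mem hk0 h) (inv_mem hk0)
      rwa [show k * (k⁻¹ * g * k) * k⁻¹ = g by group] at this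
  have key : ∀ b : G, b * b = 1 → b ≠ 1 → b ∈ P.G0 := by
    intro b hb hb1
    obtain ⟨a, ha, ha2, ha1, hab⟩ : ∃ a ∈ P.G0, a * a = 1 ∧ a ≠ 1 ∧ ¬ IsConj a b := by
      have ht1 : P.tG ≠ 1 := fun e => by
        rcases P.phi_eq_one.1 e with e | e
        exacts [small_facts.2.2.2.1 e, small_facts.2.2.2.2.1 e]
      have hu1 : P.phi uM ≠ 1 := fun e => by
        rcases P.phi_eq_one.1 e with e | e
        exacts [uM_facts.2.1 e, uM_facts.2.2 e]
      by_cases h : IsConj P.tG b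
      · exact ⟨_, P.phi_mem uM, P.phi_uM_sq, hu1, fun h' => hd (h.trans h'.symm)⟩
      · exact ⟨_, P.phi_mem tM, P.phi_tM_sq, ht1, h⟩
    have ainv : a⁻¹ = a := inv_eq_of_mul_eq_one_right ha2
    have binv : b⁻¹ = b := inv_eq_of_mul_eq_one_right hb
    set w := a * b with hw
    have hwa : a * w * a⁻¹ = w⁻¹ := by
      rw [hw, show (a * b)⁻¹ = b⁻¹ * a⁻¹ by group, binv, ainv, show a * (a * b) * a = a * a * (b * a) by group, ha2,
        one_mul]
    obtain ⟨m, hm⟩ : Even (orderOf w) := by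
      by_contra hodd
      rw [Nat.not_even_iff_odd] at hodd
      obtain ⟨k, hk'⟩ := hodd
      refine hab (isConj_iff.2 ⟨w ^ k, ?_⟩)
      have e1 : a * (w ^ k)⁻¹ = w ^ k * a := by
        have : a * w ^ k * a⁻¹ = (w ^ k)⁻¹ := by rw [← conj_pow, hwa, inv_pow]
        rw [← this, ainv, show a * (a * w ^ k * a) = a * a * (w ^ k * a) by group, ha2, one_mul]
      have e2 : w ^ (2 * k) = w⁻¹ := eq_inv_of_mul_eq_one_left (by rw [← pow_succ, ← hk', pow_orderOf_eq_one])
      rw [mul_assoc, e1, ← mul_assoc, ← pow_add, ← two_mul, e2, hw, _root_.mul_inv_rev, inv_mul_cancel_right, binv]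
    have hc2 : w ^ m * w ^ m = 1 := by rw [← pow_add, ← hm, pow_orderOf_eq_one]
    have hc1 : w ^ m ≠ 1 := fun e => by
      have h0 := orderOf_pos w
      have := Nat.le_of_dvd (by omega) (orderOf_dvd_of_pow_eq_one e)
      omega
    have hca : a * w ^ m * a⁻¹ = w ^ m := by
      rw [← conj_pow, hwa, inv_pow]; exact inv_eq_of_mul_eq_one_right hc2
    have hcG : w ^ m ∈ P.G0 := hcent a ha ha2 ha1
      (mem_centralizer_singleton_iff.2 (mul_inv_eq_iff_eq_mul.1 hca).symm)
    refine hcent _ hcG hc2 hc1 (mem_centralizer_singleton_iff.2 ?_)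
    have hwb : b * w * b⁻¹ = w⁻¹ := by
      rw [hw, show (a * b)⁻¹ = b⁻¹ * a⁻¹ by group, binv, ainv, show b * (a * b) * b = b * a * (b * b) by group, hb,
        mul_one]
    refine mul_inv_eq_iff_eq_mul.1 ?_
    rw [← conj_pow, hwb, inv_pow]
    exact inv_eq_of_mul_eq_one_right hc2
  set N := Subgroup.normalClosure ({P.tG} : Set G)
  have hN : N ≤ P.G0 := by
    refine (Subgroup.closure_le _).2 fun y hy => ?_
    obtain ⟨x, hx, hxy⟩ := Group.mem_conjugatesOfSet_iff.1 hy
    rw [Set.mem_singleton_iff.1 hx] at hxy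
    obtain ⟨g, rfl⟩ := isConj_iff.1 hxy
    refine key _ (by rw [show g * P.tG * g⁻¹ * (g * P.tG * g⁻¹) = g * (P.tG * P.tG) * g⁻¹ by group, P.phi_tM_sq]; group)
      fun e => ?_
    rcases P.phi_eq_one.1 (conj_eq_one_iff.1 e) with e | e
    exacts [small_facts.2.2.2.1 e, small_facts.2.2.2.2.1 e]
  have hzN : P.F.z ∈ N := by
    have hsimple : IsSimpleGroup (Matrix.ProjectiveSpecialLinearGroup (Fin 4) (ZMod 3)) :=
      haveI : Fact (Nat.Prime 3) := ⟨Nat.prime_three⟩
      Cfsg.Lib.Linear.PSL_simple_of_three_le (by simp)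
    set π' := QuotientGroup.mk' (Subgroup.center SL43)
    haveI := Subgroup.Normal.map (Subgroup.Normal.comap (inferInstance : N.Normal) P.phi) π'
      (QuotientGroup.mk'_surjective _)
    rcases hsimple.eq_bot_or_eq_top_of_normal ((N.comap P.phi).map π') inferInstance with hb | ht'
    · exfalso
      have h : π' tM = 1 := (Subgroup.eq_bot_iff_forall _).1 hb _
        ⟨tM, Subgroup.subset_normalClosure (Set.mem_singleton _), rfl⟩
      rcases mem_center_facts _ ((QuotientGroup.eq_one_iff _).1 h) with e | e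
      exacts [small_facts.2.2.2.1 e, small_facts.2.2.2.2.1 e]
    · obtain ⟨k, hk', e⟩ := (ht'.symm ▸ Subgroup.mem_top (π' (tS 0 3 (1 : ZMod 3))) :
        π' (tS 0 3 (1 : ZMod 3)) ∈ (N.comap P.phi).map π')
      have h1 : P.phi (k⁻¹ * tS 0 3 (1 : ZMod 3)) = 1 := P.phi_eq_one.2 (mem_center_facts _ (QuotientGroup.eq.1 e))
      rw [map_mul, map_inv, inv_mul_eq_one] at h1
      rw [← P.phi_z, ← h1]
      exact hk'
  exact eq_top_iff.2 fun g _ => P.mem_of_z (hN ((inferInstance : N.Normal).conj_mem _ hzN g))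

theorem equiv_psl (hk : P.TwoKinds) (hu : centralizer ({P.phi uM} : Set G) ≤ P.G0) :
    Nonempty (G ≃* Matrix.ProjectiveSpecialLinearGroup (Fin 4) (ZMod 3)) := by
  have hsurj : Function.Surjective P.phi := MonoidHom.range_eq_top.1 (P.range_top hk hu)
  have hker : P.phi.ker = Subgroup.center SL43 := by
    refine le_antisymm (fun g hg => ?_) fun g hg => P.phi_eq_one.2 (mem_center_facts g hg)
    rcases P.phi_eq_one.1 hg with rfl | rfl
    · exact one_mem _
    · exact Subgroup.mem_center_iff.2 fun g => (nI_facts.1 g).symm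
  exact ⟨(QuotientGroup.quotientKerEquivOfSurjective P.phi hsurj).symm.trans (QuotientGroup.quotientMulEquivOfEq hker)⟩

end Two

end Cfsg.Lib.LFourThree
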