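import Cfsg.Agent.Lib.LFourThree.Para

/-!
# Complements of the plane and the Levi factor
-/

set_option autoImplicit false
set_option linter.unusedSectionVars false
set_option linter.style.haveILetI false

namespace Cfsg.Lib.LFourThree

open Subgroup Cfsg.Lib.PSpThree Matrix Cfsg.Lib.Recog.SingleBond
open scoped MatrixGroups

variable {G : Type*} [Group G]

/-- The image of the central involution of the Levi factor. -/
def dT : SL33 := ⟨!![1, 0, 0; 0, -1, 0; 0, 0, -1], by decide +kernel⟩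

/-- The element inverting the centre. -/
def dH : SL33 := ⟨!![-1, 0, 0; 0, 1, 0; 0, 0, -1], by decide +kernel⟩

/-- The unipotent elements of the first row. -/
def rowU (p q : ZMod 3) : SL33 := ⟨!![1, p, q; 0, 1, 0; 0, 0, 1], by revert p q; decide +kernel⟩

theorem blockB_facts : (∀ A : SL23, blockB A * dT = dT * blockB A) ∧
    (∀ A : SL23, (blockB A).1 *ᵥ ![1, 0, 0] = ![1, 0, 0] ∧
      ∀ u : Fin 2 → ZMod 3, (blockB A).1 *ᵥ ![0, u 0, u 1] = ![0, (A.1 *ᵥ u) 0, (A.1 *ᵥ u) 1]) ∧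
    blockB (-1 : SL23) = dT := by
  decide +kernel

theorem rowU_facts : (∀ p q p' q' : ZMod 3, rowU p q * rowU p' q' = rowU (p + p') (q + q')) ∧ rowU 0 0 = 1 ∧
    (∀ (p q : ZMod 3), dT * rowU p q * dT⁻¹ = (rowU p q)⁻¹) ∧
    (∀ p q : ZMod 3, (rowU p q).1 *ᵥ ![1, 0, 0] = ![1, 0, 0] ∧
      ∀ u : Fin 2 → ZMod 3, (rowU p q).1 *ᵥ ![0, u 0, u 1] = ![p * u 0 + q * u 1, u 0, u 1]) ∧
    (∀ (A : SL23) (p q : ZMod 3), ∃ p' q' : ZMod 3, blockB A * rowU p q * (blockB A)⁻¹ = rowU p' q') := by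
  decide +kernel

theorem sl_three_conj : ∀ x : SL23, x * x * x = 1 → x ≠ 1 → ∃ a : SL23, a * x * a⁻¹ = uU ∨ a * x⁻¹ * a⁻¹ = uU := by
  decide +kernel

theorem sl_gen : ∀ s A : SL23, s * s * s = 1 → s ≠ 1 → ∃ k : Fin 3, ∃ q : SL23, q * q * (q * q) = 1 ∧
    A = q * s ^ k.val := by
  decide +kernel

namespace Fr

variable [Finite G] (F : Fr G) (T : Tor F.D)

/-- A complement containing the involution. -/
structure Comp where
  /-- The subgroup. -/
  H : Subgroup G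
  le : H ≤ F.N
  cover : ∀ g ∈ F.N, ∃ v ∈ F.V1, ∃ k ∈ H, g = v * k
  disj : ∀ x ∈ H, x ∈ F.V1 → x = 1
  t_mem : T.t ∈ H

theorem nonempty_comp : Nonempty (F.Comp T) := by
  obtain ⟨H, h1, h2, h3, h4⟩ := F.exists_complement T
  exact ⟨⟨H, h1, h2, h3, h4⟩⟩

namespace Comp

variable {F T} (K : F.Comp T)

/-- The restricted action. -/
noncomputable def hom : K.H →* SL33 := (F.sl T).comp (Subgroup.inclusion K.le)

theorem hom_bijective : Function.Bijective K.hom := by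
  refine ⟨(injective_iff_map_eq_one _).2 fun x hx => Subtype.ext (K.disj _ x.2 ((F.sl_eq_one T).1 hx)), fun A => ?_⟩
  obtain ⟨g, hg⟩ := F.sl_surj T A
  obtain ⟨v, hv, k, hk, e⟩ := K.cover g g.2
  refine ⟨⟨k, hk⟩, ?_⟩
  have e' : g = ⟨v, F.V1_le_N hv⟩ * ⟨k, K.le hk⟩ := Subtype.ext e
  rw [← hg, e', map_mul, (F.sl_eq_one T (g := ⟨v, F.V1_le_N hv⟩)).2 hv, one_mul]
  rfl

/-- The complement as a copy of `SL(3,3)`. -/
noncomputable def psi : SL33 →* G := K.H.subtype.comp (MulEquiv.ofBijective K.hom K.hom_bijective).symm.toMonoidHom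

theorem psi_mem (A : SL33) : K.psi A ∈ K.H := ((MulEquiv.ofBijective K.hom K.hom_bijective).symm A).2

theorem psi_injective : Function.Injective K.psi :=
  K.H.subtype_injective.comp (MulEquiv.injective _)

theorem sl_psi (A : SL33) : F.sl T ⟨K.psi A, K.le (K.psi_mem A)⟩ = A :=
  (MulEquiv.ofBijective K.hom K.hom_bijective).apply_symm_apply A

theorem psi_unique {g : G} (hg : g ∈ K.H) {A : SL33} (h : F.sl T ⟨g, K.le hg⟩ = A) : K.psi A = g := by
  have : K.hom ⟨g, hg⟩ = K.hom ⟨K.psi A, K.psi_mem A⟩ := h.trans (K.sl_psi A).symm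
  exact (congrArg Subtype.val (K.hom_bijective.1 this)).symm

theorem psi_apply (A : SL33) (v : Fin 3 → ZMod 3) : K.psi A * F.pt T v * (K.psi A)⁻¹ = F.pt T (A.1 *ᵥ v) := by
  have h := F.sl_apply T ⟨K.psi A, K.le (K.psi_mem A)⟩ v
  rw [K.sl_psi] at h
  exact h.symm

end Comp

theorem pt_single : F.pt T ![1, 0, 0] = F.z := by
  show F.z ^ ((1 : ZMod 3)).val * F.D.il T (F.D.emb F.c ![0, 0]) = F.z
  rw [show (![0, 0] : Fin 2 → ZMod 3) = 0 by decide, map_zero, F.D.il_zero, ZMod.val_one, pow_one, mul_one]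

theorem pt_plane (u : Fin 2 → ZMod 3) : F.pt T ![0, u 0, u 1] = F.D.il T (F.D.emb F.c u) := by
  show F.z ^ ((0 : ZMod 3)).val * F.D.il T (F.D.emb F.c ![u 0, u 1]) = _
  rw [show (![u 0, u 1] : Fin 2 → ZMod 3) = u by funext i; fin_cases i <;> rfl, ZMod.val_zero, pow_zero, one_mul]

theorem sl_t : F.sl T ⟨T.t, F.t_mem_N T⟩ = dT := by
  refine Subtype.ext (Matrix.toLin'.injective (LinearMap.ext fun v => F.pt_injective T ?_))
  rw [Matrix.toLin'_apply, Matrix.toLin'_apply, F.sl_apply T]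
  have hv : dT.1 *ᵥ v = ![v 0, -v 1, -v 2] := by revert v; decide +kernel
  rw [hv]
  show T.t * (F.z ^ (v 0).val * F.D.il T (F.D.emb F.c ![v 1, v 2])) * T.t⁻¹ =
    F.z ^ (v 0).val * F.D.il T (F.D.emb F.c ![-v 1, -v 2])
  rw [show T.t * (F.z ^ (v 0).val * F.D.il T (F.D.emb F.c ![v 1, v 2])) * T.t⁻¹ =
    (T.t * F.z ^ (v 0).val * T.t⁻¹) * (T.t * F.D.il T (F.D.emb F.c ![v 1, v 2]) * T.t⁻¹) by group,
    F.D.zp_central (pow_mem (mem_zpowers _) _) T.ht, F.D.il_inv]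
  congr 1
  rw [show (![-v 1, -v 2] : Fin 2 → ZMod 3) = -![v 1, v 2] by funext i; fin_cases i <;> simp]
  refine inv_eq_of_mul_eq_one_right ?_
  rw [← F.il_emb_add T, add_neg_cancel, map_zero, F.D.il_zero]

theorem zp_of_cent_t {x : G} (hx : x ∈ F.D.Q) (ht : T.t * x = x * T.t) : x ∈ zpowers F.z := by
  have h := F.D.inv ⟨T.t, T.ht⟩ T.tp x hx
  have e : T.t * x * T.t⁻¹ * x = x * x := by rw [ht, mul_inv_cancel_right]
  rw [show ((⟨T.t, T.ht⟩ : F.D.C) : G) = T.t from rfl, e] at h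
  have h2 := mul_mem h h
  rwa [show x * x * (x * x) = x ^ 3 * x by simp [pow_succ, mul_assoc], F.D.Q_exp x hx, one_mul] at h2

namespace Comp

variable {F T} (K : F.Comp T)

theorem psi_dT : K.psi dT = T.t := K.psi_unique K.t_mem (F.sl_t T)

/-- The Levi factor. -/
noncomputable def chi : SL23 →* G := K.psi.comp blockB

theorem chi_comm (A : SL23) : T.t * K.chi A = K.chi A * T.t := by
  show T.t * K.psi (blockB A) = K.psi (blockB A) * T.t
  rw [← K.psi_dT, ← map_mul, ← map_mul, blockB_facts.1]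

theorem chi_mem (A : SL23) : K.chi A ∈ F.D.C := by
  refine F.D.mem_C.2 ?_
  have h := K.psi_apply (blockB A) ![1, 0, 0]
  rw [(blockB_facts.2.1 A).1, F.pt_single] at h
  exact mul_inv_eq_iff_eq_mul.1 h

theorem pi_chi (A : SL23) : F.D.π ⟨K.chi A, K.chi_mem A⟩ = A := by
  set g : F.D.C := ⟨K.chi A, K.chi_mem A⟩
  have h : ∀ u, (F.D.π g).1 *ᵥ u = A.1 *ᵥ u := by
    intro u
    refine F.D.emb_injective F.hc F.c_ne ?_
    have e := K.psi_apply (blockB A) ![0, u 0, u 1]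
    rw [(blockB_facts.2.1 A).2, pt_plane, pt_plane,
      show K.psi (blockB A) = K.chi A from rfl, F.D.il_conj T (K.chi_mem A) (K.chi_comm A), Data.act_eq_psi,
      F.D.psi_emb F.hc] at e
    have a1 := F.D.cl_il T (F.D.emb F.c ((F.D.π g).1 *ᵥ u))
    rw [← a1, ← F.D.cl_il T (F.D.emb F.c (A.1 *ᵥ u))]
    exact congrArg F.D.cl (Subtype.ext e)
  exact Subtype.ext (Matrix.toLin'.injective (LinearMap.ext fun v => by
    rw [Matrix.toLin'_apply, Matrix.toLin'_apply]; exact h v))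

/-- Every element of the centralizer of the involution in the centralizer of the centre. -/
theorem cent_t {c : G} (hc : c ∈ F.D.C) (ht : T.t * c = c * T.t) :
    (K.chi (F.D.π ⟨c, hc⟩))⁻¹ * c ∈ zpowers F.z := by
  refine F.zp_of_cent_t T ?_ ?_
  · have h := F.D.eq_of_pi (a := ⟨_, K.chi_mem (F.D.π ⟨c, hc⟩)⟩) (b := ⟨c, hc⟩) (K.pi_chi _)
    exact h
  · exact (Commute.mul_right (show Commute T.t (K.chi (F.D.π ⟨c, hc⟩))⁻¹ from
      (show Commute T.t (K.chi (F.D.π ⟨c, hc⟩)) from K.chi_comm _).inv_right) ht).eq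

/-- The unipotent radical of the point stabiliser. -/
noncomputable def row (p q : ZMod 3) : G := K.psi (rowU p q)

theorem row_add (p q p' q' : ZMod 3) : K.row p q * K.row p' q' = K.row (p + p') (q + q') := by
  rw [row, row, ← map_mul, rowU_facts.1]; rfl

theorem row_inverted (p q : ZMod 3) : T.t * K.row p q * T.t⁻¹ = (K.row p q)⁻¹ := by
  rw [row, ← K.psi_dT, ← map_inv, ← map_mul, ← map_mul, rowU_facts.2.2.1, map_inv]

theorem row_mem_C (p q : ZMod 3) : K.row p q ∈ F.D.C := by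
  refine F.D.mem_C.2 ?_
  have h := K.psi_apply (rowU p q) ![1, 0, 0]
  rw [(rowU_facts.2.2.2.1 p q).1, F.pt_single] at h
  exact mul_inv_eq_iff_eq_mul.1 h

theorem row_mem_Q (p q : ZMod 3) : K.row p q ∈ F.D.Q := by
  set g : F.D.C := ⟨K.row p q, K.row_mem_C p q⟩
  have h : ∀ u, (F.D.π g).1 *ᵥ u = u := by
    intro u
    refine F.D.emb_injective F.hc F.c_ne ?_
    have e := K.psi_apply (rowU p q) ![0, u 0, u 1]
    rw [(rowU_facts.2.2.2.1 p q).2, pt_plane] at e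
    obtain ⟨w, hw⟩ := F.D.cl_surj (F.D.emb F.c u)
    have e2 : F.D.cl ⟨K.row p q * F.D.il T (F.D.emb F.c u) * (K.row p q)⁻¹,
        F.D.conj_Q (K.row_mem_C p q) (F.D.il_mem T _)⟩ = F.D.emb F.c u := by
      obtain ⟨v, hv⟩ : ∃ k : ℕ, K.row p q * F.D.il T (F.D.emb F.c u) * (K.row p q)⁻¹ =
          F.z ^ k * F.D.il T (F.D.emb F.c u) := ⟨(p * u 0 + q * u 1).val, by
        refine e.trans ?_
        show F.z ^ _ * F.D.il T (F.D.emb F.c ![u 0, u 1]) = _
        rw [show (![u 0, u 1] : Fin 2 → ZMod 3) = u by funext i; fin_cases i <;> rfl]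
        rfl⟩
      have : (⟨_, F.D.conj_Q (K.row_mem_C p q) (F.D.il_mem T (F.D.emb F.c u))⟩ : F.D.Q) =
          ⟨F.z ^ v, pow_mem F.D.z_mem _⟩ * ⟨_, F.D.il_mem T (F.D.emb F.c u)⟩ := Subtype.ext hv
      rw [this, Data.cl_mul, F.D.cl_eq_zero.2 (pow_mem (mem_zpowers _) _), zero_add, F.D.cl_il]
    have e3 := F.D.act_cl g ⟨_, F.D.il_mem T (F.D.emb F.c u)⟩
    rw [F.D.cl_il, F.D.act_eq_psi, F.D.psi_emb F.hc] at e3
    exact e3.trans e2
  exact (F.D.ker g).1 (sl_fix _ (h _) (h _))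

theorem row_val (p q : ZMod 3) : K.row p q = F.D.il T (F.D.emb F.d ![q, -p]) := by
  -- the row elements and the centre form the second plane
  let W₀ : Subgroup G :=
    { carrier := {x | ∃ p q : ZMod 3, ∃ k ∈ zpowers F.z, x = K.row p q * k}
      one_mem' := ⟨0, 0, 1, one_mem _, by rw [row, rowU_facts.2.1, map_one, mul_one]⟩
      mul_mem' := by
        rintro _ _ ⟨p, q, k, hk, rfl⟩ ⟨p', q', k', hk', rfl⟩
        refine ⟨p + p', q + q', k * k', mul_mem hk hk', ?_⟩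
        have hc : k * K.row p' q' = K.row p' q' * k :=
          (mul_inv_eq_iff_eq_mul.1 (F.D.zp_central hk (K.row_mem_C p' q'))).symm
        rw [← K.row_add, show K.row p q * k * (K.row p' q' * k') = K.row p q * (k * K.row p' q') * k' by group, hc]
        group
      inv_mem' := by
        rintro _ ⟨p, q, k, hk, rfl⟩
        refine ⟨-p, -q, k⁻¹, inv_mem hk, ?_⟩
        have hc : k⁻¹ * K.row (-p) (-q) = K.row (-p) (-q) * k⁻¹ :=
          (mul_inv_eq_iff_eq_mul.1 (F.D.zp_central (inv_mem hk) (K.row_mem_C _ _))).symm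
        have hi : (K.row p q)⁻¹ = K.row (-p) (-q) := inv_eq_of_mul_eq_one_right (by
          rw [K.row_add, add_neg_cancel, add_neg_cancel, row, rowU_facts.2.1, map_one])
        rw [_root_.mul_inv_rev, hi, hc] }
  have hpl : F.D.IsPlane W₀ := by
    refine ⟨?_, ⟨0, 0, F.z, mem_zpowers _, by rw [row, rowU_facts.2.1, map_one, one_mul]⟩, ?_, ?_, ?_⟩
    · rintro _ ⟨p, q, k, hk, rfl⟩
      exact mul_mem (K.row_mem_Q p q) (F.D.zp_le_Q hk)
    · rw [show 27 = Nat.card ((ZMod 3 × ZMod 3) × zpowers F.z) by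
        rw [Nat.card_prod, Nat.card_prod, Nat.card_zmod, Nat.card_zpowers, F.D.hz]]
      refine (Nat.card_eq_of_bijective (fun a : (ZMod 3 × ZMod 3) × zpowers F.z =>
        (⟨K.row a.1.1 a.1.2 * a.2, _, _, _, a.2.2, rfl⟩ : W₀)) ⟨?_, ?_⟩).symm
      · rintro ⟨⟨p, q⟩, ⟨k, hk⟩⟩ ⟨⟨p', q'⟩, ⟨k', hk'⟩⟩ e
        have e' : K.row p q * k = K.row p' q' * k' := congrArg Subtype.val e
        have h1 : (K.row p' q')⁻¹ * K.row p q = k' * k⁻¹ := by
          calc (K.row p' q')⁻¹ * K.row p q = (K.row p' q')⁻¹ * (K.row p q * k) * k⁻¹ := by group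
            _ = k' * k⁻¹ := by rw [e']; group
        have h2 : (K.row p' q')⁻¹ * K.row p q ∈ F.V1 := h1 ▸ F.D.zp_le_pl _ (mul_mem hk' (inv_mem hk))
        have h3 := K.disj _ (mul_mem (inv_mem (K.psi_mem _)) (K.psi_mem _)) h2
        have h4 : rowU p' q' = rowU p q := K.psi_injective (inv_mul_eq_one.1 h3)
        have h5 : p' = p ∧ q' = q := by
          have := congrArg (fun M : SL33 => (M.1 0 1, M.1 0 2)) h4
          exact Prod.mk.injEq _ _ _ _ ▸ this
        obtain ⟨rfl, rfl⟩ := h5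
        obtain rfl : k = k' := mul_left_cancel e'
        rfl
      · rintro ⟨_, p, q, k, hk, rfl⟩
        exact ⟨((p, q), ⟨k, hk⟩), rfl⟩
    · rintro _ ⟨p, q, k, hk, rfl⟩ _ ⟨p', q', k', hk', rfl⟩
      have c1 : Commute (K.row p q) (K.row p' q') := by
        show _ = _; rw [K.row_add, K.row_add, add_comm p, add_comm q]
      have ck : ∀ {k x : G}, k ∈ zpowers F.z → x ∈ F.D.C → Commute x k := fun hk hx =>
        mul_inv_eq_iff_eq_mul.1 (F.D.zp_central hk hx)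
      exact ((c1.mul_right (ck hk' (K.row_mem_C p q))).mul_left
        (((ck hk (K.row_mem_C p' q')).symm).mul_right (setLike_mul_comm (s := zpowers F.z) hk hk'))).eq
    · rintro g hg _ ⟨p, q, k, hk, rfl⟩
      set A := F.D.π ⟨g, hg⟩
      set x := (K.chi A)⁻¹ * g
      have hx : x ∈ F.D.Q := F.D.eq_of_pi (a := ⟨_, K.chi_mem A⟩) (b := ⟨g, hg⟩) (K.pi_chi A)
      obtain ⟨p', q', hpq⟩ := rowU_facts.2.2.2.2 A p q
      have hcm := F.D.Q_comm x hx _ (K.row_mem_Q p q)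
      refine ⟨p', q', _, mul_mem hcm hk, ?_⟩
      have hr : K.chi A * K.row p q * (K.chi A)⁻¹ = K.row p' q' := by
        show K.psi (blockB A) * K.psi (rowU p q) * (K.psi (blockB A))⁻¹ = _
        rw [← map_inv, ← map_mul, ← map_mul, hpq]; rfl
      have hk' := F.D.zp_central hk (mem_centralizer_singleton_iff.2 (F.D.comm_z hg) : g ∈ F.D.C)
      have hcc := F.D.zp_central hcm (K.row_mem_C p q)
      calc g * (K.row p q * k) * g⁻¹ = K.chi A * (x * K.row p q * x⁻¹) * (K.chi A)⁻¹ * (g * k * g⁻¹) := by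
            simp only [x]; group
        _ = K.chi A * (x * K.row p q * x⁻¹ * (K.row p q)⁻¹) * (K.chi A)⁻¹ * (K.chi A * K.row p q * (K.chi A)⁻¹) * k := by
            rw [hk']; group
        _ = (x * K.row p q * x⁻¹ * (K.row p q)⁻¹) * K.row p' q' * k := by
            rw [F.D.zp_central hcm (K.chi_mem A), hr]
        _ = _ := by
            rw [mul_inv_eq_iff_eq_mul.1 (F.D.zp_central hcm (K.row_mem_C p' q')) |>.symm, mul_assoc]
  have hmem : ∀ p q, K.row p q ∈ W₀ := fun p q => ⟨p, q, 1, one_mem _, (mul_one _).symm⟩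
  rcases F.plane_cases hpl with h | h
  · have := K.disj _ (K.psi_mem (rowU 1 0)) (show K.row 1 0 ∈ F.V1 from h ▸ hmem 1 0)
    exact absurd (K.psi_injective (this.trans (map_one K.psi).symm)) (by decide +kernel)
  obtain ⟨hxQ, f, hf⟩ := (h ▸ hmem p q : K.row p q ∈ F.V2)
  have hb : ∀ u : Fin 2 → ZMod 3, p * u 0 + q * u 1 = f 0 * u 1 - f 1 * u 0 := by
    intro u
    have e := K.psi_apply (rowU p q) ![0, u 0, u 1]
    rw [(rowU_facts.2.2.2.1 p q).2, pt_plane] at e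
    set i := F.D.il T (F.D.emb F.c u) with hi
    have e' : K.row p q * i * (K.row p q)⁻¹ = F.z ^ (p * u 0 + q * u 1).val * i := by
      refine e.trans ?_
      show F.z ^ _ * F.D.il T (F.D.emb F.c ![u 0, u 1]) = _
      rw [show (![u 0, u 1] : Fin 2 → ZMod 3) = u by funext i; fin_cases i <;> rfl]
      rfl
    have hb := F.D.b_cl ⟨_, hxQ⟩ ⟨i, F.D.il_mem T _⟩
    have hci : F.D.cl ⟨i, F.D.il_mem T _⟩ = F.D.emb F.c u := F.D.cl_il T _
    rw [hf, hci, F.D.b_emb F.hd F.hc, F.dc, mul_one] at hb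
    rw [hb, e', mul_inv_cancel_right, F.D.lg_pow, ZMod.natCast_zmod_val]
  have h0 := hb ![1, 0]
  have h1 := hb ![0, 1]
  simp at h0 h1
  have hfv : f = ![q, -p] := by funext i; fin_cases i <;> simp [h0, h1]
  rw [← hfv, ← hf]
  exact (F.D.il_eq T (x := ⟨_, hxQ⟩) (K.row_inverted p q)).symm

end Comp

/-- The frame with the planes interchanged. -/
abbrev swap (F : Fr G) (E : Data G) (hl : Linked F.D E) (hp : F.D.Pure E.z) (hE : F.D.pl F.d = F.D.Q ⊓ E.Q) : Fr G where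
  D := F.D
  D' := E
  link := hl
  pure' := hp
  c := F.d
  d := F.c
  hc := F.hd
  hd := F.hc
  cc := F.dd
  dd := F.cc
  cd := F.dc
  R_eq := hE

/-- Some element of the second plane outside the centre is a conjugate. -/
def CaseTwo (F : Fr G) : Prop := ∃ x ∈ F.V2, x ∉ zpowers F.z ∧ F.D.Pure x

theorem exists_swap (F : Fr G) (h : F.CaseTwo) : ∃ (E : Data G) (hl : Linked F.D E) (_ : F.D.Pure E.z),
    F.D.pl F.d = F.D.Q ⊓ E.Q := by
  obtain ⟨x, hx, hxz, hp⟩ := h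
  obtain ⟨E, rfl⟩ := Data.Pure.exists_data _ hp
  have hl : Linked F.D E := ⟨F.isPlane_V2.le hx, hxz⟩
  refine ⟨E, hl, hp, ?_⟩
  rcases F.plane_cases hl.isPlane with h | h
  · exact absurd (F.V1_inf_V2 (h ▸ hl.z'_mem) hx) hxz
  · exact h.symm

theorem pure_V2 (F : Fr G) (h : F.CaseTwo) {x : G} (hx : x ∈ F.V2) (h1 : x ≠ 1) : F.D.Pure x := by
  obtain ⟨E, hl, hp, hE⟩ := F.exists_swap h
  exact (F.swap E hl hp hE).pure_V1 hx h1

end Fr

end Cfsg.Lib.LFourThree
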