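import Cfsg.Agent.Lib.LFourThree.Algebra

/-!
# Two such centralisers, the centre of one inside the extraspecial subgroup of the other

The intersection of the extraspecial subgroups is elementary of order 27 and normal in both centralisers.
-/

set_option autoImplicit false
set_option linter.unusedSectionVars false
set_option linter.style.haveILetI false

namespace Cfsg.Lib.LFourThree

open Subgroup Cfsg.Lib.PSpThree Matrix

variable {G : Type*} [Group G]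

theorem sl_conj_facts :
    (∀ x : SL23, x * x * x = 1 → x ≠ 1 → ∃ a : SL23,
      x * (a * x * a⁻¹) * (x * (a * x * a⁻¹)) * (x * (a * x * a⁻¹)) ≠ 1) ∧
    (∀ x : SL23, x * x * x = 1 → x ≠ 1 → ∃ a : SL23, a * x * a⁻¹ = uU ∨ a * x * a⁻¹ = uU⁻¹) := by
  refine ⟨?_, ?_⟩ <;> decide +kernel

theorem sl_comm : ∀ u v : SL23, u * u * u = 1 → v * v * v = 1 →
    u * v * (u * v) * (u * v) = 1 → u * v⁻¹ * (u * v⁻¹) * (u * v⁻¹) = 1 → u * v = v * u := by
  decide +kernel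

theorem zmod3_sq : ∀ j : ZMod 3, j ≠ 0 → j * j = 1 := by decide

theorem zmod3_two : ∀ a : ZMod 3, a + a = 0 → a = 0 := by decide

namespace Data

variable (D : Data G)

theorem zp_eq_of_mem {w : G} (hw : w ∈ zpowers D.z) (h1 : w ≠ 1) : zpowers w = zpowers D.z := by
  refine le_antisymm (zpowers_le.2 hw) (zpowers_le.2 ?_)
  rcases D.mem_zp hw with rfl | rfl | rfl
  · exact absurd rfl h1
  · exact mem_zpowers _
  · refine ⟨2, ?_⟩
    show (D.z * D.z) ^ (2 : ℤ) = D.z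
    rw [show ((2 : ℤ)) = ((2 : ℕ) : ℤ) from rfl, zpow_natCast,
      show (D.z * D.z) ^ 2 = D.z ^ 3 * D.z by simp [pow_succ, mul_assoc], D.z_cube, one_mul]

/-- The same data, the quotient map changed by an inner automorphism. -/
def twist (a : SL23) : Data G where
  z := D.z
  hz := D.hz
  Q := D.Q
  Q_le := D.Q_le
  z_mem := D.z_mem
  Q_card := D.Q_card
  Q_exp := D.Q_exp
  Q_center := D.Q_center
  Q_comm := D.Q_comm
  π := (MulAut.conj a).toMonoidHom.comp D.π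
  surj := (MulAut.conj a).surjective.comp D.surj
  ker c := by
    rw [← D.ker c, MonoidHom.comp_apply]
    exact MulEquiv.map_eq_one_iff _
  inv c hc := D.inv c (by
    have h : a * D.π c * a⁻¹ = -1 := hc
    have e : D.π c = a⁻¹ * (a * D.π c * a⁻¹) * a := by group
    rw [e, h, sl_facts.2.2.2.2.1 a⁻¹, mul_assoc, inv_mul_cancel, mul_one])

theorem twist_pi (a : SL23) (c : D.C) : (D.twist a).π c = a * D.π c * a⁻¹ := rfl

/-- An element normalising the centre normalises the extraspecial subgroup. -/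
theorem norm_Q {h x : G} (hh : h * D.z * h⁻¹ ∈ zpowers D.z) (hx : x ∈ D.Q) : h * x * h⁻¹ ∈ D.Q := by
  have hne : h * D.z * h⁻¹ ≠ 1 := fun e => D.z_ne (conj_eq_one_iff.1 e)
  have hC : ∀ c ∈ D.C, h * c * h⁻¹ ∈ D.C ∧ h⁻¹ * c * h ∈ D.C := by
    intro c hc
    refine ⟨?_, ?_⟩
    · refine D.mem_C.2 ?_
      have hz : D.z ∈ zpowers (h * D.z * h⁻¹) := by rw [D.zp_eq_of_mem hh hne]; exact mem_zpowers _
      obtain ⟨k, hk⟩ := hz
      have e : Commute (h * c * h⁻¹) (h * D.z * h⁻¹) := by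
        show h * c * h⁻¹ * (h * D.z * h⁻¹) = h * D.z * h⁻¹ * (h * c * h⁻¹)
        simp only [show h * c * h⁻¹ * (h * D.z * h⁻¹) = h * (c * D.z) * h⁻¹ by group, D.comm_z hc]
        group
      have e' := e.zpow_right k
      rw [show (h * D.z * h⁻¹) ^ k = D.z from hk] at e'
      exact e'.eq
    · refine D.mem_C.2 ?_
      have e := D.zp_central hh hc
      have e' : c * (h * D.z * h⁻¹) = h * D.z * h⁻¹ * c := mul_inv_eq_iff_eq_mul.1 e
      calc h⁻¹ * c * h * D.z = h⁻¹ * (c * (h * D.z * h⁻¹)) * h := by group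
        _ = D.z * (h⁻¹ * c * h) := by rw [e']; group
  have hc := (hC x (D.Q_le hx)).1
  by_contra hn
  have hp : D.π ⟨_, hc⟩ ≠ 1 := fun e => hn ((D.ker _).1 e)
  have h3 : D.π ⟨_, hc⟩ * D.π ⟨_, hc⟩ * D.π ⟨_, hc⟩ = 1 := by
    rw [← map_mul, ← map_mul,
      show (⟨_, hc⟩ : D.C) * ⟨_, hc⟩ * ⟨_, hc⟩ = 1 from Subtype.ext ?_, map_one]
    show h * x * h⁻¹ * (h * x * h⁻¹) * (h * x * h⁻¹) = 1
    rw [show h * x * h⁻¹ * (h * x * h⁻¹) * (h * x * h⁻¹) = h * x ^ 3 * h⁻¹ by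
      rw [pow_succ, pow_two]; group, D.Q_exp x hx, mul_one, mul_inv_cancel]
  obtain ⟨a, ha⟩ := sl_conj_facts.1 _ h3 hp
  obtain ⟨c, rfl⟩ := D.surj a
  refine ha ?_
  rw [← map_inv, ← map_mul, ← map_mul, ← map_mul, ← map_mul, ← map_mul]
  refine (congrArg D.π (Subtype.ext ?_ : _ = (1 : D.C))).trans (map_one _)
  set c' := h⁻¹ * (c : G) * h with hc'
  have hcon := D.conj_Q (hC c c.2).2 hx
  have h3' := D.Q_exp _ (mul_mem hx hcon)
  show h * x * h⁻¹ * ((c : G) * (h * x * h⁻¹) * (c : G)⁻¹) * (h * x * h⁻¹ * ((c : G) * (h * x * h⁻¹) * (c : G)⁻¹)) *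
    (h * x * h⁻¹ * ((c : G) * (h * x * h⁻¹) * (c : G)⁻¹)) = 1
  rw [show h * x * h⁻¹ * ((c : G) * (h * x * h⁻¹) * (c : G)⁻¹) = h * (x * (c' * x * c'⁻¹)) * h⁻¹ by
    rw [hc']; group]
  generalize x * (c' * x * c'⁻¹) = p at h3' ⊢
  rw [show h * p * h⁻¹ * (h * p * h⁻¹) * (h * p * h⁻¹) = h * p ^ 3 * h⁻¹ by rw [pow_succ, pow_two]; group, h3',
    mul_one, mul_inv_cancel]

theorem norm_zp {h w : G} (hh : h * D.z * h⁻¹ ∈ zpowers D.z) (hw : w ∈ zpowers D.z) : h * w * h⁻¹ ∈ zpowers D.z := by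
  obtain ⟨k, rfl⟩ := hw
  show h * D.z ^ k * h⁻¹ ∈ zpowers D.z
  rw [← conj_zpow]
  exact zpow_mem hh k

/-- Conjugation by a normalising element. -/
def nconjQ (h : G) (hh : h * D.z * h⁻¹ ∈ zpowers D.z) : D.Q →* D.Q where
  toFun x := ⟨h * x * h⁻¹, D.norm_Q hh x.2⟩
  map_one' := Subtype.ext (by simp)
  map_mul' _ _ := Subtype.ext (by simp [mul_assoc])

/-- The action of a normalising element. -/
noncomputable def nact (h : G) (hh : h * D.z * h⁻¹ ∈ zpowers D.z) : Module.End (ZMod 3) D.W :=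
  AddMonoidHom.toZModLinearMap 3 (MonoidHom.toAdditive (QuotientGroup.map D.Zs D.Zs (D.nconjQ h hh) fun x hx =>
    Subgroup.mem_comap.2 (D.mem_Zs.2 (D.norm_zp hh (D.mem_Zs.1 hx)))))

theorem nact_cl (h : G) (hh : h * D.z * h⁻¹ ∈ zpowers D.z) (x : D.Q) :
    D.nact h hh (D.cl x) = D.cl ⟨h * x * h⁻¹, D.norm_Q hh x.2⟩ := rfl

theorem nact_act (h : G) (hh : h * D.z * h⁻¹ ∈ zpowers D.z) (c c' : D.C) (hc' : (c' : G) = h * c * h⁻¹) (w : D.W) :
    D.nact h hh (D.act c w) = D.act c' (D.nact h hh w) := by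
  obtain ⟨x, rfl⟩ := D.cl_surj w
  simp only [act_cl, nact_cl]
  refine congrArg D.cl (Subtype.ext ?_)
  show h * ((c : G) * x * (c : G)⁻¹) * h⁻¹ = (c' : G) * (h * x * h⁻¹) * (c' : G)⁻¹
  rw [hc']; group

theorem exists_inv : ∃ t : G, ∃ ht : t ∈ D.C, t * t = 1 ∧ D.π ⟨t, ht⟩ = -1 := by
  obtain ⟨g₀, hg₀⟩ := D.surj (-1)
  have hq : (g₀ : G) ^ 2 ∈ D.Q := (D.ker (g₀ ^ 2)).1 (by rw [map_pow, hg₀, pow_two, sl_facts.2.1])
  refine ⟨(g₀ : G) ^ 3, pow_mem g₀.2 3, ?_, ?_⟩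
  · rw [← D.Q_exp _ hq, ← pow_add, ← pow_mul]
  · rw [show (⟨(g₀ : G) ^ 3, pow_mem g₀.2 3⟩ : D.C) = g₀ ^ 3 from rfl, map_pow, hg₀, pow_succ, pow_two,
      sl_facts.2.1, one_mul]

theorem exists_commutator {y k : G} (hy : y ∈ D.Q) (hyz : y ∉ zpowers D.z) (hk : k ∈ zpowers D.z) :
    ∃ x ∈ D.Q, x * y * x⁻¹ * y⁻¹ = k := by
  obtain ⟨v, hv⟩ : ∃ v, D.b v (D.cl ⟨y, hy⟩) ≠ 0 := by
    by_contra h
    push Not at h
    exact hyz (D.cl_eq_zero.1 (D.b_nondeg fun v => by rw [D.b_swap, h v, neg_zero]))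
  obtain ⟨x, hx⟩ := D.cl_surj ((D.lg k * D.b v (D.cl ⟨y, hy⟩)) • v)
  refine ⟨x, x.2, ?_⟩
  have h := D.b_cl x ⟨y, hy⟩
  rw [hx, map_smul, LinearMap.smul_apply, smul_eq_mul, mul_assoc] at h
  have hb : D.b v (D.cl ⟨y, hy⟩) * D.b v (D.cl ⟨y, hy⟩) = 1 := by
    revert hv; generalize D.b v (D.cl ⟨y, hy⟩) = e; revert e; decide
  rw [hb, mul_one] at h
  rw [D.lg_spec (D.Q_comm _ x.2 _ hy), D.lg_spec hk, ← h]

theorem exists_inverting {y : G} (hy : y ∈ D.Q) (hyz : y ∉ zpowers D.z) :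
    ∃ t : G, ∃ ht : t ∈ D.C, t * t = 1 ∧ D.π ⟨t, ht⟩ = -1 ∧ t * y * t⁻¹ = y⁻¹ := by
  obtain ⟨t₀, ht₀, h2, hp⟩ := D.exists_inv
  set k := t₀ * y * t₀⁻¹ * y with hk
  have hkz : k ∈ zpowers D.z := D.inv ⟨t₀, ht₀⟩ hp y hy
  obtain ⟨x, hx, hxy⟩ := D.exists_commutator hy hyz (inv_mem hkz)
  refine ⟨x * t₀ * x⁻¹, mul_mem (mul_mem (D.Q_le hx) ht₀) (inv_mem (D.Q_le hx)), ?_, ?_, ?_⟩
  · rw [show x * t₀ * x⁻¹ * (x * t₀ * x⁻¹) = x * (t₀ * t₀) * x⁻¹ by group, h2, mul_one, mul_inv_cancel]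
  · have e : (⟨x * t₀ * x⁻¹, mul_mem (mul_mem (D.Q_le hx) ht₀) (inv_mem (D.Q_le hx))⟩ : D.C) =
        ⟨x, D.Q_le hx⟩ * ⟨t₀, ht₀⟩ * ⟨x, D.Q_le hx⟩⁻¹ := rfl
    rw [e, map_mul, map_mul, map_inv, D.pi_Q hx, hp, one_mul, inv_one, mul_one]
  · have hkC : k ∈ D.C := D.Q_le (D.zp_le_Q hkz)
    have cx : x * k = k * x := mul_inv_eq_iff_eq_mul.1 (D.zp_central hkz (D.Q_le hx))
    have e0 : t₀ * y * t₀⁻¹ = k * y⁻¹ := by rw [hk]; group
    have cy : y * k = k * y := mul_inv_eq_iff_eq_mul.1 (D.zp_central hkz (D.Q_le hy))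
    have ct : t₀ * k = k * t₀ := mul_inv_eq_iff_eq_mul.1 (D.zp_central hkz ht₀)
    have e1 : x⁻¹ * y * x = k * y := by
      have h1 : x * y * x⁻¹ = k⁻¹ * y := by rw [← hxy]; group
      calc x⁻¹ * y * x = x⁻¹ * (k * (k⁻¹ * y)) * x := by group
        _ = x⁻¹ * (k * (x * y * x⁻¹)) * x := by rw [h1]
        _ = x⁻¹ * (k * x) * y := by group
        _ = k * y := by rw [← cx]; group
    calc x * t₀ * x⁻¹ * y * (x * t₀ * x⁻¹)⁻¹ = x * t₀ * (x⁻¹ * y * x) * t₀⁻¹ * x⁻¹ := by group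
      _ = x * ((t₀ * k) * t₀⁻¹ * (t₀ * y * t₀⁻¹)) * x⁻¹ := by rw [e1]; group
      _ = x * (k * (k * y⁻¹)) * x⁻¹ := by rw [ct, e0]; group
      _ = (k * k) * (x * y * x⁻¹)⁻¹ := by
          rw [show x * (k * (k * y⁻¹)) * x⁻¹ = (x * k * x⁻¹) * (x * k * x⁻¹) * (x * y * x⁻¹)⁻¹ by group,
            D.zp_central hkz (D.Q_le hx)]
      _ = k ^ 3 * y⁻¹ := by
          rw [show x * y * x⁻¹ = k⁻¹ * y by rw [← hxy]; group, _root_.mul_inv_rev, inv_inv,
            show y⁻¹ * k = k * y⁻¹ from (Commute.inv_left (show Commute y k from cy)).eq, pow_succ, pow_two]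
          group
      _ = y⁻¹ := by rw [D.Q_exp k (D.zp_le_Q hkz), one_mul]

variable [Finite G]

theorem card_comm_Q {x : G} (hx : x ∈ D.Q) : 81 ≤ Nat.card ↥(D.Q ⊓ centralizer ({x} : Set G) : Subgroup G) := by
  let f : D.Q →* Multiplicative (ZMod 3) :=
    { toFun := fun y => Multiplicative.ofAdd (D.b (D.cl y) (D.cl ⟨x, hx⟩))
      map_one' := by simp [cl_one]
      map_mul' := fun a b => by rw [cl_mul, map_add, LinearMap.add_apply]; rfl }
  have hk : Nat.card f.ker = Nat.card ↥(D.Q ⊓ centralizer ({x} : Set G) : Subgroup G) := by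
    refine Nat.card_congr ⟨fun y => ⟨y.1.1, y.1.2, mem_centralizer_singleton_iff.2 (D.b_eq_zero.1 y.2)⟩,
      fun y => ⟨⟨y.1, y.2.1⟩, ?_⟩, fun _ => rfl, fun _ => rfl⟩
    exact D.b_eq_zero.2 (mem_centralizer_singleton_iff.1 y.2.2)
  have h := card_mul_index f.ker
  rw [index_ker, D.Q_card, hk] at h
  have h3 : Nat.card f.range ≤ 3 := by
    refine (Subgroup.card_le_card_group _).trans ?_
    rw [Nat.card_congr Multiplicative.toAdd, Nat.card_zmod]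
  nlinarith

theorem card_abelian {A : Subgroup G} (hA : A ≤ D.Q) (hc : ∀ a ∈ A, ∀ b ∈ A, a * b = b * a) : Nat.card A ≤ 27 := by
  by_contra hgt
  push Not at hgt
  obtain ⟨e, he, hcard⟩ := (Nat.dvd_prime_pow Nat.prime_three).1
    (show Nat.card A ∣ 3 ^ 5 from (by norm_num : 3 ^ 5 = 243) ▸ D.Q_card ▸ card_dvd_of_le hA)
  have hcenter : Nat.card A ≠ 243 := fun h => by
    have hAQ := eq_of_le_of_card_ge hA (by rw [D.Q_card, h])
    have : D.Q ≤ zpowers D.z := fun x hx => D.Q_center x hx fun y hy => hc x (hAQ ▸ hx) y (hAQ ▸ hy)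
    have h' := card_le_of_le this
    rw [D.Q_card, Nat.card_zpowers, D.hz] at h'
    omega
  have h81 : Nat.card A = 81 := by interval_cases e <;> omega
  obtain ⟨x, hx, hxA⟩ : ∃ x ∈ D.Q, x ∉ A := by
    by_contra h
    push Not at h
    have := card_le_of_le (show D.Q ≤ A from h)
    rw [D.Q_card] at this; omega
  have hsup : A ⊔ zpowers x = D.Q := by
    have hle : A ⊔ zpowers x ≤ D.Q := sup_le hA (zpowers_le.2 hx)
    refine eq_of_le_of_card_ge hle ?_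
    obtain ⟨f, hf, hsc⟩ := (Nat.dvd_prime_pow Nat.prime_three).1
      (show Nat.card ↥(A ⊔ zpowers x) ∣ 3 ^ 5 from (by norm_num : 3 ^ 5 = 243) ▸ D.Q_card ▸ card_dvd_of_le hle)
    have hlt : Nat.card A < Nat.card ↥(A ⊔ zpowers x) := Set.Finite.card_lt_card (Set.toFinite _)
      (SetLike.coe_ssubset_coe.2 (lt_of_le_of_ne le_sup_left fun h => hxA (h ▸ mem_sup_right (mem_zpowers x))))
    rw [D.Q_card]
    interval_cases f <;> omega
  let f : A →* Multiplicative (ZMod 3) :=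
    { toFun := fun y => Multiplicative.ofAdd (D.b (D.cl ⟨y, hA y.2⟩) (D.cl ⟨x, hx⟩))
      map_one' := by
        rw [show D.cl ⟨((1 : A) : G), hA (1 : A).2⟩ = 0 from D.cl_eq_zero.2 (one_mem _), map_zero]; rfl
      map_mul' := fun a b => by
        rw [show D.cl ⟨((a * b : A) : G), hA (a * b).2⟩ = D.cl ⟨a, hA a.2⟩ + D.cl ⟨b, hA b.2⟩ from rfl, map_add,
          LinearMap.add_apply]
        rfl }
  have hk : f.ker.map A.subtype ≤ zpowers D.z := by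
    rintro _ ⟨a, ha, rfl⟩
    refine D.Q_center _ (hA a.2) fun y hy => ?_
    have hcen : A ⊔ zpowers x ≤ centralizer ({(a : G)} : Set G) := sup_le
      (fun b hb => mem_centralizer_singleton_iff.2 (hc b hb a a.2))
      (zpowers_le.2 (mem_centralizer_singleton_iff.2 (D.b_eq_zero.1 ha).symm))
    exact (mem_centralizer_singleton_iff.1 (hcen (hsup ▸ hy))).symm
  have h := card_mul_index f.ker
  rw [index_ker, h81, ← Subgroup.card_map_of_injective A.subtype_injective] at h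
  have h3 : Nat.card f.range ≤ 3 := by
    refine (Subgroup.card_le_card_group _).trans ?_
    rw [Nat.card_congr Multiplicative.toAdd, Nat.card_zmod]
  have h3' := card_le_of_le hk
  rw [Nat.card_zpowers, D.hz] at h3'
  nlinarith

end Data

/-- The centre of the second lies in the extraspecial subgroup of the first, not in its centre. -/
def Linked (D D' : Data G) : Prop := D'.z ∈ D.Q ∧ D'.z ∉ zpowers D.z

namespace Linked

variable [Finite G] {D D' : Data G} (h : Linked D D')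
include h

theorem zp_inf {x : G} (h1 : x ∈ zpowers D.z) (h2 : x ∈ zpowers D'.z) : x = 1 := by
  by_contra hx
  exact h.2 ((D'.zp_eq_of_mem h2 hx).symm.trans (D.zp_eq_of_mem h1 hx) ▸ mem_zpowers _)

/-- The centraliser of the second centre in the first extraspecial subgroup. -/
def T (_ : Linked D D') : Subgroup G := D.Q ⊓ D'.C

theorem card_T : 81 ≤ Nat.card h.T := D.card_comm_Q h.1

theorem T_exp {c : D'.C} (hc : (c : G) ∈ D.Q) : D'.π c * D'.π c * D'.π c = 1 := by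
  have e : c * c * c = 1 := Subtype.ext (by simpa [pow_succ, mul_assoc] using D.Q_exp _ hc)
  rw [← map_mul, ← map_mul, e, map_one]

theorem T_image_le : Nat.card ((h.T.subgroupOf D'.C).map D'.π) ≤ 3 := by
  haveI : Fact (Nat.Prime 3) := ⟨Nat.prime_three⟩
  have hp : IsPGroup 3 ((h.T.subgroupOf D'.C).map D'.π) := by
    rintro ⟨_, c, hc, rfl⟩
    exact ⟨1, Subtype.ext (by simpa [pow_succ] using h.T_exp (mem_subgroupOf.1 hc).1)⟩
  obtain ⟨n, hn⟩ := IsPGroup.iff_card.1 hp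
  have hd := Subgroup.card_subgroup_dvd_card ((h.T.subgroupOf D'.C).map D'.π)
  rw [sl_facts.2.2.2.2.2.2.2, hn] at hd
  rw [hn]
  have : n ≤ 1 := by
    by_contra hlt
    exact (by norm_num : ¬ 9 ∣ 24) ((pow_dvd_pow 3 (Nat.succ_le_iff.2 (not_le.1 hlt))).trans hd)
  interval_cases n <;> norm_num

theorem R_comm {a b : G} (ha : a ∈ D.Q ⊓ D'.Q) (hb : b ∈ D.Q ⊓ D'.Q) : a * b = b * a :=
  mul_inv_eq_iff_eq_mul.1 (mul_inv_eq_one.1 (h.zp_inf (D.Q_comm _ ha.1 _ hb.1) (D'.Q_comm _ ha.2 _ hb.2)))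

theorem card_R : Nat.card ↥(D.Q ⊓ D'.Q : Subgroup G) = 27 ∧
    ∃ c : D'.C, (c : G) ∈ D.Q ∧ D'.π c ≠ 1 := by
  set T' := h.T.subgroupOf D'.C
  have hTc : Nat.card T' = Nat.card h.T := Nat.card_congr (subgroupOfEquivOfLe inf_le_right).toEquiv
  let f : T' →* SL23 := D'.π.comp T'.subtype
  have hk : Nat.card f.ker = Nat.card ↥(D.Q ⊓ D'.Q : Subgroup G) := by
    refine Nat.card_congr ⟨fun y => ⟨y.1.1.1, (mem_subgroupOf.1 y.1.2).1, (D'.ker _).1 y.2⟩,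
      fun y => ⟨⟨⟨y.1, D'.Q_le y.2.2⟩, mem_subgroupOf.2 ⟨y.2.1, D'.Q_le y.2.2⟩⟩, (D'.ker _).2 y.2.2⟩,
      fun _ => rfl, fun _ => rfl⟩
  have h1 := card_mul_index f.ker
  have hr : f.range = T'.map D'.π := by rw [MonoidHom.range_comp, range_subtype]
  rw [index_ker, hr, hk, hTc] at h1
  have h2 := h.T_image_le
  have h3 := h.card_T
  have h4 : Nat.card ↥(D.Q ⊓ D'.Q : Subgroup G) ≤ 27 :=
    D.card_abelian inf_le_left fun a ha b hb => h.R_comm ha hb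
  refine ⟨le_antisymm h4 (by nlinarith), ?_⟩
  by_contra hne
  push Not at hne
  have hbot : T'.map D'.π = ⊥ := by
    rw [eq_bot_iff]
    rintro _ ⟨c, hc, rfl⟩
    exact mem_bot.2 (hne c (mem_subgroupOf.1 hc).1)
  rw [hbot, Subgroup.card_bot] at h1
  omega

theorem symm : Linked D' D := by
  refine ⟨?_, fun hz => h.2 ?_⟩
  swap
  · rw [D'.zp_eq_of_mem hz D.z_ne]; exact mem_zpowers _
  obtain ⟨a, ha, b, hb, hne⟩ : ∃ a ∈ h.T, ∃ b ∈ h.T, a * b ≠ b * a := by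
    by_contra hc
    push Not at hc
    have := D.card_abelian (A := h.T) inf_le_left hc
    have := h.card_T
    omega
  have hkz := D.Q_comm a ha.1 b hb.1
  have hk1 : a * b * a⁻¹ * b⁻¹ ≠ 1 := fun e => hne (mul_inv_eq_iff_eq_mul.1 (mul_inv_eq_one.1 e))
  have hkQ : a * b * a⁻¹ * b⁻¹ ∈ D'.Q := by
    obtain ⟨haQ, haC⟩ := (mem_inf.1 ha : a ∈ D.Q ∧ a ∈ D'.C)
    obtain ⟨hbQ, hbC⟩ := (mem_inf.1 hb : b ∈ D.Q ∧ b ∈ D'.C)
    have key : D'.π ⟨a, haC⟩ * D'.π ⟨b, hbC⟩ = D'.π ⟨b, hbC⟩ * D'.π ⟨a, haC⟩ := by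
      have h1 := h.T_exp (c := ⟨a, haC⟩) haQ
      have h2 := h.T_exp (c := ⟨b, hbC⟩) hbQ
      have h3 := h.T_exp (c := ⟨a * b, mul_mem haC hbC⟩) (mul_mem haQ hbQ)
      have h4 := h.T_exp (c := ⟨a * b⁻¹, mul_mem haC (inv_mem hbC)⟩) (mul_mem haQ (inv_mem hbQ))
      rw [show (⟨a * b, mul_mem haC hbC⟩ : D'.C) = ⟨a, haC⟩ * ⟨b, hbC⟩ from rfl, map_mul] at h3
      rw [show (⟨a * b⁻¹, mul_mem haC (inv_mem hbC)⟩ : D'.C) = ⟨a, haC⟩ * ⟨b, hbC⟩⁻¹ from rfl, map_mul,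
        map_inv] at h4
      exact sl_comm _ _ h1 h2 h3 h4
    have e : D'.π (⟨a, ha.2⟩ * ⟨b, hb.2⟩ * ⟨a, ha.2⟩⁻¹ * ⟨b, hb.2⟩⁻¹) = 1 := by
      rw [map_mul, map_mul, map_mul, key, map_inv, map_inv, mul_inv_cancel_right, mul_inv_cancel]
    exact (D'.ker _).1 e
  have hz : D.z ∈ zpowers (a * b * a⁻¹ * b⁻¹) := by rw [D.zp_eq_of_mem hkz hk1]; exact mem_zpowers _
  exact zpowers_le.2 hkQ hz

theorem z'_mem : D'.z ∈ D.Q ⊓ D'.Q := ⟨h.1, D'.z_mem⟩

theorem z_mem : D.z ∈ D.Q ⊓ D'.Q := ⟨D.z_mem, h.symm.1⟩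

theorem self_cent {x : G} (hx : x ∈ D.Q) (hc : ∀ r ∈ D.Q ⊓ D'.Q, x * r = r * x) : x ∈ D.Q ⊓ D'.Q := by
  by_contra hn
  set A := (D.Q ⊓ D'.Q) ⊔ zpowers x with hA
  have hle : A ≤ D.Q := sup_le inf_le_left (zpowers_le.2 hx)
  have hcA : ∀ a ∈ A, ∀ b ∈ A, a * b = b * a := by
    have h1 : ∀ a ∈ D.Q ⊓ D'.Q, A ≤ centralizer ({a} : Set G) := fun a ha => sup_le
      (fun b hb => mem_centralizer_singleton_iff.2 (h.R_comm hb ha))
      (zpowers_le.2 (mem_centralizer_singleton_iff.2 (hc a ha)))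
    have h2 : A ≤ centralizer (A : Set G) := sup_le
      (fun a ha => mem_centralizer_iff.2 fun b hb => (mem_centralizer_singleton_iff.1 (h1 a ha hb)))
      (zpowers_le.2 (mem_centralizer_iff.2 fun b hb =>
        mem_centralizer_singleton_iff.1 ((sup_le (fun r hr => mem_centralizer_singleton_iff.2 (hc r hr).symm)
          (zpowers_le.2 (mem_centralizer_singleton_iff.2 rfl)) : A ≤ centralizer ({x} : Set G)) hb)))
    exact fun a ha b hb => mem_centralizer_iff.1 (h2 hb) a ha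
  have hlt : Nat.card ↥(D.Q ⊓ D'.Q : Subgroup G) < Nat.card A := Set.Finite.card_lt_card (Set.toFinite _)
    (SetLike.coe_ssubset_coe.2 (lt_of_le_of_ne le_sup_left fun e => hn (e ▸ mem_sup_right (mem_zpowers x))))
  have := D.card_abelian hle hcA
  rw [h.card_R.1] at hlt
  omega

/-- The intersection, in the second symplectic space. -/
noncomputable def Rw (_ : Linked D D') : Submodule (ZMod 3) D'.W :=
  AddSubgroup.toZModSubmodule 3
    { carrier := {w | ∃ x : D'.Q, (x : G) ∈ D.Q ∧ D'.cl x = w}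
      zero_mem' := ⟨1, one_mem _, D'.cl_one⟩
      add_mem' := by
        rintro _ _ ⟨x, hx, rfl⟩ ⟨y, hy, rfl⟩
        exact ⟨x * y, mul_mem hx hy, D'.cl_mul x y⟩
      neg_mem' := by
        rintro _ ⟨x, hx, rfl⟩
        exact ⟨x⁻¹, inv_mem hx, D'.cl_inv x⟩ }

theorem mem_Rw {w : D'.W} : w ∈ h.Rw ↔ ∃ x : D'.Q, (x : G) ∈ D.Q ∧ D'.cl x = w := Iff.rfl

theorem cl_mem_Rw {x : D'.Q} : D'.cl x ∈ h.Rw ↔ (x : G) ∈ D.Q := by
  refine ⟨fun hx => ?_, fun hx => ⟨x, hx, rfl⟩⟩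
  obtain ⟨y, hy, e⟩ := h.mem_Rw.1 hx
  have := mul_mem hy ((zpowers_le.2 h.1) (D'.cl_eq_iff.1 e))
  rwa [mul_inv_cancel_left] at this

theorem card_Rw : Nat.card h.Rw = 9 := by
  let R' := D.Q.subgroupOf D'.Q
  let f : R' →* Multiplicative D'.W :=
    { toFun := fun x => Multiplicative.ofAdd (D'.cl x.1)
      map_one' := rfl
      map_mul' := fun _ _ => rfl }
  have hcR : Nat.card R' = 27 := by
    rw [← h.card_R.1]
    exact Nat.card_congr ⟨fun x => ⟨x.1.1, x.2, x.1.2⟩, fun x => ⟨⟨x.1, x.2.2⟩, x.2.1⟩, fun _ => rfl, fun _ => rfl⟩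
  have hk : Nat.card f.ker = 3 := by
    rw [← D'.hz, ← Nat.card_zpowers]
    exact Nat.card_congr ⟨fun x => ⟨x.1.1.1, D'.cl_eq_zero.1 x.2⟩,
      fun x => ⟨⟨⟨x.1, D'.zp_le_Q x.2⟩, mem_subgroupOf.2 ((zpowers_le.2 h.1) x.2)⟩, D'.cl_eq_zero.2 x.2⟩,
      fun _ => rfl, fun _ => rfl⟩
  have h1 := card_mul_index f.ker
  rw [index_ker, hk, hcR] at h1
  have h2 : Nat.card f.range = Nat.card h.Rw := Nat.card_congr
    ⟨fun w => ⟨Multiplicative.toAdd w.1, by obtain ⟨x, hx⟩ := w.2; exact ⟨x.1, x.2, hx⟩⟩,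
      fun w => ⟨Multiplicative.ofAdd w.1, by obtain ⟨x, hx, e⟩ := w.2; exact ⟨⟨x, hx⟩, e⟩⟩,
      fun _ => rfl, fun _ => rfl⟩
  omega

end Linked

namespace Linked

variable [Finite G] {D D' : Data G} (h : Linked D D')
include h

theorem invariant_aux {q : D'.C} (hqQ : (q : G) ∈ D.Q) (hq : D'.π q = uU) {w : D'.W} (hw : w ∈ h.Rw) (M : M2) :
    D'.psi M w ∈ h.Rw := by
  obtain ⟨t, ht, ht2, htp, hty⟩ := D.exists_inverting h.1 h.2
  have htn : t * D'.z * t⁻¹ ∈ zpowers D'.z := by rw [hty]; exact inv_mem (mem_zpowers _)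
  have htC : ∀ {c : G}, c ∈ D'.C → t * c * t⁻¹ ∈ D'.C := by
    intro c hc
    refine D'.mem_C.2 ?_
    have e : c * D'.z⁻¹ = D'.z⁻¹ * c := ((show Commute c D'.z from D'.comm_z hc).inv_right).eq
    have e2 : t * D'.z⁻¹ * t⁻¹ = D'.z := by
      rw [show t * D'.z⁻¹ * t⁻¹ = (t * D'.z * t⁻¹)⁻¹ by group, hty, inv_inv]
    calc t * c * t⁻¹ * D'.z = t * c * t⁻¹ * (t * D'.z⁻¹ * t⁻¹) := by rw [e2]
      _ = t * (c * D'.z⁻¹) * t⁻¹ := by group
      _ = t * D'.z⁻¹ * t⁻¹ * (t * c * t⁻¹) := by rw [e]; group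
      _ = D'.z * (t * c * t⁻¹) := by rw [e2]
  have ttC : ∀ {x : G}, t * (t * x * t⁻¹) * t⁻¹ = x := fun {x} => by
    rw [show t * (t * x * t⁻¹) * t⁻¹ = (t * t) * x * (t * t)⁻¹ by group, ht2]; simp
  set τ := D'.nact t htn with hτ
  set zb := D'.cl ⟨D.z, h.symm.1⟩ with hzb
  set N := D'.psi (Data.E 0 1) with hN
  have hzb0 : zb ≠ 0 := fun e => h.symm.2 (D'.cl_eq_zero.1 e)
  have hzR : zb ∈ h.Rw := h.cl_mem_Rw.2 D.z_mem
  have hU : D'.psi (uU : SL23).1 = 1 + N := by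
    rw [hN, ← map_one D'.psi, ← map_add]; congr 1; decide +kernel
  have hU' : D'.psi (uU⁻¹ : SL23).1 = 1 - N := by
    rw [hN, ← map_one D'.psi, ← map_sub]; congr 1; decide +kernel
  have hq' : D'.π ⟨_, htC q.2⟩ = uU⁻¹ := by
    have hinvq := D.inv ⟨t, ht⟩ htp _ hqQ
    have : D'.π (⟨_, htC q.2⟩ * q) = 1 := (D'.ker _).2 ((zpowers_le.2 h.symm.1) hinvq)
    rw [map_mul, hq] at this
    exact eq_inv_of_mul_eq_one_left this
  have hact : D'.act q = 1 + N := by rw [D'.act_eq_psi, hq, hU]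
  have hτN : ∀ v, τ (N v) = -N (τ v) := by
    intro v
    have e := D'.nact_act t htn q ⟨_, htC q.2⟩ rfl v
    rw [hact, D'.act_eq_psi, hq', hU', ← hτ] at e
    simp only [LinearMap.add_apply, LinearMap.sub_apply, Module.End.one_apply, map_add] at e
    rw [sub_eq_add_neg] at e
    exact add_left_cancel e
  have hττ : ∀ v, τ (τ v) = v := fun v => by
    obtain ⟨x, rfl⟩ := D'.cl_surj v
    rw [hτ, Data.nact_cl, Data.nact_cl]
    exact congrArg D'.cl (Subtype.ext ttC)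
  have hτz : τ zb = zb := by
    rw [hτ, hzb, Data.nact_cl]
    exact congrArg D'.cl (Subtype.ext (D.zp_central (mem_zpowers _) ht))
  have hNact : ∀ x : D'.Q, N (D'.cl x) =
      D'.cl ⟨(q : G) * x * (q : G)⁻¹ * (x : G)⁻¹, mul_mem (D'.conj_Q q.2 x.2) (inv_mem x.2)⟩ := by
    intro x
    have e := D'.act_cl q x
    rw [hact, LinearMap.add_apply, Module.End.one_apply] at e
    rw [eq_sub_of_add_eq' e, sub_eq_add_neg, ← Data.cl_inv, ← Data.cl_mul]
    rfl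
  have hNz : N zb = 0 := by
    rw [hzb, hNact, D'.cl_eq_zero]
    show (q : G) * D.z * (q : G)⁻¹ * D.z⁻¹ ∈ zpowers D'.z
    rw [D.zp_central (mem_zpowers _) (D.Q_le hqQ), mul_inv_cancel]
    exact one_mem _
  have hzX : zb ∈ D'.X := by
    rw [Data.mem_X]
    have := D'.decomp zb
    rwa [← hN, hNz, map_zero, add_zero] at this
  have hline : ∀ {k : G} (hk : k ∈ zpowers D.z), ∃ j : ZMod 3, D'.cl ⟨k, zpowers_le.2 h.symm.1 hk⟩ = j • zb := by
    intro k hk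
    rcases D.mem_zp hk with rfl | rfl | rfl
    · exact ⟨0, by rw [zero_smul]; rfl⟩
    · exact ⟨1, by rw [one_smul]⟩
    · exact ⟨2, by rw [show (2 : ZMod 3) = 1 + 1 from rfl, add_smul, one_smul]; rfl⟩
  have hNR : ∀ {v}, v ∈ h.Rw → ∃ j : ZMod 3, N v = j • zb := by
    intro v hv
    obtain ⟨x, hx, rfl⟩ := h.mem_Rw.1 hv
    obtain ⟨j, hj⟩ := hline (D.Q_comm _ hqQ _ hx)
    exact ⟨j, (hNact x).trans hj⟩
  have hτR : ∀ {v}, v ∈ h.Rw → ∃ j : ZMod 3, τ v = -v + j • zb := by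
    intro v hv
    obtain ⟨x, hx, rfl⟩ := h.mem_Rw.1 hv
    obtain ⟨j, hj⟩ := hline (D.inv ⟨t, ht⟩ htp _ hx)
    refine ⟨j, ?_⟩
    rw [← hj, hτ, Data.nact_cl, ← Data.cl_inv, ← Data.cl_mul]
    refine D'.cl_eq_iff.2 ?_
    have hc : t * (x : G) * t⁻¹ * (x : G) * (x : G)⁻¹ = (x : G)⁻¹ * (t * (x : G) * t⁻¹ * (x : G)) := by
      have hk := D.zp_central (D.inv ⟨t, ht⟩ htp _ hx) (inv_mem (D.Q_le hx))
      exact ((mul_inv_eq_iff_eq_mul.1 hk).symm)
    show (t * (x : G) * t⁻¹)⁻¹ * ((x : G)⁻¹ * (t * (x : G) * t⁻¹ * (x : G))) ∈ zpowers D'.z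
    rw [← hc, mul_inv_cancel_right, inv_mul_cancel]
    exact one_mem _
  obtain ⟨r, hrR, hNr⟩ : ∃ r ∈ h.Rw, N r = zb := by
    by_contra hne
    push Not at hne
    refine (show D'.π q ≠ 1 by rw [hq]; decide +kernel) ?_
    refine (D'.ker q).2 (h.self_cent hqQ fun x hx => ?_).2
    have hv : D'.cl ⟨x, hx.2⟩ ∈ h.Rw := h.cl_mem_Rw.2 hx.1
    obtain ⟨j, hj⟩ := hNR hv
    have hj0 : j = 0 := by
      by_contra hj0
      refine hne (j • D'.cl ⟨x, hx.2⟩) (Submodule.smul_mem _ _ hv) ?_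
      rw [map_smul, hj, smul_smul, zmod3_sq j hj0, one_smul]
    rw [hj0, zero_smul, hNact, D'.cl_eq_zero] at hj
    have := h.zp_inf (D.Q_comm _ hqQ _ hx.1) hj
    exact mul_inv_eq_iff_eq_mul.1 (mul_inv_eq_one.1 this)
  obtain ⟨-, c₂, hc₂Q', hc₂⟩ := h.symm.card_R
  set sb := D'.cl ⟨(c₂ : G), hc₂Q'⟩ with hsb
  have hv : τ sb - sb ∈ h.Rw := by
    have hts : D.π ⟨_, mul_mem (mul_mem ht c₂.2) (inv_mem ht)⟩ = D.π c₂ := by
      rw [show (⟨_, mul_mem (mul_mem ht c₂.2) (inv_mem ht)⟩ : D.C) = ⟨t, ht⟩ * c₂ * ⟨t, ht⟩⁻¹ from rfl, map_mul,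
        map_mul, map_inv, htp, ← sl_facts.2.2.2.2.1 (D.π c₂), mul_inv_cancel_right]
    rw [hτ, hsb, Data.nact_cl, sub_eq_neg_add, ← Data.cl_inv, ← Data.cl_mul]
    exact h.cl_mem_Rw.2 (D.eq_of_pi hts.symm)
  set s := sb + τ sb with hs
  have hτs : τ s = s := by rw [hs, map_add, hττ, add_comm]
  have hsR : s ∉ h.Rw := by
    intro hsR
    have h2 : sb + sb ∈ h.Rw := by
      have := sub_mem hsR hv
      rwa [show sb + sb = s - (τ sb - sb) by rw [hs]; abel]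
    have h3 : -sb ∈ h.Rw := by
      rwa [show -sb = sb + sb from neg_eq_of_add_eq_zero_left (by
        rw [← two_nsmul, ← succ_nsmul]; exact D'.three_nsmul sb)]
    exact hc₂ ((D.ker c₂).2 (h.cl_mem_Rw.1 (neg_mem_iff.1 h3)))
  have hNs : N s ∈ h.Rw := by
    have key : ∀ (x : D'.Q), (x : G) ∈ D.C → N (D'.cl x) ∈ h.Rw := by
      intro x hxC
      rw [hNact, h.cl_mem_Rw]
      show (q : G) * x * (q : G)⁻¹ * (x : G)⁻¹ ∈ D.Q
      rw [show (q : G) * x * (q : G)⁻¹ * (x : G)⁻¹ = (q : G) * ((x : G) * (q : G)⁻¹ * (x : G)⁻¹) by group]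
      exact mul_mem hqQ (D.conj_Q hxC (inv_mem hqQ))
    rw [hs, map_add, hτ, hsb, Data.nact_cl]
    exact add_mem (key _ c₂.2) (key _ (mul_mem (mul_mem ht c₂.2) (inv_mem ht)))
  haveI : Finite D'.W := Nat.finite_of_card_ne_zero (by rw [D'.card_W]; norm_num)
  haveI := Fintype.ofFinite h.Rw
  have hRspan : ∀ {v}, v ∈ h.Rw → ∃ a b : ZMod 3, v = a • zb + b • r := by
    let f : ZMod 3 × ZMod 3 → h.Rw := fun k =>
      ⟨k.1 • zb + k.2 • r, add_mem (Submodule.smul_mem _ _ hzR) (Submodule.smul_mem _ _ hrR)⟩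
    have hf : Function.Injective f := by
      rintro ⟨a, b⟩ ⟨a', b'⟩ e
      have e0 : a • zb + b • r = a' • zb + b' • r := congrArg Subtype.val e
      have e' : (a - a') • zb + (b - b') • r = 0 := by rw [← sub_eq_zero] at e0; rw [← e0]; module
      have hb : b - b' = 0 := by
        have := congrArg N e'
        simp only [map_add, map_smul, hNz, hNr, smul_zero, zero_add, map_zero] at this
        exact (smul_eq_zero.1 this).resolve_right hzb0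
      rw [hb, zero_smul, add_zero] at e'
      have ha := (smul_eq_zero.1 e').resolve_right hzb0
      rw [sub_eq_zero] at ha hb
      rw [ha, hb]
    intro v hv
    obtain ⟨⟨a, b⟩, hab⟩ := ((Fintype.bijective_iff_injective_and_card f).2 ⟨hf, by
      rw [← Nat.card_eq_fintype_card, ← Nat.card_eq_fintype_card, h.card_Rw, Nat.card_prod, Nat.card_zmod]⟩).2 ⟨v, hv⟩
    exact ⟨a, b, (congrArg Subtype.val hab).symm⟩
  have hNs0 : N s = 0 := by
    obtain ⟨a, b, hab⟩ := hRspan hNs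
    have hNN : N (N s) = 0 := by rw [hN, Data.psi_apply_psi, Data.E_mul]; simp
    rw [hab, map_add, map_smul, map_smul, hNz, hNr, smul_zero, zero_add] at hNN
    have hb := (smul_eq_zero.1 hNN).resolve_right hzb0
    rw [hb, zero_smul, add_zero] at hab
    have e := hτN s
    rw [hτs, hab, map_smul, hτz, eq_neg_iff_add_eq_zero, ← add_smul] at e
    have ha := (smul_eq_zero.1 e).resolve_right hzb0
    rw [hab, zmod3_two a ha, zero_smul]
  have hsX : s ∈ D'.X := by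
    rw [Data.mem_X]
    have := D'.decomp s
    rwa [← hN, hNs0, map_zero, add_zero] at this
  have hfix : ∀ {v}, v ∈ D'.X → τ v = v := by
    let f : ZMod 3 × ZMod 3 → D'.X := fun k =>
      ⟨k.1 • zb + k.2 • s, add_mem (Submodule.smul_mem _ _ hzX) (Submodule.smul_mem _ _ hsX)⟩
    haveI := Fintype.ofFinite D'.X
    have hf : Function.Injective f := by
      rintro ⟨a, b⟩ ⟨a', b'⟩ e
      have e0 : a • zb + b • s = a' • zb + b' • s := congrArg Subtype.val e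
      have e' : (a - a') • zb + (b - b') • s = 0 := by rw [← sub_eq_zero] at e0; rw [← e0]; module
      have hb : b - b' = 0 := by
        by_contra hb
        refine hsR ?_
        have e2 : (b - b') • s = -((a - a') • zb) := eq_neg_of_add_eq_zero_right e'
        have : (b - b') • ((b - b') • s) ∈ h.Rw := by
          rw [e2]; exact Submodule.smul_mem _ _ (neg_mem (Submodule.smul_mem _ _ hzR))
        rwa [smul_smul, show (b - b') * (b - b') = 1 from by revert hb; generalize b - b' = k; revert k; decide,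
          one_smul] at this
      rw [hb, zero_smul, add_zero] at e'
      have ha := (smul_eq_zero.1 e').resolve_right hzb0
      rw [sub_eq_zero] at ha hb
      rw [ha, hb]
    intro v hv
    obtain ⟨⟨a, b⟩, hab⟩ := ((Fintype.bijective_iff_injective_and_card f).2 ⟨hf, by
      rw [← Nat.card_eq_fintype_card, ← Nat.card_eq_fintype_card, D'.card_X, Nat.card_prod, Nat.card_zmod]⟩).2 ⟨v, hv⟩
    rw [show v = a • zb + b • s from (congrArg Subtype.val hab).symm, map_add, map_smul, map_smul, hτz, hτs]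
  set x₀ := D'.psi (Data.E 0 0) r with hx₀
  set e₁ := D'.psi (Data.E 1 0) zb with he₁
  have hr : r = x₀ + e₁ := by
    have := (D'.decomp r).symm
    rwa [← hN, hNr] at this
  have hsmall : ∀ (M : M2), D'.psi M zb = M 0 0 • zb + M 1 0 • e₁ := by
    intro M
    conv_lhs => rw [← D'.mem_X.1 hzX, Data.psi_apply_psi]
    rw [show M * Data.E 0 0 = M 0 0 • Data.E 0 0 + M 1 0 • Data.E 1 0 by
      ext i j; fin_cases i <;> fin_cases j <;> simp [Data.E, mul_apply, Fin.sum_univ_two],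
      map_add, Data.psi_smul, Data.psi_smul, LinearMap.add_apply, LinearMap.smul_apply, LinearMap.smul_apply,
      D'.mem_X.1 hzX]
  obtain ⟨γ, hγ⟩ := hτR hrR
  have hτe : ∃ a b : ZMod 3, τ e₁ = a • zb + b • e₁ := by
    obtain ⟨c, hc⟩ := D'.surj ⟨!![1, 0; 1, 1], by decide⟩
    have e := D'.nact_act t htn c ⟨_, htC c.2⟩ rfl zb
    rw [D'.act_eq_psi, D'.act_eq_psi, hc, hsmall, ← hτ, hτz, hsmall] at e
    simp only [Matrix.cons_val', Matrix.cons_val_zero, Matrix.empty_val', Matrix.cons_val_fin_one,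
      Matrix.cons_val_one, one_smul, Matrix.of_apply, map_add, hτz] at e
    refine ⟨(D'.π ⟨_, htC c.2⟩).1 0 0 - 1, (D'.π ⟨_, htC c.2⟩).1 1 0, ?_⟩
    rw [sub_smul, one_smul, sub_add_eq_add_sub, ← e, add_sub_cancel_left]
  obtain ⟨a, b, hab⟩ := hτe
  have he10 : D'.psi (Data.E 0 0) e₁ = 0 := (D'.E_on_X hzX).2.2.2
  have hx₀z : x₀ = (a - γ) • zb := by
    rw [hr, map_add, hfix (D'.E_zero_mem 0 r), hab] at hγ
    have e2 := congrArg (D'.psi (Data.E 0 0)) hγ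
    simp only [map_add, map_smul, map_neg, D'.mem_X.1 hzX, D'.mem_X.1 (D'.E_zero_mem 0 r), he10, smul_zero,
      add_zero, neg_add_rev, neg_zero, zero_add] at e2
    have hxx : D'.psi (Data.E 0 0) x₀ = x₀ := D'.mem_X.1 (D'.E_zero_mem 0 r)
    rw [hxx, ← hx₀] at e2
    have h3 : x₀ + x₀ + x₀ = 0 := by
      have := D'.three_nsmul x₀
      rwa [succ_nsmul, two_nsmul] at this
    rw [← sub_eq_zero] at e2 ⊢
    linear_combination (norm := module) h3 - e2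
  have heR : e₁ ∈ h.Rw := by
    have := sub_mem hrR (Submodule.smul_mem _ (a - γ) hzR)
    rwa [hr, hx₀z, add_sub_cancel_left] at this
  obtain ⟨a', b', rfl⟩ := hRspan hw
  rw [hr, hx₀z, map_add, map_smul, map_smul, map_add, map_smul, he₁, Data.psi_apply_psi, hsmall, hsmall]
  exact add_mem (Submodule.smul_mem _ _ (add_mem (Submodule.smul_mem _ _ hzR) (Submodule.smul_mem _ _ heR)))
    (Submodule.smul_mem _ _ (add_mem (Submodule.smul_mem _ _
      (add_mem (Submodule.smul_mem _ _ hzR) (Submodule.smul_mem _ _ heR)))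
      (add_mem (Submodule.smul_mem _ _ hzR) (Submodule.smul_mem _ _ heR))))

/-- The intersection is normal in both centralisers. -/
theorem conj_R {c x : G} (hc : c ∈ D'.C) (hx : x ∈ D.Q ⊓ D'.Q) : c * x * c⁻¹ ∈ D.Q ⊓ D'.Q := by
  obtain ⟨q₀, hq₀Q, hq₀⟩ := h.card_R.2
  obtain ⟨a, ha⟩ := sl_conj_facts.2 _ (h.T_exp hq₀Q) hq₀
  have hl : Linked D (D'.twist a) := h
  obtain ⟨q, hqQ, hq⟩ : ∃ q : (D'.twist a).C, (q : G) ∈ D.Q ∧ (D'.twist a).π q = uU := by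
    rcases ha with ha | ha
    · exact ⟨q₀, hq₀Q, ha⟩
    · refine ⟨(q₀⁻¹ : D'.C), inv_mem hq₀Q, ?_⟩
      show a * D'.π q₀⁻¹ * a⁻¹ = uU
      rw [map_inv, ← inv_inv uU, ← ha]; group
  refine ⟨(hl.cl_mem_Rw (x := ⟨c * x * c⁻¹, (D'.twist a).conj_Q hc hx.2⟩)).1 ?_, D'.conj_Q hc hx.2⟩
  rw [show (D'.twist a).cl ⟨c * x * c⁻¹, (D'.twist a).conj_Q hc hx.2⟩ =
    (D'.twist a).act ⟨c, hc⟩ ((D'.twist a).cl ⟨x, hx.2⟩) from rfl, Data.act_eq_psi]
  exact hl.invariant_aux hqQ hq (hl.cl_mem_Rw.2 hx.1) _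

theorem conj_R' {c x : G} (hc : c ∈ D.C) (hx : x ∈ D.Q ⊓ D'.Q) : c * x * c⁻¹ ∈ D.Q ⊓ D'.Q := by
  have := h.symm.conj_R hc ⟨hx.2, hx.1⟩
  exact ⟨this.2, this.1⟩

end Linked

end Cfsg.Lib.LFourThree
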