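import Cfsg.Agent.Lib.LFourThree.ModelEFacts

/-!
# The centralizer of an element with two Jordan blocks
-/

set_option autoImplicit false
set_option linter.unusedSectionVars false
set_option linter.style.haveILetI false
set_option maxRecDepth 100000
set_option maxHeartbeats 4000000
set_option synthInstance.maxSize 2000
set_option synthInstance.maxHeartbeats 200000

namespace Cfsg.Lib.LFourThree

open Subgroup Matrix Cfsg.Lib.Recog.SingleBond
open Cfsg.Lib.Recog.ThreeCubedFour (Model InBase tab odd baseSub)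
open Cfsg.Lib.NineThree (lM model_closure)
open scoped MatrixGroups

/-- The matrices centralizing the element. -/
def mkL (ε : ZMod 3) (A W : M22) (h : det2 A * det2 A = 1) (he : ε * ε = 1) : SL43 :=
  ⟨!![A 0 0, A 0 1, W 0 0, ε * W 0 1; A 1 0, A 1 1, W 1 0, ε * W 1 1; 0, 0, A 0 0, ε * A 0 1; 0, 0, ε * A 1 0, A 1 1], by
    have e : Matrix.det !![A 0 0, A 0 1, W 0 0, ε * W 0 1; A 1 0, A 1 1, W 1 0, ε * W 1 1; 0, 0, A 0 0, ε * A 0 1;
        0, 0, ε * A 1 0, A 1 1] = det2 A * (A 0 0 * A 1 1 - (ε * ε) * (A 0 1 * A 1 0)) := by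
      simp [Matrix.det_succ_row_zero, Fin.sum_univ_succ, Fin.succAbove, det2]
      ring
    rw [e, he, one_mul]
    exact h⟩

theorem det2_mul (A B : M22) : det2 (A * B) = det2 A * det2 B := by
  simp [det2, Matrix.mul_apply, Fin.sum_univ_two]; ring

theorem det2_sq_mul {A B : M22} (hA : det2 A * det2 A = 1) (hB : det2 B * det2 B = 1) :
    det2 (A * B) * det2 (A * B) = 1 := by
  rw [det2_mul, mul_mul_mul_comm, hA, hB, one_mul]

variable {ε : ZMod 3}

theorem mkL_mul (he : ε * ε = 1) (A W A' W' : M22) (h : det2 A * det2 A = 1) (h' : det2 A' * det2 A' = 1) :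
    mkL ε A W h he * mkL ε A' W' h' he = mkL ε (A * A') (A * W' + W * A') (det2_sq_mul h h') he := by
  have k1 : ∀ t : ZMod 3, ε * (ε * t) = t := fun t => by rw [← mul_assoc, he, one_mul]
  refine Subtype.ext ?_
  show (_ : SL43).1 * (_ : SL43).1 = _
  ext i j
  fin_cases i <;> fin_cases j <;>
    simp [mkL, Matrix.mul_apply, Fin.sum_univ_four, Fin.sum_univ_two] <;> ring_nf <;>
    simp [show ε ^ 2 = 1 by rw [pow_two, he]] <;> ring

theorem mkL_congr (he : ε * ε = 1) {A W A' W' : M22} {h : det2 A * det2 A = 1} {h' : det2 A' * det2 A' = 1}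
    (e1 : A = A') (e2 : W = W') : mkL ε A W h he = mkL ε A' W' h' he := by
  subst e1 e2; rfl

theorem det2_neg (A : M22) : det2 (-A) = det2 A := by simp [det2]

theorem mkL_neg (he : ε * ε = 1) (A W : M22) (h : det2 A * det2 A = 1) :
    mkL ε (-A) (-W) (by rw [det2_neg]; exact h) he = mkL ε A W h he * nI := by
  refine Subtype.ext ?_
  show _ = (_ : SL43).1 * (_ : SL43).1
  ext i j
  fin_cases i <;> fin_cases j <;> simp [mkL, nI, Matrix.mul_apply, Fin.sum_univ_four]

theorem det2_one : det2 (1 : M22) * det2 (1 : M22) = 1 := by decide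

theorem mkL_zero (he : ε * ε = 1) : mkL ε 1 0 det2_one he = 1 := by
  refine Subtype.ext ?_
  ext i j
  fin_cases i <;> fin_cases j <;> simp [mkL]

/-- The element. -/
def eM (ε : ZMod 3) (he : ε * ε = 1) : SL43 := mkL ε 1 1 det2_one he

theorem eM_pow (he : ε * ε = 1) (k : ℕ) : eM ε he ^ k = mkL ε 1 ((k : ZMod 3) • 1) det2_one he := by
  induction k with
  | zero => rw [pow_zero, ← mkL_zero he]; exact mkL_congr he rfl (by simp)
  | succ k ih =>
    rw [pow_succ, ih, eM, mkL_mul]
    exact mkL_congr he (mul_one _) (by rw [one_mul, mul_one, Nat.cast_succ, add_smul, one_smul, add_comm])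

/-- The lift of an element of the model. -/
def modL (he : ε * ε = 1) (x : Model) : SL43 := mkL ε (lin x) (tra x) (lin_det x) he

theorem modL_gen (he : ε * ε = 1) (x : Model) {g : ℕ} (hg : g ∈ [0, 1, 2, 4, 5, 6, 7]) :
    modL he (x * lM g) = modL he x * modL he (lM g) ∨ modL he (x * lM g) = modL he x * modL he (lM g) * nI := by
  rw [modL, modL, modL, mkL_mul]
  rcases lin_tra_gen x g hg with ⟨e1, e2⟩ | ⟨e1, e2⟩
  · exact Or.inl (mkL_congr he e1 e2)
  · refine Or.inr ?_
    rw [← mkL_neg]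
    exact mkL_congr he e1 e2

theorem modL_one (he : ε * ε = 1) : modL he 1 = 1 := by
  rw [← mkL_zero he]
  exact mkL_congr he lin_tra_one.1 lin_tra_one.2

/-- The matrices centralizing the element have the shape of a lift. -/
theorem cent_shape (he : ε * ε = 1) (h : SL43) (hc : h * eM ε he = eM ε he * h) :
    ∃ A W, ∃ hA : det2 A * det2 A = 1, h = mkL ε A W hA he := by
  have hm : ∀ i j, (h.1 * (eM ε he).1) i j = ((eM ε he).1 * h.1) i j := fun i j => by
    exact congrArg (fun M : SL43 => M.1 i j) hc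
  have a00 := hm 0 0; have a01 := hm 0 1; have a10 := hm 1 0; have a11 := hm 1 1
  have a02 := hm 0 2; have a03 := hm 0 3; have a12 := hm 1 2; have a13 := hm 1 3
  simp [eM, mkL, Matrix.mul_apply, Fin.sum_univ_four] at a00 a01 a10 a11 a02 a03 a12 a13
  have hε : ε ≠ 0 := fun e => by rw [e, mul_zero] at he; exact zero_ne_one he
  have s1 : h.1 2 0 = 0 := by simpa using a00
  have s2 : h.1 2 1 = 0 := by simpa using a01
  have s3 : h.1 3 0 = 0 := by simpa [hε] using a10
  have s4 : h.1 3 1 = 0 := by simpa [hε] using a11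
  have t1 : h.1 2 2 = h.1 0 0 := by linear_combination -a02
  have t2 : h.1 2 3 = ε * h.1 0 1 := by linear_combination -a03
  have t3 : h.1 3 2 = ε * h.1 1 0 := by
    have : h.1 1 0 = ε * h.1 3 2 := by linear_combination a12
    rw [this, ← mul_assoc, he, one_mul]
  have t4 : h.1 3 3 = h.1 1 1 := by
    have : ε * h.1 3 3 = ε * h.1 1 1 := by linear_combination -a13
    exact mul_left_cancel₀ hε this
  have hd := h.2
  have key : ∀ m : Matrix (Fin 4) (Fin 4) (ZMod 3), m 2 0 = 0 → m 2 1 = 0 → m 3 0 = 0 → m 3 1 = 0 →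
      m 2 2 = m 0 0 → m 2 3 = ε * m 0 1 → m 3 2 = ε * m 1 0 → m 3 3 = m 1 1 →
      m.det = (m 0 0 * m 1 1 - m 0 1 * m 1 0) * (m 0 0 * m 1 1 - (ε * ε) * (m 0 1 * m 1 0)) := by
    intro m q1 q2 q3 q4 r1 r2 r3 r4
    simp [Matrix.det_succ_row_zero, Fin.sum_univ_succ, Fin.succAbove, q1, q2, q3, q4, r1, r2, r3, r4]
    ring
  have e : h.1.det = (h.1 0 0 * h.1 1 1 - h.1 0 1 * h.1 1 0) * (h.1 0 0 * h.1 1 1 - (ε * ε) * (h.1 0 1 * h.1 1 0)) :=
    key h.1 s1 s2 s3 s4 t1 t2 t3 t4
  rw [e, he, one_mul] at hd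
  refine ⟨!![h.1 0 0, h.1 0 1; h.1 1 0, h.1 1 1], !![h.1 0 2, ε * h.1 0 3; h.1 1 2, ε * h.1 1 3],
    by simpa [det2] using hd, Subtype.ext ?_⟩
  ext i j
  fin_cases i <;> fin_cases j <;> simp [mkL, s1, s2, s3, s4, t1, t2, t3, t4, ← mul_assoc, he]

theorem cent_cover (he : ε * ε = 1) (h : SL43) (hc : h * eM ε he = eM ε he * h) :
    ∃ x y : Model, ∃ k : ℕ, InBase y ∧
      (h = modL he x * modL he y * eM ε he ^ k ∨ h = modL he x * modL he y * eM ε he ^ k * nI) := by
  obtain ⟨A, W, hA, rfl⟩ := cent_shape he h hc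
  have hA0 : det2 A ≠ 0 := fun e => by rw [e, mul_zero] at hA; exact zero_ne_one hA
  obtain ⟨x, hx⟩ := lin_surj A hA0
  have hxe : modL he x * eM ε he = eM ε he * modL he x := by
    rw [modL, eM, mkL_mul, mkL_mul]
    exact mkL_congr he (by rw [mul_one, one_mul]) (by simp [add_comm])
  obtain ⟨A', W', hA', e'⟩ := cent_shape he ((modL he x)⁻¹ * mkL ε A W hA he) ((show Commute (eM ε he) (modL he x) from hxe.symm).inv_right.mul_right (Eq.symm hc)).eq.symm
  have e'' : mkL ε A W hA he = modL he x * mkL ε A' W' hA' he := by rw [← e', mul_inv_cancel_left]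
  rw [modL, mkL_mul] at e''
  have e1 : A = lin x * A' := by
    have : ∀ i j : Fin 2, A i j = (lin x * A') i j := by
      intro i j
      have := congrArg (fun M : SL43 => M.1 (Fin.castLE (by omega) i) (Fin.castLE (by omega) j)) e''
      fin_cases i <;> fin_cases j <;> simpa [mkL] using this
    exact Matrix.ext this
  have hA'1 : A' = 1 ∨ A' = -1 := by
    rcases hx with e | e
    · exact Or.inl (aTab_left _ _ (e1.symm.trans e))
    · exact Or.inr (aTab_left_neg _ _ (e1.symm.trans e))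
  have hkey : ∀ W₀ : M22, ∃ y : Model, ∃ k : ℕ, InBase y ∧ mkL ε 1 W₀ det2_one he = modL he y * eM ε he ^ k := by
    intro W₀
    obtain ⟨y, hy, hy1, k, hk⟩ := tra_base W₀
    refine ⟨y, k.val, hy, ?_⟩
    rw [modL, eM_pow, mkL_mul]
    exact mkL_congr he (by rw [hy1, one_mul]) (by rw [hy1, hk, ZMod.natCast_zmod_val, one_mul, mul_one, add_comm])
  have e3 : mkL ε A W hA he = modL he x * mkL ε A' W' hA' he := by rw [modL, mkL_mul]; exact e''
  rcases hA'1 with rfl | rfl
  · obtain ⟨y, k, hy, hk⟩ := hkey W'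
    exact ⟨x, y, k, hy, Or.inl (by rw [e3, mul_assoc, ← hk])⟩
  · obtain ⟨y, k, hy, hk⟩ := hkey (-W')
    refine ⟨x, y, k, hy, Or.inr ?_⟩
    rw [e3, mul_assoc, mul_assoc, ← mul_assoc (modL he y), ← hk, ← mkL_neg]
    congr 1
    exact mkL_congr he rfl (neg_neg _).symm

theorem gen_closure : Subgroup.closure (lM '' {g | g ∈ [0, 1, 2, 4, 5, 6, 7]}) = ⊤ := by
  rw [eq_top_iff, ← model_closure, Subgroup.closure_le]
  rintro _ ⟨g, hg, rfl⟩
  by_cases h3 : g = 3
  · subst h3; exact one_mem _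
  · exact Subgroup.subset_closure ⟨g, by simp at hg ⊢; omega, rfl⟩

/-- A map to a group trivial on the central involution respects products. -/
theorem modL_hom {H : Type*} [Group H] (he : ε * ε = 1) (f : SL43 →* H) (hn : f nI = 1) (x y : Model) :
    f (modL he (x * y)) = f (modL he x) * f (modL he y) := by
  let S : Set Model := {y | ∀ x, f (modL he (x * y)) = f (modL he x) * f (modL he y)}
  have hgen : ∀ g ∈ [0, 1, 2, 4, 5, 6, 7], lM g ∈ S := by
    intro g hg x
    rcases modL_gen he x hg with e | e <;> simp [e, hn]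
  have hall : ∀ y : Model, y ∈ S := by
    let M : Submonoid Model :=
      { carrier := S
        one_mem' := fun x => by rw [mul_one, modL_one, map_one, mul_one]
        mul_mem' := fun {a b} ha hb x => by
          rw [← mul_assoc, hb, ha, hb, mul_assoc] }
    intro y
    let K : Subgroup Model :=
      { M with
        inv_mem' := fun {a} ha => by
          have e : a⁻¹ = a ^ (orderOf a - 1) := inv_eq_of_mul_eq_one_right (by
            rw [← pow_succ', Nat.sub_add_cancel (orderOf_pos a), pow_orderOf_eq_one])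
          rw [e]; exact M.pow_mem ha _ }
    have hle : Subgroup.closure (lM '' {g | g ∈ [0, 1, 2, 4, 5, 6, 7]}) ≤ K := by
      rw [Subgroup.closure_le]
      rintro _ ⟨g, hg, rfl⟩
      exact hgen g hg
    exact hle (gen_closure ▸ Subgroup.mem_top y)
  exact hall y x

end Cfsg.Lib.LFourThree
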