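import Cfsg.Agent.Lib.LFourThree.Model
import Cfsg.Agent.Lib.NineThree.Main

/-!
# The centralizer of an element with two Jordan blocks
-/

set_option autoImplicit false
set_option linter.unusedSectionVars false
set_option linter.style.haveILetI false
set_option maxRecDepth 100000
set_option maxHeartbeats 4000000
set_option synthInstance.maxSize 2000
set_option synthInstance.maxHeartbeats 200000

namespace Cfsg.Lib.LFourThree

open Subgroup Matrix Cfsg.Lib.Recog.SingleBond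
open Cfsg.Lib.Recog.ThreeCubedFour (Model InBase tab odd baseSub)
open Cfsg.Lib.NineThree (lM model_closure)
open scoped MatrixGroups

/-- Two by two matrices over three elements. -/
abbrev M22 : Type := Matrix (Fin 2) (Fin 2) (ZMod 3)

/-- Lifts of signed permutations of the quaternion units. -/
def aTab : Fin 48 → M22 :=
  ![!![1, 0; 0, 1], !![1, 0; 0, 1], !![1, 0; 0, 1], !![0, 1; 2, 0], !![1, 0; 0, 1], !![1, 1; 1, 2],
    !![1, 2; 2, 2], !![1, 0; 0, 1], !![1, 0; 0, 1], !![1, 1; 2, 1], !![1, 2; 1, 1], !![1, 0; 0, 1],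
    !![1, 0; 0, 2], !![1, 0; 0, 1], !![1, 0; 0, 1], !![0, 1; 1, 0], !![1, 0; 0, 1], !![1, 2; 0, 2],
    !![1, 1; 1, 0], !![1, 0; 0, 1], !![0, 1; 1, 2], !![1, 0; 0, 1], !![1, 0; 0, 1], !![1, 0; 2, 2],
    !![0, 1; 2, 2], !![1, 0; 0, 1], !![1, 0; 0, 1], !![1, 0; 2, 1], !![1, 0; 0, 1], !![1, 2; 1, 0],
    !![1, 1; 0, 1], !![1, 0; 0, 1], !![1, 1; 2, 0], !![1, 0; 0, 1], !![1, 0; 0, 1], !![1, 2; 0, 1],
    !![1, 0; 0, 1], !![1, 0; 1, 1], !![0, 1; 2, 1], !![1, 0; 0, 1], !![1, 0; 0, 1], !![0, 1; 1, 1],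
    !![1, 0; 1, 2], !![1, 0; 0, 1], !![1, 2; 2, 0], !![1, 0; 0, 1], !![1, 0; 0, 1], !![1, 1; 0, 2]]

/-- The index of the signed permutation. -/
def codeOf (x : Model) : Fin 48 :=
  ⟨8 * x.1.p.val + 4 * (odd x.1.a).toNat + 2 * (odd x.1.b).toNat + (odd x.1.c).toNat, by
    have := x.1.p.isLt
    have := Bool.toNat_le (odd x.1.a)
    have := Bool.toNat_le (odd x.1.b)
    have := Bool.toNat_le (odd x.1.c)
    omega⟩

/-- The linear part. -/
def lin (x : Model) : M22 := aTab (codeOf x)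

/-- The quaternion units. -/
def unitQ : Fin 3 → M22 := ![!![0, 1; 2, 0], !![1, 1; 1, 2], !![1, 2; 2, 2]]

/-- The translation part. -/
def tra (x : Model) : M22 :=
  (((tab (x.1.comp 0) 0).val : ZMod 3) • unitQ (tab x.1.p 0) + ((tab (x.1.comp 1) 0).val : ZMod 3) • unitQ (tab x.1.p 1) +
    ((tab (x.1.comp 2) 0).val : ZMod 3) • unitQ (tab x.1.p 2)) * lin x

/-- The determinant. -/
def det2 (A : M22) : ZMod 3 := A 0 0 * A 1 1 - A 0 1 * A 1 0

theorem aTab_det : ∀ c, det2 (aTab c) * det2 (aTab c) = 1 := by decide +kernel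

theorem aTab_left : ∀ c, ∀ B : M22, aTab c * B = aTab c → B = 1 := by decide +kernel

theorem aTab_left_neg : ∀ c, ∀ B : M22, aTab c * B = -aTab c → B = -1 := by decide +kernel

theorem lin_surj : ∀ A : M22, det2 A ≠ 0 → ∃ x : Model, A = lin x ∨ A = -lin x := by decide +kernel

theorem tra_base : ∀ W : M22, ∃ x : Model, InBase x ∧ lin x = 1 ∧ ∃ k : ZMod 3, W = tra x + k • (1 : M22) := by
  decide +kernel

theorem lin_tra_one : lin 1 = 1 ∧ tra 1 = 0 := by decide +kernel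

/-- The product of pairs. -/
theorem lin_tra_gen : ∀ x : Model, ∀ g ∈ [0, 1, 2, 4, 5, 6, 7],
    (lin (x * lM g) = lin x * lin (lM g) ∧ tra (x * lM g) = lin x * tra (lM g) + tra x * lin (lM g)) ∨
    (lin (x * lM g) = -(lin x * lin (lM g)) ∧ tra (x * lM g) = -(lin x * tra (lM g) + tra x * lin (lM g))) := by
  decide +kernel

theorem kernel_trivial : ∀ x : Model, (lin x = 1 ∨ lin x = -1) →
    (∃ k : ZMod 3, tra x = k • (1 : M22)) → x = 1 := by
  decide +kernel

theorem lin_det (x : Model) : det2 (lin x) * det2 (lin x) = 1 := aTab_det _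

end Cfsg.Lib.LFourThree
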