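import Cfsg.Agent.Lib.LFourThree.Plane
import Cfsg.Agent.Lib.Linear.SLBasic
import Cfsg.Agent.Lib.Solv.GaschutzAbelian
import Cfsg.Agent.Lib.Coprime.Conjugacy
import Cfsg.Agent.Lib.Recog.SingleBond.SLEmb

/-!
# The normaliser of the plane is `3^3 : SL(3,3)`
-/

set_option autoImplicit false
set_option linter.unusedSectionVars false
set_option linter.style.haveILetI false

namespace Cfsg.Lib.LFourThree

open Subgroup Cfsg.Lib.PSpThree Matrix
open scoped Pointwise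

universe u

variable {G : Type*} [Group G]

/-- The special linear group of degree three over the field with three elements. -/
abbrev SL33 : Type := Matrix.SpecialLinearGroup (Fin 3) (ZMod 3)

theorem card_SL33 : Nat.card SL33 = 5616 := by
  have h := Cfsg.Lib.Linear.card_SL_mul (F := ZMod 3) 3 (by norm_num)
  rw [Fin.prod_univ_three] at h
  simp only [ZMod.card, Fin.val_zero, Fin.val_one, Fin.val_two] at h
  simp only [SL33]
  omega

theorem tS_cube : ∀ (i j : Fin 3) (c : ZMod 3), i ≠ j → (Cfsg.Lib.Recog.SingleBond.tS i j c : SL33) ^ 3 = 1 := by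
  decide +kernel

theorem sl_trans : ∀ u v : Fin 2 → ZMod 3, u ≠ 0 → v ≠ 0 → ∃ A : SL23, A.1 *ᵥ u = v := by decide +kernel

theorem sl_fix : ∀ A : SL23, A.1 *ᵥ ![1, 0] = ![1, 0] → A.1 *ᵥ ![0, 1] = ![0, 1] → A = 1 := by decide +kernel

/-- An involution over the central element and a commuting element of order three outside `Q`. -/
structure Tor (D : Data G) where
  /-- The involution. -/
  t : G
  ht : t ∈ D.C
  t2 : t * t = 1
  tp : D.π ⟨t, ht⟩ = -1
  /-- The element of order three. -/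
  s : G
  hs : s ∈ D.C
  s3 : s ^ 3 = 1
  sp : D.π ⟨s, hs⟩ ≠ 1
  st : t * s = s * t

namespace Data

variable (D : Data G) (T : Tor D)

theorem inverted_unique {x x' : D.Q} (h : D.cl x = D.cl x') (hx : T.t * (x : G) * T.t⁻¹ = (x : G)⁻¹)
    (hx' : T.t * (x' : G) * T.t⁻¹ = (x' : G)⁻¹) : x = x' := by
  have hk := D.cl_eq_iff.1 h
  set k := (x : G)⁻¹ * x' with hkdef
  have e1 := D.zp_central hk T.ht
  have e2 : T.t * k * T.t⁻¹ = (x : G) * (x' : G)⁻¹ := by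
    rw [hkdef, show T.t * ((x : G)⁻¹ * x') * T.t⁻¹ = (T.t * (x : G) * T.t⁻¹)⁻¹ * (T.t * x' * T.t⁻¹) by group, hx, hx',
      inv_inv]
  have e4 : (x' : G)⁻¹ = (k⁻¹) * (x : G)⁻¹ := by rw [hkdef]; group
  have e5 : (x : G) * k⁻¹ = k⁻¹ * x := mul_inv_eq_iff_eq_mul.1 (D.zp_central (inv_mem hk) (D.Q_le x.2))
  rw [e1, e4, ← mul_assoc, e5, mul_inv_cancel_right] at e2
  have e6 : k * k = 1 := by nth_rw 1 [e2]; rw [inv_mul_cancel]
  have h3 := D.Q_exp _ (D.zp_le_Q hk)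
  rw [pow_succ, pow_two, e6, one_mul] at h3
  exact Subtype.ext (inv_mul_eq_one.1 h3)

theorem inverted_exists (w : D.W) : ∃ x : D.Q, D.cl x = w ∧ T.t * (x : G) * T.t⁻¹ = (x : G)⁻¹ := by
  obtain ⟨x, rfl⟩ := D.cl_surj w
  set k := T.t * (x : G) * T.t⁻¹ * x with hk
  have hkz : k ∈ zpowers D.z := D.inv ⟨T.t, T.ht⟩ T.tp _ x.2
  refine ⟨⟨x * k, mul_mem x.2 (D.zp_le_Q hkz)⟩, ?_, ?_⟩
  · rw [cl_eq_iff]; simpa using inv_mem hkz
  · show T.t * ((x : G) * k) * T.t⁻¹ = ((x : G) * k)⁻¹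
    have c1 := D.zp_central hkz T.ht
    have c2 : (x : G)⁻¹ * k = k * (x : G)⁻¹ :=
      mul_inv_eq_iff_eq_mul.1 (D.zp_central hkz (inv_mem (D.Q_le x.2)))
    have h3 := D.Q_exp _ (D.zp_le_Q hkz)
    rw [show T.t * ((x : G) * k) * T.t⁻¹ = (T.t * x * T.t⁻¹ * x) * (x : G)⁻¹ * (T.t * k * T.t⁻¹) by group, c1,
      ← hk, mul_assoc, c2, _root_.mul_inv_rev]
    rw [show k⁻¹ = k * k from inv_eq_of_mul_eq_one_right (by rw [← mul_assoc, ← pow_two, ← pow_succ]; exact h3)]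
    group

/-- The inverted lift. -/
noncomputable def il (w : D.W) : G := (D.inverted_exists T w).choose

theorem il_mem (w : D.W) : D.il T w ∈ D.Q := (D.inverted_exists T w).choose.2

theorem cl_il (w : D.W) : D.cl ⟨D.il T w, D.il_mem T w⟩ = w := (D.inverted_exists T w).choose_spec.1

theorem il_inv (w : D.W) : T.t * D.il T w * T.t⁻¹ = (D.il T w)⁻¹ := (D.inverted_exists T w).choose_spec.2

theorem il_eq {x : D.Q} (h : T.t * (x : G) * T.t⁻¹ = (x : G)⁻¹) : D.il T (D.cl x) = x :=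
  congrArg Subtype.val (D.inverted_unique T (D.cl_il T _) (D.il_inv T _) h)

theorem il_zero : D.il T 0 = 1 := D.il_eq T (x := 1) (by simp)

theorem il_conj {g : G} (hg : g ∈ D.C) (hgt : T.t * g = g * T.t) (w : D.W) :
    g * D.il T w * g⁻¹ = D.il T (D.act ⟨g, hg⟩ w) := by
  have e := D.cl_il T w
  conv_rhs => rw [← e, act_cl]
  refine (D.il_eq T (x := ⟨g * D.il T w * g⁻¹, D.conj_Q hg (D.il_mem T w)⟩) ?_).symm
  show T.t * (g * D.il T w * g⁻¹) * T.t⁻¹ = (g * D.il T w * g⁻¹)⁻¹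
  rw [show T.t * (g * D.il T w * g⁻¹) * T.t⁻¹ = (T.t * g) * D.il T w * (T.t * g)⁻¹ by group, hgt,
    show g * T.t * D.il T w * (g * T.t)⁻¹ = g * (T.t * D.il T w * T.t⁻¹) * g⁻¹ by group, il_inv]
  group

end Data

namespace Fr

variable [Finite G] (F : Fr G)

theorem C_trans {x x' : G} (hx : x ∈ F.V1) (hxz : x ∉ zpowers F.z) (hx' : x' ∈ F.V1) (hxz' : x' ∉ zpowers F.z) :
    ∃ g ∈ F.D.C, g * x * g⁻¹ = x' := by
  obtain ⟨hxQ, u, hu⟩ := hx
  obtain ⟨hxQ', u', hu'⟩ := hx'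
  have h0 : u ≠ 0 := fun h => hxz ((F.D.cl_eq_zero (x := ⟨x, hxQ⟩)).1 (by rw [hu, h, map_zero]))
  have h0' : u' ≠ 0 := fun h => hxz' ((F.D.cl_eq_zero (x := ⟨x', hxQ'⟩)).1 (by rw [hu', h, map_zero]))
  obtain ⟨A, hA⟩ := sl_trans u u' h0 h0'
  obtain ⟨g, hg⟩ := F.D.surj A
  have e : F.D.cl ⟨(g : G) * x * (g : G)⁻¹, F.D.conj_Q g.2 hxQ⟩ = F.D.cl ⟨x', hxQ'⟩ := by
    rw [← F.D.act_cl g ⟨x, hxQ⟩, hu, F.D.act_eq_psi, hg, F.D.psi_emb F.hc, hA, hu']
  have hk : ((g : G) * x * (g : G)⁻¹)⁻¹ * x' ∈ zpowers F.z := F.D.cl_eq_iff.1 e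
  have hyz : (g : G) * x * (g : G)⁻¹ ∉ zpowers F.z := fun h => hxz' (by
    have := mul_mem h hk; rwa [mul_inv_cancel_left] at this)
  obtain ⟨q, hq, hqe⟩ := F.D.exists_commutator (F.D.conj_Q g.2 hxQ) hyz hk
  refine ⟨q * g, mul_mem (F.D.Q_le hq) g.2, ?_⟩
  set y := (g : G) * x * (g : G)⁻¹ with hy
  have hc : y * (y⁻¹ * x') = (y⁻¹ * x') * y :=
    mul_inv_eq_iff_eq_mul.1 (F.D.zp_central hk (F.D.Q_le (F.D.conj_Q g.2 hxQ)))
  calc q * (g : G) * x * (q * (g : G))⁻¹ = (q * y * q⁻¹ * y⁻¹) * y := by rw [hy]; group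
    _ = x' := by rw [hqe, ← hc, mul_inv_cancel_left]

/-- The normaliser of the plane. -/
abbrev N : Subgroup G := normalizer (F.V1 : Set G)

theorem mem_N {g : G} (h : ∀ x ∈ F.V1, g * x * g⁻¹ ∈ F.V1) : g ∈ F.N := by
  refine mem_normalizer_iff.2 fun x => ⟨fun hx => h x hx, fun hx => ?_⟩
  have hmap : F.V1.map (MulAut.conj g).toMonoidHom = F.V1 := by
    refine eq_of_le_of_card_ge ?_ (by rw [Subgroup.card_map_of_injective (MulAut.conj g).injective])
    rintro _ ⟨y, hy, rfl⟩; exact h y hy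
  have hx' : g * x * g⁻¹ ∈ F.V1.map (MulAut.conj g).toMonoidHom := hmap.symm ▸ hx
  obtain ⟨y, hy, e⟩ := hx'
  have : y = x := (MulAut.conj g).injective e
  exact this ▸ hy

theorem C_le_N : F.D.C ≤ F.N := fun g hg => F.mem_N fun x hx => F.isPlane_V1.conj g hg x hx

theorem C'_le_N : F.D'.C ≤ F.N := fun g hg => F.mem_N fun x hx => by
  rw [V1, F.R_eq] at hx ⊢
  exact F.link.conj_R hg hx

theorem V1_le_N : F.V1 ≤ F.N := le_normalizer

theorem conj_N {g x : G} (hg : g ∈ F.N) (hx : x ∈ F.V1) : g * x * g⁻¹ ∈ F.V1 := (mem_normalizer_iff.1 hg x).1 hx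

theorem N_trans {x : G} (hx : x ∈ F.V1) (h1 : x ≠ 1) : ∃ g ∈ F.N, g * F.z * g⁻¹ = x := by
  obtain ⟨F', hD, hV⟩ : ∃ F' : Fr G, F'.D = F.D' ∧ F'.V1 = F.V1 := by
    obtain ⟨F', h1, h2⟩ := exists_fr (D := F.D') (D' := F.D) F.link.symm (by
      obtain ⟨g, h | h⟩ := F.pure'
      · exact ⟨g⁻¹, Or.inl (by rw [← h]; group)⟩
      · exact ⟨g⁻¹, Or.inr (by rw [← h]; group)⟩)
    refine ⟨F', h1, ?_⟩
    show F'.D.pl F'.c = F.D.pl F.c
    rw [F'.R_eq, h1, h2, F.R_eq, inf_comm]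
  have hyV : F.D'.z ∈ F.V1 := by rw [V1, F.R_eq]; exact F.link.z'_mem
  have hzV : F.z ∈ F.V1 := F.isPlane_V1.z_mem
  set x' := F.z * F.D'.z with hx'
  have hx'V : x' ∈ F.V1 := mul_mem hzV hyV
  have hx'z : x' ∉ zpowers F.z := fun h => F.link.2 (by
    have := mul_mem (inv_mem (mem_zpowers F.z)) h
    rwa [hx', inv_mul_cancel_left] at this)
  have hx'y : x' ∉ zpowers F.D'.z := fun h => F.link.symm.2 (by
    have := mul_mem h (inv_mem (mem_zpowers F.D'.z))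
    rwa [hx', mul_inv_cancel_right] at this)
  have hzy : ∀ w ∈ zpowers F.z, w ≠ 1 → ∃ g ∈ F.N, g * w * g⁻¹ = x' := by
    intro w hw hw1
    have hw' : w ∈ F.V1 := F.D.zp_le_pl _ hw
    have hwy : w ∉ zpowers F.D'.z := fun h => hw1 (F.link.zp_inf hw h)
    obtain ⟨g, hg, e⟩ := F'.C_trans (hV ▸ hw') (by rw [z, hD]; exact hwy) (hV ▸ hx'V) (by rw [z, hD]; exact hx'y)
    exact ⟨g, F.C'_le_N (by rw [hD] at hg; exact hg), e⟩
  obtain ⟨g, hg, hgx⟩ := hzy F.z (mem_zpowers _) F.D.z_ne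
  obtain ⟨g', hg', hgx'⟩ : ∃ g ∈ F.N, g * x * g⁻¹ = x' := by
    by_cases hxz : x ∈ zpowers F.z
    · exact hzy x hxz h1
    · obtain ⟨g, hg, e⟩ := F.C_trans hx hxz hx'V hx'z
      exact ⟨g, F.C_le_N hg, e⟩
  refine ⟨g'⁻¹ * g, mul_mem (inv_mem hg') hg, ?_⟩
  calc g'⁻¹ * g * F.z * (g'⁻¹ * g)⁻¹ = g'⁻¹ * (g * F.z * g⁻¹) * g' := by group
    _ = x := by rw [hgx, ← hgx']; group

theorem pure_V1 {x : G} (hx : x ∈ F.V1) (h1 : x ≠ 1) : F.D.Pure x := by
  obtain ⟨g, -, e⟩ := F.N_trans hx h1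
  exact ⟨g, Or.inl e⟩

theorem card_N : Nat.card F.N = 151632 := by
  have hidx : (F.D.C.subgroupOf F.N).index = 26 := by
    rw [Subgroup.index_eq_card]
    have hf : ∀ g : F.N, (g : G) * F.z * (g : G)⁻¹ ∈ F.V1 ∧ (g : G) * F.z * (g : G)⁻¹ ≠ 1 := fun g =>
      ⟨F.conj_N g.2 F.isPlane_V1.z_mem, fun h => F.D.z_ne (conj_eq_one_iff.1 h)⟩
    let f : F.N ⧸ F.D.C.subgroupOf F.N → {x : F.V1 // x ≠ 1} :=
      Quotient.lift (fun g : F.N => ⟨⟨_, (hf g).1⟩, fun e => (hf g).2 (congrArg Subtype.val e)⟩) fun a b hab' => by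
        have hab : (a : G)⁻¹ * b ∈ F.D.C := mem_subgroupOf.1 (QuotientGroup.leftRel_apply.1 hab')
        refine Subtype.ext (Subtype.ext ?_)
        show (a : G) * F.z * (a : G)⁻¹ = (b : G) * F.z * (b : G)⁻¹
        have e := F.D.comm_z hab
        calc (a : G) * F.z * (a : G)⁻¹ = (a : G) * (F.z * ((a : G)⁻¹ * b)) * (b : G)⁻¹ := by group
          _ = (b : G) * F.z * (b : G)⁻¹ := by
            rw [show F.z * ((a : G)⁻¹ * b) = (a : G)⁻¹ * b * F.z from e.symm]; group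
    rw [Nat.card_eq_of_bijective f ⟨?_, ?_⟩]
    · haveI : Finite F.V1 := inferInstance
      haveI := Fintype.ofFinite F.V1
      classical
      rw [Nat.card_eq_fintype_card, Fintype.card_subtype_compl, Fintype.card_subtype_eq, ← Nat.card_eq_fintype_card,
        F.isPlane_V1.card]
    · intro p q
      induction p using Quotient.inductionOn with
      | h a => induction q using Quotient.inductionOn with
        | h b =>
          intro e
          have e' : (a : G) * F.z * (a : G)⁻¹ = (b : G) * F.z * (b : G)⁻¹ :=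
            congrArg (fun w : {x : F.V1 // x ≠ 1} => ((w : F.V1) : G)) e
          refine Quotient.sound (QuotientGroup.leftRel_apply.2 (mem_subgroupOf.2 (F.D.mem_C.2 ?_)))
          show (a : G)⁻¹ * b * F.z = F.z * ((a : G)⁻¹ * b)
          calc (a : G)⁻¹ * b * F.z = (a : G)⁻¹ * ((b : G) * F.z * (b : G)⁻¹) * b := by group
            _ = F.z * ((a : G)⁻¹ * b) := by rw [← e']; group
    · rintro ⟨⟨x, hx⟩, hx1⟩
      obtain ⟨g, hg, e⟩ := F.N_trans hx fun h => hx1 (Subtype.ext h)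
      exact ⟨QuotientGroup.mk ⟨g, hg⟩, Subtype.ext (Subtype.ext e)⟩
  have h := card_mul_index (F.D.C.subgroupOf F.N)
  rw [Nat.card_congr (subgroupOfEquivOfLe F.C_le_N).toEquiv, F.D.card_C, hidx] at h
  exact h.symm

theorem cent_V1 {x : G} (h : ∀ v ∈ F.V1, x * v = v * x) : x ∈ F.V1 := by
  have hxC : x ∈ F.D.C := F.D.mem_C.2 (h _ F.isPlane_V1.z_mem)
  have hfix : ∀ u, F.D.emb F.c ((F.D.π ⟨x, hxC⟩).1 *ᵥ u) = F.D.emb F.c u := by
    intro u
    obtain ⟨v, hv⟩ := F.D.cl_surj (F.D.emb F.c u)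
    have hvV : (v : G) ∈ F.V1 := F.D.cl_pl.2 ⟨u, hv⟩
    rw [← F.D.psi_emb F.hc, ← F.D.act_eq_psi, ← hv, Data.act_cl]
    exact congrArg F.D.cl (Subtype.ext (by
      show x * (v : G) * x⁻¹ = v
      rw [h _ hvV, mul_inv_cancel_right]))
  have hA := sl_fix _ (F.D.emb_injective F.hc F.c_ne (hfix _)) (F.D.emb_injective F.hc F.c_ne (hfix _))
  have hxQ : x ∈ F.D.Q := (F.D.ker _).1 hA
  refine (F.D.cl_pl (x := ⟨x, hxQ⟩)).2 ?_
  obtain ⟨u, v, huv⟩ := F.coords (F.D.cl ⟨x, hxQ⟩)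
  have key : ∀ p : Fin 2 → ZMod 3, v 0 * p 1 - v 1 * p 0 = 0 := by
    intro p
    obtain ⟨w, hw⟩ := F.D.cl_surj (F.D.emb F.c p)
    have hc := (F.D.b_eq_zero (x := ⟨x, hxQ⟩) (y := w)).2 (h _ (F.D.cl_pl.2 ⟨p, hw⟩))
    rw [huv, hw, map_add, LinearMap.add_apply, F.D.b_emb F.hc F.hc, F.D.b_emb F.hd F.hc, F.cc, F.dc, mul_zero,
      zero_add, mul_one] at hc
    exact hc
  have h0 := key ![1, 0]
  have h1 := key ![0, 1]
  simp at h0 h1
  refine ⟨u, ?_⟩
  rw [huv, show v = 0 by funext i; fin_cases i <;> simp [h0, h1], map_zero, add_zero]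

variable (T : Tor F.D)

theorem il_emb_mem (u : Fin 2 → ZMod 3) : F.D.il T (F.D.emb F.c u) ∈ F.V1 :=
  (F.D.cl_pl (x := ⟨_, F.D.il_mem T _⟩)).2 ⟨u, F.D.cl_il T _⟩

theorem il_emb_add (u v : Fin 2 → ZMod 3) :
    F.D.il T (F.D.emb F.c (u + v)) = F.D.il T (F.D.emb F.c u) * F.D.il T (F.D.emb F.c v) := by
  set x := F.D.il T (F.D.emb F.c u)
  set y := F.D.il T (F.D.emb F.c v)
  have hx := F.D.il_mem T (F.D.emb F.c u)
  have hy := F.D.il_mem T (F.D.emb F.c v)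
  have e := F.D.il_eq T (x := ⟨x * y, mul_mem hx hy⟩) (by
    show T.t * (x * y) * T.t⁻¹ = (x * y)⁻¹
    rw [show T.t * (x * y) * T.t⁻¹ = (T.t * x * T.t⁻¹) * (T.t * y * T.t⁻¹) by group, F.D.il_inv, F.D.il_inv,
      _root_.mul_inv_rev]
    exact F.isPlane_V1.comm _ (inv_mem (F.il_emb_mem T u)) _ (inv_mem (F.il_emb_mem T v)))
  rw [show F.D.cl ⟨x * y, mul_mem hx hy⟩ = F.D.cl ⟨x, hx⟩ + F.D.cl ⟨y, hy⟩ from rfl, F.D.cl_il, F.D.cl_il,
    ← map_add] at e
  exact e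

theorem zpow_add (a b : ZMod 3) : F.z ^ (a + b).val = F.z ^ a.val * F.z ^ b.val := by
  rw [← pow_add, ZMod.val_add, ← pow_mod_orderOf F.z (a.val + b.val), F.D.hz]

/-- The coordinates of the plane. -/
noncomputable def vec : Multiplicative (Fin 3 → ZMod 3) →* G where
  toFun v := F.z ^ (Multiplicative.toAdd v 0).val *
    F.D.il T (F.D.emb F.c ![Multiplicative.toAdd v 1, Multiplicative.toAdd v 2])
  map_one' := by
    have : (![0, 0] : Fin 2 → ZMod 3) = 0 := by decide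
    simp [this, F.D.il_zero]
  map_mul' v w := by
    simp only [toAdd_mul, Pi.add_apply, F.zpow_add]
    rw [show (![Multiplicative.toAdd v 1 + Multiplicative.toAdd w 1, Multiplicative.toAdd v 2 + Multiplicative.toAdd w 2] :
        Fin 2 → ZMod 3) = ![Multiplicative.toAdd v 1, Multiplicative.toAdd v 2] +
          ![Multiplicative.toAdd w 1, Multiplicative.toAdd w 2] by funext i; fin_cases i <;> simp, F.il_emb_add T]
    set i1 := F.D.il T (F.D.emb F.c ![Multiplicative.toAdd v 1, Multiplicative.toAdd v 2])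
    have hc : F.z ^ (Multiplicative.toAdd w 0).val * i1 = i1 * F.z ^ (Multiplicative.toAdd w 0).val :=
      F.isPlane_V1.comm _ (pow_mem F.isPlane_V1.z_mem _) _ (F.il_emb_mem T _)
    rw [mul_assoc, ← mul_assoc (F.z ^ (Multiplicative.toAdd w 0).val), hc]
    simp [mul_assoc]

/-- The vector of an element, as a function. -/
noncomputable def pt (v : Fin 3 → ZMod 3) : G := F.vec T (Multiplicative.ofAdd v)

theorem pt_add (v w : Fin 3 → ZMod 3) : F.pt T (v + w) = F.pt T v * F.pt T w := map_mul (F.vec T) _ _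

theorem pt_zero : F.pt T 0 = 1 := map_one (F.vec T)

theorem pt_mem (v : Fin 3 → ZMod 3) : F.pt T v ∈ F.V1 :=
  mul_mem (pow_mem F.isPlane_V1.z_mem _) (F.il_emb_mem T _)

theorem pt_injective : Function.Injective (F.pt T) := by
  intro v w h
  have hm : ∀ u, ∀ k : ℕ, F.z ^ k * F.D.il T (F.D.emb F.c u) ∈ F.D.Q :=
    fun u k => mul_mem (pow_mem F.D.z_mem _) (F.D.il_mem T _)
  have hcl : ∀ (u : Fin 3 → ZMod 3), F.D.cl ⟨F.pt T u, hm _ _⟩ = F.D.emb F.c ![u 1, u 2] := by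
    intro u
    rw [show (⟨F.pt T u, hm _ _⟩ : F.D.Q) =
      ⟨F.z ^ (u 0).val, pow_mem F.D.z_mem _⟩ * ⟨_, F.D.il_mem T _⟩ from rfl, F.D.cl_mul,
      (F.D.cl_eq_zero).2 (pow_mem (mem_zpowers _) _), zero_add, F.D.cl_il]
    rfl
  have e : F.D.emb F.c ![v 1, v 2] = F.D.emb F.c ![w 1, w 2] := by
    rw [← hcl, ← hcl]; exact congrArg F.D.cl (Subtype.ext h)
  have e12 := F.D.emb_injective F.hc F.c_ne e
  have h' : F.z ^ (v 0).val * F.D.il T (F.D.emb F.c ![v 1, v 2]) =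
      F.z ^ (w 0).val * F.D.il T (F.D.emb F.c ![w 1, w 2]) := h
  rw [e12] at h'
  have h0 := congrArg F.D.lg (mul_right_cancel h')
  simp only [F.D.lg_pow, ZMod.natCast_zmod_val] at h0
  have h1 : v 1 = w 1 := by simpa using congrFun e12 0
  have h2 : v 2 = w 2 := by simpa using congrFun e12 1
  funext i
  fin_cases i <;> assumption

theorem pt_surj {x : G} (hx : x ∈ F.V1) : ∃ v, F.pt T v = x := by
  haveI : Fintype F.V1 := Fintype.ofFinite _
  obtain ⟨v, hv⟩ := ((Fintype.bijective_iff_injective_and_card fun v => (⟨F.pt T v, F.pt_mem T v⟩ : F.V1)).2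
    ⟨fun v w h => F.pt_injective T (congrArg Subtype.val h), by
      rw [← Nat.card_eq_fintype_card, ← Nat.card_eq_fintype_card, F.isPlane_V1.card, Nat.card_fun, Nat.card_zmod,
        Nat.card_fin]; norm_num⟩).2 ⟨x, hx⟩
  exact ⟨v, congrArg Subtype.val hv⟩

/-- The vector moved by an element of the normaliser. -/
noncomputable def mv (g : F.N) (v : Fin 3 → ZMod 3) : Fin 3 → ZMod 3 :=
  (F.pt_surj T (F.conj_N g.2 (F.pt_mem T v))).choose

theorem pt_mv (g : F.N) (v : Fin 3 → ZMod 3) : F.pt T (F.mv T g v) = g * F.pt T v * (g : G)⁻¹ :=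
  (F.pt_surj T (F.conj_N g.2 (F.pt_mem T v))).choose_spec

/-- The linear map of an element. -/
noncomputable def lin (g : F.N) : (Fin 3 → ZMod 3) →ₗ[ZMod 3] (Fin 3 → ZMod 3) :=
  AddMonoidHom.toZModLinearMap 3 (AddMonoidHom.mk' (F.mv T g) fun v w => F.pt_injective T (by
    rw [pt_mv, pt_add, pt_add, pt_mv, pt_mv]; group))

theorem lin_apply (g : F.N) (v : Fin 3 → ZMod 3) : F.pt T (F.lin T g v) = g * F.pt T v * (g : G)⁻¹ := F.pt_mv T g v

/-- The matrix of an element. -/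
noncomputable def mat : F.N →* Matrix (Fin 3) (Fin 3) (ZMod 3) where
  toFun g := LinearMap.toMatrix' (F.lin T g)
  map_one' := by
    rw [show F.lin T 1 = LinearMap.id from LinearMap.ext fun v => F.pt_injective T (by
      rw [lin_apply, LinearMap.id_apply]; simp), LinearMap.toMatrix'_id]
  map_mul' g g' := by
    rw [show F.lin T (g * g') = (F.lin T g).comp (F.lin T g') from LinearMap.ext fun v => F.pt_injective T (by
      rw [LinearMap.comp_apply, lin_apply, lin_apply, lin_apply, Subgroup.coe_mul]; group), LinearMap.toMatrix'_comp]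

theorem mat_apply (g : F.N) (v : Fin 3 → ZMod 3) : F.pt T (F.mat T g *ᵥ v) = g * F.pt T v * (g : G)⁻¹ := by
  rw [show F.mat T g = LinearMap.toMatrix' (F.lin T g) from rfl, LinearMap.toMatrix'_mulVec, lin_apply]

theorem mat_eq_one {g : F.N} : F.mat T g = 1 ↔ (g : G) ∈ F.V1 := by
  refine ⟨fun h => F.cent_V1 fun x hx => ?_, fun h => ?_⟩
  · obtain ⟨v, rfl⟩ := F.pt_surj T hx
    have := F.mat_apply T g v
    rw [h, Matrix.one_mulVec] at this
    exact (mul_inv_eq_iff_eq_mul.1 this.symm)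
  · refine Matrix.toLin'.injective (LinearMap.ext fun v => F.pt_injective T ?_)
    rw [Matrix.toLin'_apply, mat_apply, Matrix.toLin'_one, LinearMap.id_apply,
      F.isPlane_V1.comm _ h _ (F.pt_mem T v), mul_inv_cancel_right]

/-- The action as invertible matrices. -/
noncomputable def gl : F.N →* GL (Fin 3) (ZMod 3) := (F.mat T).toHomUnits

theorem range_gl : (F.gl T).range = Matrix.SpecialLinearGroup.toGL.range := by
  have hker : Nat.card (F.gl T).ker = 27 := by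
    rw [← F.isPlane_V1.card]
    exact Nat.card_congr ⟨fun g => ⟨g.1.1, (F.mat_eq_one T).1 (congrArg Units.val g.2)⟩,
      fun x => ⟨⟨x.1, F.V1_le_N x.2⟩, Units.ext ((F.mat_eq_one T (g := ⟨x.1, F.V1_le_N x.2⟩)).2 x.2)⟩,
      fun _ => rfl, fun _ => rfl⟩
  have hI : Nat.card (F.gl T).range = 5616 := by
    have h := card_mul_index (F.gl T).ker
    rw [index_ker, hker, F.card_N] at h
    omega
  set I := (F.gl T).range
  set K := I.comap Matrix.SpecialLinearGroup.toGL with hK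
  have hidx : K.index ≤ 2 ∧ 2808 ≤ Nat.card K := by
    let d : I →* (ZMod 3)ˣ := Matrix.GeneralLinearGroup.det.comp I.subtype
    have h := card_mul_index d.ker
    rw [index_ker, hI] at h
    have h2 : Nat.card d.range ≤ 2 := by
      refine (Subgroup.card_le_card_group _).trans ?_
      rw [Nat.card_units, Nat.card_zmod]
    have hle : Nat.card d.ker ≤ Nat.card K := by
      refine Nat.card_le_card_of_injective (fun g : d.ker => (⟨⟨(g.1.1 : Matrix (Fin 3) (Fin 3) (ZMod 3)),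
        congrArg Units.val g.2⟩, ?_⟩ : K)) ?_
      · show Matrix.SpecialLinearGroup.toGL _ ∈ I
        convert g.1.2
        ext : 1; rfl
      · intro a b e
        exact Subtype.ext (Subtype.ext (Units.ext (congrArg (fun k : K => (k.1.1)) e)))
    have hh : 2808 ≤ Nat.card d.ker := by nlinarith
    refine ⟨?_, hh.trans hle⟩
    have h' := card_mul_index K
    rw [card_SL33] at h'
    nlinarith
  have htop : K = ⊤ := by
    rw [eq_top_iff, ← Cfsg.Lib.Recog.SingleBond.closure_tS_eq_top, Subgroup.closure_le]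
    rintro _ ⟨i, j, c, hij, rfl⟩
    have h3 : (Cfsg.Lib.Recog.SingleBond.tS i j c : SL33) ^ 3 = 1 := tS_cube i j c hij
    set x : SL33 := Cfsg.Lib.Recog.SingleBond.tS i j c
    have hsq : x * x ∈ K := by
      rcases Nat.lt_or_ge K.index 2 with h | h
      · have : K.index = 1 := by have := K.index_ne_zero_of_finite; omega
        rw [Subgroup.index_eq_one.1 this]; exact mem_top _
      · exact Subgroup.mul_self_mem_of_index_two (le_antisymm hidx.1 h) x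
    have : x * x * (x * x) = x := by
      calc x * x * (x * x) = x ^ 3 * x := by simp [pow_succ, mul_assoc]
        _ = x := by rw [h3, one_mul]
    show x ∈ K
    rw [← this]
    exact mul_mem hsq hsq
  symm
  refine eq_of_le_of_card_ge ?_ ?_
  · rintro _ ⟨A, rfl⟩
    exact (show A ∈ K from htop ▸ mem_top _)
  · rw [hI, Nat.card_congr (MonoidHom.ofInjective Matrix.SpecialLinearGroup.toGL_injective).toEquiv.symm, card_SL33]

/-- The action in `SL(3,3)`. -/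
noncomputable def sl : F.N →* SL33 :=
  (MonoidHom.ofInjective Matrix.SpecialLinearGroup.toGL_injective).symm.toMonoidHom.comp
    ((MulEquiv.subgroupCongr (F.range_gl T)).toMonoidHom.comp (F.gl T).rangeRestrict)

theorem sl_val (g : F.N) : (F.sl T g).1 = F.mat T g := by
  have h : Matrix.SpecialLinearGroup.toGL (F.sl T g) = F.gl T g :=
    congrArg Subtype.val ((MonoidHom.ofInjective Matrix.SpecialLinearGroup.toGL_injective).apply_symm_apply _)
  exact congrArg Units.val h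

theorem sl_surj : Function.Surjective (F.sl T) := by
  intro A
  obtain ⟨g, hg⟩ : Matrix.SpecialLinearGroup.toGL A ∈ (F.gl T).range := (F.range_gl T) ▸ ⟨A, rfl⟩
  exact ⟨g, Subtype.ext ((F.sl_val T g).trans (congrArg Units.val hg))⟩

theorem sl_eq_one {g : F.N} : F.sl T g = 1 ↔ (g : G) ∈ F.V1 := by
  rw [← F.mat_eq_one T, ← sl_val]
  exact ⟨fun h => by rw [h]; rfl, fun h => Subtype.ext h⟩

theorem sl_apply (g : F.N) (v : Fin 3 → ZMod 3) : F.pt T ((F.sl T g).1 *ᵥ v) = g * F.pt T v * (g : G)⁻¹ := by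
  rw [sl_val, mat_apply]

theorem t_mem_N : T.t ∈ F.N := F.C_le_N T.ht

theorem s_mem_N : T.s ∈ F.N := F.C_le_N T.hs

theorem exists_complement : ∃ H : Subgroup G, H ≤ F.N ∧ (∀ g ∈ F.N, ∃ v ∈ F.V1, ∃ k ∈ H, g = v * k) ∧
    (∀ x ∈ H, x ∈ F.V1 → x = 1) ∧ T.t ∈ H := by
  haveI : Fact (Nat.Prime 3) := ⟨Nat.prime_three⟩
  let U2 : Subgroup G :=
    { carrier := {x | x ∈ F.V2 ∧ T.t * x * T.t⁻¹ = x⁻¹}
      one_mem' := ⟨one_mem _, by simp⟩
      mul_mem' := fun {x y} hx hy => ⟨mul_mem hx.1 hy.1, by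
        rw [show T.t * (x * y) * T.t⁻¹ = (T.t * x * T.t⁻¹) * (T.t * y * T.t⁻¹) by group, hx.2, hy.2,
          _root_.mul_inv_rev]
        exact F.isPlane_V2.comm _ (inv_mem hx.1) _ (inv_mem hy.1)⟩
      inv_mem' := fun {x} hx => ⟨inv_mem hx.1, by
        rw [show T.t * x⁻¹ * T.t⁻¹ = (T.t * x * T.t⁻¹)⁻¹ by group, hx.2]⟩ }
  have hsn : ∀ x ∈ U2, T.s * x * T.s⁻¹ ∈ U2 := fun x hx => ⟨F.isPlane_V2.conj _ T.hs _ hx.1, by
    rw [show T.t * (T.s * x * T.s⁻¹) * T.t⁻¹ = (T.t * T.s) * x * (T.t * T.s)⁻¹ by group, T.st,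
      show T.s * T.t * x * (T.s * T.t)⁻¹ = T.s * (T.t * x * T.t⁻¹) * T.s⁻¹ by group, hx.2]
    group⟩
  have hnorm : zpowers T.s ≤ normalizer (U2 : Set G) := zpowers_le.2 (by
    refine mem_normalizer_iff.2 fun x => ⟨hsn x, fun h => ?_⟩
    have h2 := hsn _ (hsn _ h)
    have h3 := T.s3
    rw [pow_succ, pow_two] at h3
    rw [show T.s * (T.s * (T.s * x * T.s⁻¹) * T.s⁻¹) * T.s⁻¹ = (T.s * T.s * T.s) * x * (T.s * T.s * T.s)⁻¹ by group,
      h3] at h2
    simpa using h2)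
  set S2 := U2 ⊔ zpowers T.s
  have hS2N : S2 ≤ F.N := sup_le (fun x hx => F.C_le_N (F.D.Q_le (F.isPlane_V2.le hx.1))) (zpowers_le.2 (F.s_mem_N T))
  have hos : orderOf T.s = 3 := orderOf_eq_prime T.s3 fun h => T.sp (by
    rw [show (⟨T.s, T.hs⟩ : F.D.C) = 1 from Subtype.ext h, map_one])
  have hmem : ∀ x ∈ S2, ∃ u ∈ U2, ∃ k : ℤ, x = u * T.s ^ k := by
    intro x hx
    have : x ∈ ((U2 : Set G) * (zpowers T.s : Set G)) := by rw [← coe_mul_of_right_le_normalizer_left _ _ hnorm]; exact hx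
    obtain ⟨u, hu, w, ⟨k, rfl⟩, rfl⟩ := this
    exact ⟨u, hu, k, rfl⟩
  have hdisj : ∀ x ∈ S2, x ∈ F.V1 → x = 1 := by
    intro x hx hxV
    obtain ⟨u, hu, k, rfl⟩ := hmem x hx
    have hk : T.s ^ k ∈ F.D.Q := by
      have := mul_mem (inv_mem (F.isPlane_V2.le hu.1)) (F.isPlane_V1.le hxV)
      rwa [inv_mul_cancel_left] at this
    have hk1 : T.s ^ k = 1 := by
      have hp : (⟨T.s, T.hs⟩ : F.D.C) ^ k ∈ F.D.π.ker := (F.D.ker _).2 hk
      rw [MonoidHom.mem_ker, map_zpow] at hp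
      have ho : orderOf (F.D.π ⟨T.s, T.hs⟩) = 3 := orderOf_eq_prime (by
        rw [← map_pow, show (⟨T.s, T.hs⟩ : F.D.C) ^ 3 = 1 from Subtype.ext T.s3, map_one]) T.sp
      rw [← orderOf_dvd_iff_zpow_eq_one, ho] at hp
      exact orderOf_dvd_iff_zpow_eq_one.1 (by rw [hos]; exact hp)
    rw [hk1, mul_one] at hxV ⊢
    obtain ⟨j, hj⟩ := F.V1_inf_V2 hxV hu.1
    have hj' : u = F.z ^ j := hj.symm
    have e := F.D.zp_central (x := u) (hj' ▸ zpow_mem (mem_zpowers _) j) T.ht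
    rw [hu.2] at e
    have h2 : u * u = 1 := by nth_rw 1 [← e]; rw [inv_mul_cancel]
    have h3 := F.D.Q_exp _ (F.isPlane_V2.le hu.1)
    rw [pow_succ, pow_two, h2, one_mul] at h3
    exact h3
  have hU2 : Nat.card U2 = 9 := by
    rw [show 9 = Nat.card (Fin 2 → ZMod 3) by rw [Nat.card_fun, Nat.card_zmod, Nat.card_fin]; rfl]
    refine (Nat.card_eq_of_bijective (fun u : Fin 2 → ZMod 3 => (⟨F.D.il T (F.D.emb F.d u),
      (F.D.cl_pl (x := ⟨_, F.D.il_mem T _⟩)).2 ⟨u, F.D.cl_il T _⟩, F.D.il_inv T _⟩ : U2)) ⟨fun u v e => ?_, ?_⟩).symm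
    · refine F.D.emb_injective F.hd F.d_ne ?_
      rw [← F.D.cl_il T (F.D.emb F.d u), ← F.D.cl_il T (F.D.emb F.d v)]
      exact congrArg F.D.cl (Subtype.ext (congrArg (fun w : U2 => (w : G)) e))
    · rintro ⟨x, ⟨hxQ, u, hu⟩, hxi⟩
      exact ⟨u, Subtype.ext (show F.D.il T (F.D.emb F.d u) = x by rw [← hu]; exact F.D.il_eq T (x := ⟨x, hxQ⟩) hxi)⟩
  have hS2 : Nat.card S2 = 27 := by
    have e : Nat.card S2 = Nat.card (U2 × zpowers T.s) := by
      refine (Nat.card_eq_of_bijective (fun p : U2 × zpowers T.s => (⟨p.1 * p.2, mul_mem (mem_sup_left p.1.2)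
        (mem_sup_right p.2.2)⟩ : S2)) ⟨?_, ?_⟩).symm
      · rintro ⟨⟨a, ha⟩, ⟨b, hb⟩⟩ ⟨⟨a', ha'⟩, ⟨b', hb'⟩⟩ e
        have e' : a * b = a' * b' := congrArg Subtype.val e
        have h1 : a'⁻¹ * a = b' * b⁻¹ := by
          calc a'⁻¹ * a = a'⁻¹ * (a * b) * b⁻¹ := by group
            _ = b' * b⁻¹ := by rw [e']; group
        obtain ⟨k, hk⟩ : b' * b⁻¹ ∈ zpowers T.s := mul_mem hb' (inv_mem hb)
        have hkQ : T.s ^ k ∈ F.D.Q := by
          rw [show T.s ^ k = a'⁻¹ * a from hk.trans h1.symm]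
          exact mul_mem (inv_mem (F.isPlane_V2.le ha'.1)) (F.isPlane_V2.le ha.1)
        have hp : (⟨T.s, T.hs⟩ : F.D.C) ^ k ∈ F.D.π.ker := (F.D.ker _).2 hkQ
        rw [MonoidHom.mem_ker, map_zpow] at hp
        have ho : orderOf (F.D.π ⟨T.s, T.hs⟩) = 3 := orderOf_eq_prime (by
          rw [← map_pow, show (⟨T.s, T.hs⟩ : F.D.C) ^ 3 = 1 from Subtype.ext T.s3, map_one]) T.sp
        rw [← orderOf_dvd_iff_zpow_eq_one, ho, ← hos, orderOf_dvd_iff_zpow_eq_one] at hp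
        have hb1 : b' = b := mul_inv_eq_one.1 (hk.symm.trans hp)
        subst hb1
        obtain rfl : a = a' := mul_right_cancel e'
        rfl
      · rintro ⟨x, hx⟩
        obtain ⟨u, hu, k, rfl⟩ := hmem x hx
        exact ⟨(⟨u, hu⟩, ⟨_, k, rfl⟩), rfl⟩
    rw [e, Nat.card_prod, hU2, Nat.card_zpowers, hos]
  -- the Sylow subgroup
  set K := F.V1.subgroupOf F.N
  haveI : K.Normal := ⟨fun x hx g => mem_subgroupOf.2 (F.conj_N g.2 (mem_subgroupOf.1 hx))⟩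
  haveI : IsMulCommutative K := ⟨⟨fun a b => Subtype.ext (Subtype.ext
    (F.isPlane_V1.comm _ (mem_subgroupOf.1 a.2) _ (mem_subgroupOf.1 b.2)))⟩⟩
  set A := S2.subgroupOf F.N
  have hAK : A ⊓ K = ⊥ := by
    rw [eq_bot_iff]
    rintro x ⟨h1, h2⟩
    exact mem_bot.2 (Subtype.ext (hdisj _ (mem_subgroupOf.1 h1) (mem_subgroupOf.1 h2)))
  have hcK : Nat.card K = 27 := (Nat.card_congr (subgroupOfEquivOfLe F.V1_le_N).toEquiv).trans F.isPlane_V1.card
  have hcA : Nat.card A = 27 := (Nat.card_congr (subgroupOfEquivOfLe hS2N).toEquiv).trans hS2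
  have hcU : Nat.card ↥(K ⊔ A) = 729 := by
    have hle : A ≤ normalizer (K : Set F.N) := normalizer_eq_top (H := K) ▸ le_top
    rw [Cfsg.Lib.Coprime.card_sup_of_disjoint hle (disjoint_iff.2 (by rw [inf_comm]; exact hAK)), hcK, hcA]
  have hcop : (Nat.card K).Coprime (K ⊔ A).index := by
    have h := card_mul_index (K ⊔ A)
    rw [hcU, F.card_N] at h
    rw [hcK, show (K ⊔ A).index = 208 by omega]
    decide +kernel
  obtain ⟨H₀, hH₀⟩ := Cfsg.Lib.GaschutzAbelian.exists_complement K (K ⊔ A) le_sup_left hcop A le_sup_right hAK rfl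
  -- move the involution into the complement
  obtain ⟨⟨⟨a, haK⟩, ⟨k, hk⟩⟩, hak⟩ := hH₀.2 (⟨T.t, F.t_mem_N T⟩ : F.N)
  have e : (a : G) * k = T.t := congrArg Subtype.val hak
  have hdis : ∀ x : F.N, x ∈ K → x ∈ H₀ → x = 1 := fun x h1 h2 =>
    (Subgroup.disjoint_def.1 hH₀.disjoint) h1 h2
  have haV : (a : G) ∈ F.V1 := mem_subgroupOf.1 haK
  have hta : T.t * (a : G) * T.t⁻¹ = (a : G)⁻¹ := by
    have hk2 : k * k ∈ K := by
      have ek : (k : G) = (a : G)⁻¹ * T.t := by rw [← e]; group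
      refine mem_subgroupOf.2 ?_
      rw [Subgroup.coe_mul, ek, show (a : G)⁻¹ * T.t * ((a : G)⁻¹ * T.t) =
        (a : G)⁻¹ * (T.t * (a : G)⁻¹ * T.t⁻¹) * (T.t * T.t) by group, T.t2, mul_one]
      exact mul_mem (inv_mem haV) (F.conj_N (F.t_mem_N T) (inv_mem haV))
    have h1 : (k : G) * k = 1 := congrArg Subtype.val (hdis _ hk2 (mul_mem hk hk))
    have ek : (k : G) = (a : G)⁻¹ * T.t := by rw [← e]; group
    rw [ek] at h1
    calc T.t * (a : G) * T.t⁻¹ = (T.t * (a : G)⁻¹ * T.t⁻¹)⁻¹ := by group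
      _ = ((a : G) * ((a : G)⁻¹ * T.t * ((a : G)⁻¹ * T.t)) * (T.t * T.t)⁻¹)⁻¹ := by group
      _ = (a : G)⁻¹ := by rw [h1, T.t2]; group
  refine ⟨(H₀.map F.N.subtype).map (MulAut.conj ((a : G) * a)).toMonoidHom, ?_, ?_, ?_, ?_⟩
  · rintro _ ⟨_, ⟨x, -, rfl⟩, rfl⟩
    exact mul_mem (mul_mem (F.V1_le_N (mul_mem haV haV)) x.2) (inv_mem (F.V1_le_N (mul_mem haV haV)))
  · intro g hg
    set g' : F.N := (a * a)⁻¹ * ⟨g, hg⟩ * (a * a)
    obtain ⟨⟨⟨v, hv⟩, ⟨y, hy⟩⟩, hvy⟩ := hH₀.2 g'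
    have e' : (v : G) * y = ((a : G) * a)⁻¹ * g * ((a : G) * a) := congrArg Subtype.val hvy
    refine ⟨(a : G) * a * v * ((a : G) * a)⁻¹, mul_mem (mul_mem (mul_mem haV haV) (mem_subgroupOf.1 hv))
      (inv_mem (mul_mem haV haV)), _, ⟨_, ⟨y, hy, rfl⟩, rfl⟩, ?_⟩
    show g = (a : G) * a * v * ((a : G) * a)⁻¹ * ((a : G) * a * y * ((a : G) * a)⁻¹)
    calc g = (a : G) * a * (((a : G) * a)⁻¹ * g * ((a : G) * a)) * ((a : G) * a)⁻¹ := by group
      _ = _ := by rw [← e']; group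
  · rintro _ ⟨_, ⟨x, hx, rfl⟩, rfl⟩ hV
    have hxV : (x : G) ∈ F.V1 := by
      have := F.conj_N (inv_mem (F.V1_le_N (mul_mem haV haV))) hV
      simpa [mul_assoc] using this
    rw [hdis x (mem_subgroupOf.2 hxV) hx]
    simp
  · refine ⟨_, ⟨k, hk, rfl⟩, ?_⟩
    show (a : G) * a * k * ((a : G) * a)⁻¹ = T.t
    have ek : (k : G) = (a : G)⁻¹ * T.t := by rw [← e]; group
    have ha3 := F.D.Q_exp _ (F.isPlane_V1.le haV)
    rw [ek]
    calc (a : G) * a * ((a : G)⁻¹ * T.t) * ((a : G) * a)⁻¹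
        = (a : G) * a * (a : G)⁻¹ * ((T.t * (a : G) * T.t⁻¹)⁻¹ * (T.t * (a : G) * T.t⁻¹)⁻¹) * T.t := by group
      _ = (a : G) ^ 3 * T.t := by rw [hta, inv_inv, pow_succ, pow_two]; group
      _ = T.t := by rw [ha3, one_mul]

end Fr

end Cfsg.Lib.LFourThree
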