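import Cfsg.Agent.Lib.LFourThree.Link

/-!
# The two totally isotropic invariant planes of `Q / Z`
-/

set_option autoImplicit false
set_option linter.unusedSectionVars false
set_option linter.style.haveILetI false

namespace Cfsg.Lib.LFourThree

open Subgroup Cfsg.Lib.PSpThree Matrix

variable {G : Type*} [Group G]

namespace Data

variable (D : Data G)

/-- Conjugated data. -/
def conj (g : G) : Data G where
  z := g * D.z * g⁻¹
  hz := by rw [← MulAut.conj_apply, MulEquiv.orderOf_eq, D.hz]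
  Q := D.Q.map (MulAut.conj g).toMonoidHom
  Q_le := by
    rintro _ ⟨x, hx, rfl⟩
    refine mem_centralizer_singleton_iff.2 ?_
    show g * x * g⁻¹ * (g * D.z * g⁻¹) = g * D.z * g⁻¹ * (g * x * g⁻¹)
    rw [show g * x * g⁻¹ * (g * D.z * g⁻¹) = g * (x * D.z) * g⁻¹ by group, D.comm_z (D.Q_le hx)]; group
  z_mem := ⟨D.z, D.z_mem, rfl⟩
  Q_card := by rw [Subgroup.card_map_of_injective (MulAut.conj g).injective, D.Q_card]
  Q_exp := by
    rintro _ ⟨x, hx, rfl⟩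
    rw [← map_pow, D.Q_exp x hx, map_one]
  Q_center := by
    rintro _ ⟨x, hx, rfl⟩ h
    have hx' := D.Q_center x hx fun y hy => (MulAut.conj g).injective (by
      rw [map_mul, map_mul]; exact h _ ⟨y, hy, rfl⟩)
    obtain ⟨k, rfl⟩ := hx'
    exact ⟨k, (map_zpow (MulAut.conj g) D.z k).symm⟩
  Q_comm := by
    rintro _ ⟨x, hx, rfl⟩ _ ⟨y, hy, rfl⟩
    obtain ⟨k, hk⟩ := D.Q_comm x hx y hy
    refine ⟨k, ?_⟩
    show (g * D.z * g⁻¹) ^ k = g * x * g⁻¹ * (g * y * g⁻¹) * (g * x * g⁻¹)⁻¹ * (g * y * g⁻¹)⁻¹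
    rw [show g * x * g⁻¹ * (g * y * g⁻¹) * (g * x * g⁻¹)⁻¹ * (g * y * g⁻¹)⁻¹ =
      g * (x * y * x⁻¹ * y⁻¹) * g⁻¹ by group, ← show D.z ^ k = x * y * x⁻¹ * y⁻¹ from hk, conj_zpow]
  π :=
    D.π.comp
      { toFun := fun c => ⟨g⁻¹ * c * g, D.mem_C.2 (by
          have h : (c : G) * (g * D.z * g⁻¹) = g * D.z * g⁻¹ * c := mem_centralizer_singleton_iff.1 c.2
          calc g⁻¹ * c * g * D.z = g⁻¹ * ((c : G) * (g * D.z * g⁻¹)) * g := by group
            _ = D.z * (g⁻¹ * c * g) := by rw [h]; group)⟩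
        map_one' := Subtype.ext (by simp)
        map_mul' := fun _ _ => Subtype.ext (by simp [mul_assoc]) }
  surj := fun A => by
    obtain ⟨c, hc⟩ := D.surj A
    refine ⟨⟨g * c * g⁻¹, mem_centralizer_singleton_iff.2 ?_⟩, ?_⟩
    · rw [show g * c * g⁻¹ * (g * D.z * g⁻¹) = g * ((c : G) * D.z) * g⁻¹ by group, D.comm_z c.2]; group
    · rw [MonoidHom.comp_apply, ← hc]
      exact congrArg D.π (Subtype.ext (by show g⁻¹ * (g * c * g⁻¹) * g = c; group))
  ker c := by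
    rw [MonoidHom.comp_apply, D.ker]
    constructor
    · intro h
      exact ⟨_, h, by show g * (g⁻¹ * c * g) * g⁻¹ = c; group⟩
    · rintro ⟨x, hx, e⟩
      show g⁻¹ * (c : G) * g ∈ D.Q
      rw [← e]
      simpa [mul_assoc] using hx
  inv c hc := by
    rintro _ ⟨x, hx, rfl⟩
    obtain ⟨k, hk⟩ := D.inv _ hc x hx
    refine ⟨k, ?_⟩
    have hk' : D.z ^ k = g⁻¹ * c * g * x * (g⁻¹ * c * g)⁻¹ * x := hk
    show (g * D.z * g⁻¹) ^ k = (c : G) * (g * x * g⁻¹) * (c : G)⁻¹ * (g * x * g⁻¹)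
    rw [conj_zpow, hk']; group

theorem conj_z (g : G) : (D.conj g).z = g * D.z * g⁻¹ := rfl

theorem mem_conj_Q {g x : G} : x ∈ (D.conj g).Q ↔ g⁻¹ * x * g ∈ D.Q := by
  constructor
  · rintro ⟨y, hy, rfl⟩
    simpa [mul_assoc] using hy
  · intro h
    exact ⟨_, h, by show g * (g⁻¹ * x * g) * g⁻¹ = x; group⟩

theorem C_flip : centralizer ({D.z⁻¹} : Set G) = D.C := by
  ext g
  rw [mem_centralizer_singleton_iff, mem_centralizer_singleton_iff]
  exact ⟨fun h => by simpa using (show Commute g D.z⁻¹ from h).inv_right.eq,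
    fun h => (show Commute g D.z from h).inv_right.eq⟩

/-- The data of the inverse of the element. -/
def flip : Data G where
  z := D.z⁻¹
  hz := by rw [orderOf_inv, D.hz]
  Q := D.Q
  Q_le := D.C_flip.symm ▸ D.Q_le
  z_mem := inv_mem D.z_mem
  Q_card := D.Q_card
  Q_exp := D.Q_exp
  Q_center x hx h := by rw [zpowers_inv]; exact D.Q_center x hx h
  Q_comm x hx y hy := by rw [zpowers_inv]; exact D.Q_comm x hx y hy
  π := D.π.comp (MulEquiv.subgroupCongr D.C_flip).toMonoidHom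
  surj := D.surj.comp (MulEquiv.subgroupCongr D.C_flip).surjective
  ker c := D.ker _
  inv c hc x hx := by rw [zpowers_inv]; exact D.inv _ hc x hx

/-- Conjugates of the element or of its inverse. -/
def Pure (x : G) : Prop := ∃ g : G, g * D.z * g⁻¹ = x ∨ g * D.z⁻¹ * g⁻¹ = x

theorem Pure.exists_data {x : G} (h : D.Pure x) : ∃ D' : Data G, D'.z = x := by
  obtain ⟨g, rfl | rfl⟩ := h
  · exact ⟨D.conj g, rfl⟩
  · exact ⟨D.flip.conj g, rfl⟩

theorem Pure.conj {x : G} (h : D.Pure x) (k : G) : D.Pure (k * x * k⁻¹) := by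
  obtain ⟨g, rfl | rfl⟩ := h
  · exact ⟨k * g, Or.inl (by group)⟩
  · exact ⟨k * g, Or.inr (by group)⟩

theorem Pure.inv {x : G} (h : D.Pure x) : D.Pure x⁻¹ := by
  obtain ⟨g, rfl | rfl⟩ := h
  · exact ⟨g, Or.inr (by group)⟩
  · exact ⟨g, Or.inl (by group)⟩

theorem pure_z : D.Pure D.z := ⟨1, Or.inl (by simp)⟩

theorem Pure.ne_one {x : G} (h : D.Pure x) : x ≠ 1 := by
  obtain ⟨g, rfl | rfl⟩ := h
  · simpa using D.z_ne
  · simpa using D.z_ne

/-- The vectors over an element of the half. -/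
noncomputable def emb (c : D.W) : (Fin 2 → ZMod 3) →ₗ[ZMod 3] D.W where
  toFun u := u 0 • c + u 1 • D.psi (E 1 0) c
  map_add' u v := by simp only [Pi.add_apply]; module
  map_smul' k u := by simp only [Pi.smul_apply, smul_eq_mul, RingHom.id_apply]; module

theorem psi_X {c : D.W} (hc : c ∈ D.X) (M : M2) :
    D.psi M c = M 0 0 • c + M 1 0 • D.psi (E 1 0) c := by
  conv_lhs => rw [← D.mem_X.1 hc, psi_apply_psi]
  rw [show M * E 0 0 = M 0 0 • E 0 0 + M 1 0 • E 1 0 by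
    ext i j; fin_cases i <;> fin_cases j <;> simp [E, mul_apply, Fin.sum_univ_two],
    map_add, psi_smul, psi_smul, LinearMap.add_apply, LinearMap.smul_apply, LinearMap.smul_apply, D.mem_X.1 hc]

theorem psi_emb {c : D.W} (hc : c ∈ D.X) (M : M2) (u : Fin 2 → ZMod 3) :
    D.psi M (D.emb c u) = D.emb c (M *ᵥ u) := by
  have hE : M * E 1 0 = M 0 1 • E 0 0 + M 1 1 • E 1 0 := by
    ext i j; fin_cases i <;> fin_cases j <;> simp [E, mul_apply, Fin.sum_univ_two]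
  show D.psi M (u 0 • c + u 1 • D.psi (E 1 0) c) =
    (M *ᵥ u) 0 • c + (M *ᵥ u) 1 • D.psi (E 1 0) c
  rw [map_add, map_smul, map_smul, D.psi_X hc, psi_apply_psi, hE, map_add, psi_smul, psi_smul, LinearMap.add_apply,
    LinearMap.smul_apply, LinearMap.smul_apply, D.mem_X.1 hc]
  simp only [mulVec, dotProduct, Fin.sum_univ_two]
  module

theorem b_emb {c d : D.W} (hc : c ∈ D.X) (hd : d ∈ D.X) (u v : Fin 2 → ZMod 3) :
    D.b (D.emb c u) (D.emb d v) = (u 0 * v 1 - u 1 * v 0) * D.beta c d := by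
  have h1 : D.b (D.psi (E 1 0) c) d = -D.beta c d := by
    rw [D.b_swap d, show D.b d (D.psi (E 1 0) c) = D.beta d c from rfl, D.beta_comm]
  have h2 : D.b (D.psi (E 1 0) c) (D.psi (E 1 0) d) = 0 := by
    rw [b_psi, psi_apply_psi, show (E 1 0).adjugate * E 1 0 = (0 : M2) by decide +kernel, map_zero,
      LinearMap.zero_apply, map_zero]
  show D.b (u 0 • c + u 1 • D.psi (E 1 0) c) (v 0 • d + v 1 • D.psi (E 1 0) d) = _
  simp only [map_add, map_smul, LinearMap.add_apply, LinearMap.smul_apply, smul_eq_mul, D.b_X hc hd, h1, h2,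
    show D.b c (D.psi (E 1 0) d) = D.beta c d from rfl]
  ring

theorem emb_injective {c : D.W} (hc : c ∈ D.X) (h0 : c ≠ 0) : Function.Injective (D.emb c) := by
  refine (injective_iff_map_eq_zero _).2 fun u hu => ?_
  obtain ⟨-, -, h3, h4⟩ := D.E_on_X hc
  have e0 := congrArg (D.psi (E 0 0)) hu
  have e1 := congrArg (D.psi (E 0 1)) hu
  simp only [emb, LinearMap.coe_mk, AddHom.coe_mk, map_add, map_smul, D.mem_X.1 hc, h4, smul_zero, add_zero,
    map_zero] at e0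
  simp only [emb, LinearMap.coe_mk, AddHom.coe_mk, map_add, map_smul, (D.E_on_X hc).1, h3, smul_zero, zero_add,
    map_zero] at e1
  funext i
  fin_cases i
  · exact (smul_eq_zero.1 e0).resolve_right h0
  · exact (smul_eq_zero.1 e1).resolve_right h0

/-- The subgroup over a plane. -/
def pl (c : D.W) : Subgroup G where
  carrier := {x | ∃ h : x ∈ D.Q, ∃ u, D.cl ⟨x, h⟩ = D.emb c u}
  one_mem' := ⟨one_mem _, 0, by rw [map_zero]; rfl⟩
  mul_mem' := by
    rintro x y ⟨hx, u, hu⟩ ⟨hy, v, hv⟩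
    exact ⟨mul_mem hx hy, u + v, by rw [map_add, ← hu, ← hv]; rfl⟩
  inv_mem' := by
    rintro x ⟨hx, u, hu⟩
    exact ⟨inv_mem hx, -u, by rw [map_neg, ← hu]; rfl⟩

theorem pl_le (c : D.W) : D.pl c ≤ D.Q := fun _ h => h.1

theorem cl_pl {c : D.W} {x : D.Q} : (x : G) ∈ D.pl c ↔ ∃ u, D.cl x = D.emb c u :=
  ⟨fun ⟨_, h⟩ => h, fun h => ⟨x.2, h⟩⟩

theorem zp_le_pl (c : D.W) : zpowers D.z ≤ D.pl c := fun x hx =>
  ⟨D.zp_le_Q hx, 0, by rw [map_zero]; exact D.cl_eq_zero.2 hx⟩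

theorem card_pl {c : D.W} (hc : c ∈ D.X) (h0 : c ≠ 0) : Nat.card (D.pl c) = 27 := by
  let f : D.pl c →* Multiplicative D.W :=
    { toFun := fun x => Multiplicative.ofAdd (D.cl ⟨x, x.2.1⟩)
      map_one' := rfl
      map_mul' := fun _ _ => rfl }
  have hk : Nat.card f.ker = 3 := by
    rw [← D.hz, ← Nat.card_zpowers]
    exact Nat.card_congr ⟨fun x => ⟨x.1.1, D.cl_eq_zero.1 x.2⟩, fun x => ⟨⟨x.1, D.zp_le_pl c x.2⟩, D.cl_eq_zero.2 x.2⟩,
      fun _ => rfl, fun _ => rfl⟩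
  have hr : Nat.card f.range = 9 := by
    rw [show 9 = Nat.card (Fin 2 → ZMod 3) by rw [Nat.card_fun, Nat.card_zmod, Nat.card_fin]; rfl]
    refine (Nat.card_eq_of_bijective (fun u : Fin 2 → ZMod 3 => (⟨Multiplicative.ofAdd (D.emb c u), ?_⟩ : f.range))
      ⟨fun u v e => D.emb_injective hc h0 (congrArg Multiplicative.toAdd (congrArg Subtype.val e)), ?_⟩).symm
    · obtain ⟨x, hx⟩ := D.cl_surj (D.emb c u)
      exact ⟨⟨x, x.2, u, hx⟩, congrArg Multiplicative.ofAdd hx⟩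
    · rintro ⟨_, ⟨x, hx, u, hu⟩, rfl⟩
      exact ⟨u, Subtype.ext (congrArg Multiplicative.ofAdd hu.symm)⟩
  have h := card_mul_index f.ker
  rw [index_ker, hk, hr] at h
  exact h.symm

theorem pl_comm {c : D.W} (hc : c ∈ D.X) (h : D.beta c c = 0) {x y : G} (hx : x ∈ D.pl c) (hy : y ∈ D.pl c) :
    x * y = y * x := by
  obtain ⟨hx, u, hu⟩ := hx
  obtain ⟨hy, v, hv⟩ := hy
  refine D.b_eq_zero.1 (show D.b (D.cl ⟨x, hx⟩) (D.cl ⟨y, hy⟩) = 0 from ?_)
  rw [hu, hv, D.b_emb hc hc, h, mul_zero]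

theorem pl_conj [Finite G] {c : D.W} (hc : c ∈ D.X) {g x : G} (hg : g ∈ D.C) (hx : x ∈ D.pl c) :
    g * x * g⁻¹ ∈ D.pl c := by
  obtain ⟨hx, u, hu⟩ := hx
  refine ⟨D.conj_Q hg hx, (D.π ⟨g, hg⟩).1 *ᵥ u, ?_⟩
  rw [show D.cl ⟨g * x * g⁻¹, D.conj_Q hg hx⟩ = D.act ⟨g, hg⟩ (D.cl ⟨x, hx⟩) from rfl, hu, act_eq_psi, psi_emb D hc]

/-- An abelian normal subgroup of order 27 above the centre. -/
structure IsPlane (V : Subgroup G) : Prop where
  le : V ≤ D.Q
  z_mem : D.z ∈ V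
  card : Nat.card V = 27
  comm : ∀ x ∈ V, ∀ y ∈ V, x * y = y * x
  conj : ∀ g ∈ D.C, ∀ x ∈ V, g * x * g⁻¹ ∈ V

theorem isPlane_pl [Finite G] {c : D.W} (hc : c ∈ D.X) (h0 : c ≠ 0) (h : D.beta c c = 0) : D.IsPlane (D.pl c) :=
  ⟨D.pl_le c, D.zp_le_pl c (mem_zpowers _), D.card_pl hc h0, fun _ hx _ hy => D.pl_comm hc h hx hy,
    fun _ hg _ hx => D.pl_conj hc hg hx⟩

theorem IsPlane.exists_pl [Finite G] {V : Subgroup G} (hV : D.IsPlane V) :
    ∃ c ∈ D.X, c ≠ 0 ∧ D.beta c c = 0 ∧ V = D.pl c := by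
  let S : AddSubgroup D.W :=
    { carrier := {w | ∃ x : D.Q, (x : G) ∈ V ∧ D.cl x = w}
      zero_mem' := ⟨1, one_mem _, D.cl_one⟩
      add_mem' := by
        rintro _ _ ⟨x, hx, rfl⟩ ⟨y, hy, rfl⟩
        exact ⟨x * y, mul_mem hx hy, D.cl_mul x y⟩
      neg_mem' := by
        rintro _ ⟨x, hx, rfl⟩
        exact ⟨x⁻¹, inv_mem hx, D.cl_inv x⟩ }
  let S' := AddSubgroup.toZModSubmodule 3 S
  have hclV : ∀ {x : D.Q}, D.cl x ∈ S' → (x : G) ∈ V := by
    rintro x ⟨y, hy, e⟩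
    have := mul_mem hy ((zpowers_le.2 hV.z_mem) (D.cl_eq_iff.1 e))
    rwa [mul_inv_cancel_left] at this
  have hrho : ∀ (A : SL23) {w}, w ∈ S' → D.rho A w ∈ S' := by
    rintro A _ ⟨x, hx, rfl⟩
    obtain ⟨g, hg⟩ := D.surj A
    rw [← hg, ← D.act_eq_rho, act_cl]
    exact ⟨_, hV.conj _ g.2 _ hx, rfl⟩
  have hpsi : ∀ (M : M2) {w}, w ∈ S' → D.psi M w ∈ S' := by
    intro M w hw
    show D.psiFun M w ∈ S'
    simp only [psiFun, LinearMap.add_apply, LinearMap.smul_apply, Module.End.mul_apply, Module.End.one_apply]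
    exact add_mem (add_mem (add_mem (Submodule.smul_mem _ _ hw) (Submodule.smul_mem _ _ (hrho _ hw)))
      (Submodule.smul_mem _ _ (hrho _ hw))) (Submodule.smul_mem _ _ (hrho _ (hrho _ hw)))
  obtain ⟨x, hxV, hxz⟩ : ∃ x ∈ V, x ∉ zpowers D.z := by
    by_contra h
    push Not at h
    have := card_le_of_le (show V ≤ zpowers D.z from h)
    rw [hV.card, Nat.card_zpowers, D.hz] at this
    omega
  have hxS : D.cl ⟨x, hV.le hxV⟩ ∈ S' := ⟨_, hxV, rfl⟩
  have hne : ∃ j : Fin 2, D.psi (E 0 j) (D.cl ⟨x, hV.le hxV⟩) ≠ 0 := by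
    by_contra h
    push Not at h
    refine hxz ((D.cl_eq_zero (x := ⟨x, hV.le hxV⟩)).1 ?_)
    rw [← D.decomp (D.cl ⟨x, hV.le hxV⟩), h 0, h 1, map_zero, add_zero]
  obtain ⟨j, hj⟩ := hne
  set c := D.psi (E 0 j) (D.cl ⟨x, hV.le hxV⟩)
  have hcX : c ∈ D.X := D.E_zero_mem j _
  have hcS : c ∈ S' := hpsi _ hxS
  have hle : D.pl c ≤ V := by
    rintro y ⟨hy, u, hu⟩
    refine hclV (x := ⟨y, hy⟩) ?_
    rw [hu]
    exact add_mem (Submodule.smul_mem _ _ hcS) (Submodule.smul_mem _ _ (hpsi _ hcS))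
  have hcomm : ∀ {v w}, v ∈ S' → w ∈ S' → D.b v w = 0 := by
    rintro _ _ ⟨a, ha, rfl⟩ ⟨b, hb, rfl⟩
    exact D.b_eq_zero.2 (hV.comm _ ha _ hb)
  exact ⟨c, hcX, hj, hcomm hcS (hpsi _ hcS),
    (eq_of_le_of_card_ge hle (by rw [hV.card, D.card_pl hcX hj])).symm⟩

end Data

/-- The standing frame: a linked pair and a hyperbolic basis of the half. -/
structure Fr (G : Type*) [Group G] where
  /-- The data. -/
  D : Data G
  /-- The linked data. -/
  D' : Data G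
  link : Linked D D'
  pure' : D.Pure D'.z
  /-- The first isotropic vector. -/
  c : D.W
  /-- The second isotropic vector. -/
  d : D.W
  hc : c ∈ D.X
  hd : d ∈ D.X
  cc : D.beta c c = 0
  dd : D.beta d d = 0
  cd : D.beta c d = 1
  R_eq : D.pl c = D.Q ⊓ D'.Q

variable [Finite G]

theorem Linked.isPlane {D D' : Data G} (h : Linked D D') : D.IsPlane (D.Q ⊓ D'.Q) :=
  ⟨inf_le_left, h.z_mem, h.card_R.1, fun _ hx _ hy => h.R_comm hx hy, fun _ hg _ hx => h.conj_R' hg hx⟩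

theorem exists_fr {D D' : Data G} (h : Linked D D') (hp : D.Pure D'.z) : ∃ F : Fr G, F.D = D ∧ F.D' = D' := by
  obtain ⟨c, hc, h0, hcc, he⟩ := h.isPlane.exists_pl
  obtain ⟨v, hv, hcv⟩ : ∃ v ∈ D.X, D.beta c v ≠ 0 := by
    by_contra hh
    push Not at hh
    exact h0 (D.beta_nondeg hc hh)
  set v' := D.beta c v • v with hv'
  have hv1 : D.beta c v' = 1 := by
    rw [hv', Data.beta, map_smul, map_smul, smul_eq_mul]
    exact zmod3_sq _ hcv
  have hvX : v' ∈ D.X := Submodule.smul_mem _ _ hv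
  refine ⟨⟨D, D', h, hp, c, v' + D.beta v' v' • c, hc, add_mem hvX (Submodule.smul_mem _ _ hc), hcc, ?_, ?_,
    he.symm⟩, rfl, rfl⟩
  · have h1 : D.beta v' c = 1 := by rw [D.beta_comm, hv1]
    simp only [Data.beta, map_add, map_smul, LinearMap.add_apply, LinearMap.smul_apply, smul_eq_mul] at h1 hv1 hcc ⊢
    rw [h1, hv1, hcc]
    generalize D.b v' (D.psi (Data.E 1 0) v') = q
    revert q; decide
  · simp only [Data.beta, map_add, map_smul, smul_eq_mul] at hv1 hcc ⊢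
    rw [hv1, hcc, mul_zero, add_zero]

namespace Fr

variable (F : Fr G)

/-- The centre. -/
abbrev z : G := F.D.z

/-- The first plane. -/
abbrev V1 : Subgroup G := F.D.pl F.c

/-- The second plane. -/
abbrev V2 : Subgroup G := F.D.pl F.d

theorem c_ne : F.c ≠ 0 := fun h => by
  have := F.cd; rw [h, Data.beta, map_zero, LinearMap.zero_apply] at this; exact zero_ne_one this

theorem d_ne : F.d ≠ 0 := fun h => by
  have := F.cd; rw [h, Data.beta, map_zero, map_zero] at this; exact zero_ne_one this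

theorem dc : F.D.beta F.d F.c = 1 := by rw [F.D.beta_comm, F.cd]

theorem isPlane_V1 : F.D.IsPlane F.V1 := F.D.isPlane_pl F.hc F.c_ne F.cc

theorem isPlane_V2 : F.D.IsPlane F.V2 := F.D.isPlane_pl F.hd F.d_ne F.dd

theorem coords (w : F.D.W) : ∃ u v, w = F.D.emb F.c u + F.D.emb F.d v := by
  haveI : Finite F.D.W := Nat.finite_of_card_ne_zero (by rw [F.D.card_W]; norm_num)
  haveI := Fintype.ofFinite F.D.W
  let f : (Fin 2 → ZMod 3) × (Fin 2 → ZMod 3) → F.D.W := fun p => F.D.emb F.c p.1 + F.D.emb F.d p.2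
  have hf : Function.Injective f := by
    rintro ⟨u, v⟩ ⟨u', v'⟩ e
    have e' : F.D.emb F.c (u - u') + F.D.emb F.d (v - v') = 0 := by
      have e0 : F.D.emb F.c u + F.D.emb F.d v = F.D.emb F.c u' + F.D.emb F.d v' := e
      rw [← sub_eq_zero] at e0
      rw [← e0, map_sub, map_sub]; abel
    have key : ∀ p : Fin 2 → ZMod 3, (p 0 * (v - v') 1 - p 1 * (v - v') 0) = 0 ∧ ((u - u') 0 * p 1 - (u - u') 1 * p 0) = 0 := by
      intro p
      have h1 := congrArg (F.D.b (F.D.emb F.c p)) e'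
      have h2 := congrArg (fun w => F.D.b w (F.D.emb F.d p)) e'
      simp only [map_add, map_zero, LinearMap.add_apply, LinearMap.zero_apply, F.D.b_emb F.hc F.hc,
        F.D.b_emb F.hc F.hd, F.D.b_emb F.hd F.hd, F.cc, F.dd, F.cd, mul_zero, mul_one, zero_add, add_zero] at h1 h2
      exact ⟨h1, h2⟩
    have h0 := key ![1, 0]
    have h1 := key ![0, 1]
    simp [sub_eq_zero] at h0 h1
    refine Prod.ext (funext fun i => ?_) (funext fun i => ?_) <;> fin_cases i <;>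
      first | exact h0.1 | exact h0.2.symm | exact h1.1.symm | exact h1.2
  obtain ⟨⟨u, v⟩, h⟩ := ((Fintype.bijective_iff_injective_and_card f).2 ⟨hf, by
    rw [← Nat.card_eq_fintype_card, ← Nat.card_eq_fintype_card, F.D.card_W, Nat.card_prod, Nat.card_fun,
      Nat.card_zmod, Nat.card_fin]; norm_num⟩).2 w
  exact ⟨u, v, h.symm⟩

theorem V1_inf_V2 {x : G} (h1 : x ∈ F.V1) (h2 : x ∈ F.V2) : x ∈ zpowers F.z := by
  obtain ⟨hx, u, hu⟩ := h1
  obtain ⟨_, v, hv⟩ := h2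
  refine (F.D.cl_eq_zero (x := ⟨x, hx⟩)).1 (F.D.b_nondeg fun w => ?_)
  obtain ⟨p, q, rfl⟩ := F.coords w
  have e1 : F.D.b (F.D.cl ⟨x, hx⟩) (F.D.emb F.c p) = 0 := by rw [hu, F.D.b_emb F.hc F.hc, F.cc, mul_zero]
  have e2 : F.D.b (F.D.cl ⟨x, hx⟩) (F.D.emb F.d q) = 0 := by rw [hv, F.D.b_emb F.hd F.hd, F.dd, mul_zero]
  rw [map_add, e1, e2, add_zero]

theorem plane_cases {V : Subgroup G} (hV : F.D.IsPlane V) : V = F.V1 ∨ V = F.V2 := by
  obtain ⟨e, heX, he0, hee, rfl⟩ := hV.exists_pl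
  obtain ⟨u, v, huv⟩ := F.coords e
  obtain ⟨-, -, h3, h4⟩ := F.D.E_on_X F.hc
  obtain ⟨-, -, g3, g4⟩ := F.D.E_on_X F.hd
  have he : e = u 0 • F.c + v 0 • F.d := by
    rw [← F.D.mem_X.1 heX, huv]
    simp only [Data.emb, LinearMap.coe_mk, AddHom.coe_mk, map_add, map_smul, F.D.mem_X.1 F.hc, F.D.mem_X.1 F.hd, h4,
      g4, smul_zero, add_zero]
  have hz : u 0 = 0 ∨ v 0 = 0 := by
    have hcc := F.cc
    have hdd := F.dd
    have hcd := F.cd
    have hdc := F.dc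
    simp only [Data.beta] at hee hcc hdd hcd hdc
    rw [he] at hee
    simp only [map_add, map_smul, LinearMap.add_apply, LinearMap.smul_apply, smul_eq_mul, hcc, hdd, hcd, hdc] at hee
    revert hee
    generalize u 0 = a
    generalize v 0 = b
    revert a b; decide
  have key : ∀ {k : ZMod 3} {f : F.D.W}, k ≠ 0 → F.D.pl (k • f) = F.D.pl f := by
    intro k f hk
    have hs : ∀ w, F.D.emb (k • f) w = F.D.emb f (k • w) := fun w => by
      simp only [Data.emb, LinearMap.coe_mk, AddHom.coe_mk, map_smul, Pi.smul_apply]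
      module
    ext x
    refine exists_congr fun hx => ⟨fun ⟨w, hw⟩ => ⟨k • w, hw.trans (hs w)⟩, fun ⟨w, hw⟩ => ⟨k • w, ?_⟩⟩
    rw [hw, hs, smul_smul, zmod3_sq k hk, one_smul]
  rcases hz with h | h
  · rw [h, zero_smul, zero_add] at he
    have hv : v 0 ≠ 0 := fun h' => he0 (by rw [he, h', zero_smul])
    exact Or.inr (by rw [he, key hv])
  · rw [h, zero_smul, add_zero] at he
    have hv : u 0 ≠ 0 := fun h' => he0 (by rw [he, h', zero_smul])
    exact Or.inl (by rw [he, key hv])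

theorem pure_mem_Q {y : G} (hy : y ∈ F.D.Q) (hp : F.D.Pure y) : y ∈ F.V1 ∨ y ∈ F.V2 := by
  by_cases hz : y ∈ zpowers F.z
  · exact Or.inl (F.D.zp_le_pl _ hz)
  obtain ⟨E, rfl⟩ := hp.exists_data
  have hl : Linked F.D E := ⟨hy, hz⟩
  rcases F.plane_cases hl.isPlane with h | h
  · exact Or.inl (h ▸ hl.z'_mem)
  · exact Or.inr (h ▸ hl.z'_mem)

end Fr

end Cfsg.Lib.LFourThree
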