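import Cfsg.Agent.Lib.LFourThree.Plane
import Cfsg.Agent.Lib.Core.Cores
import Cfsg.Prelude.Def_Transfer

/-!
# The frame from the hypotheses of the recognition theorem

Two non-trivial chief factors of `C` on `Q / Z` force both to be natural, so the involution of the quotient inverts
`Q / Z`.
-/

set_option autoImplicit false
set_option linter.unusedSectionVars false
set_option linter.style.haveILetI false

namespace Cfsg.Lib.LFourThree

open Subgroup Matrix Cfsg.Lib.PSpThree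

universe u

/-- The lower generator. -/
def lU : SL23 := ⟨!![1, 0; 1, 1], by decide⟩

theorem sl23_word : ∀ A : SL23, ∃ i j k l : Fin 3, A = uU ^ i.val * lU ^ j.val * uU ^ k.val * lU ^ l.val := by
  decide +kernel

theorem sl23_relations : uU * uU * uU = 1 ∧ lU * lU * lU = 1 ∧ uU * lU * (uU * lU) = -1 := by decide +kernel

theorem mat_two_facts : ∀ P R : Matrix (Fin 2) (Fin 2) (ZMod 3), P * P * P = 1 → R * R * R = 1 →
    P * R * (P * R) = 1 → R = P * P := by
  decide +kernel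

theorem mat_two_fixed : ∀ P : Matrix (Fin 2) (Fin 2) (ZMod 3), P * P * P = 1 →
    ∃ v : Fin 2 → ZMod 3, v ≠ 0 ∧ P *ᵥ v = v := by
  decide +kernel

theorem mat_one_facts : ∀ P : Matrix (Fin 1) (Fin 1) (ZMod 3), P * P * P = 1 → P = 1 := by decide +kernel

/-- A three-group module of order three, or of order nine with trivial central involution, has a fixed vector. -/
theorem exists_fixed {V : Type u} [AddCommGroup V] [Module (ZMod 3) V] [Finite V] (ρ : SL23 →* Module.End (ZMod 3) V)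
    (h : Nat.card V = 3 ∨ Nat.card V = 9 ∧ ρ (-1) = 1) : ∃ v : V, v ≠ 0 ∧ ∀ A, ρ A v = v := by
  obtain ⟨r1, r2, r3⟩ := sl23_relations
  have hP : ρ uU * ρ uU * ρ uU = 1 := by rw [← map_mul, ← map_mul, r1, map_one]
  have hR : ρ lU * ρ lU * ρ lU = 1 := by rw [← map_mul, ← map_mul, r2, map_one]
  suffices hs : ∃ v : V, v ≠ 0 ∧ ρ uU v = v ∧ ρ lU v = v by
    obtain ⟨v, hv, hu, hl⟩ := hs
    have hpow : ∀ (f : Module.End (ZMod 3) V), f v = v → ∀ n : ℕ, (f ^ n) v = v := by
      intro f hf n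
      induction n with
      | zero => rfl
      | succ n ih => rw [pow_succ, Module.End.mul_apply, hf, ih]
    refine ⟨v, hv, fun A => ?_⟩
    obtain ⟨i, j, k, l, rfl⟩ := sl23_word A
    simp only [map_mul, map_pow, Module.End.mul_apply, hpow _ hu, hpow _ hl]
  rcases h with h3 | ⟨h9, hneg⟩
  · have hr : Module.finrank (ZMod 3) V = Module.finrank (ZMod 3) (Fin 1 → ZMod 3) := by
      have := Module.natCard_eq_pow_finrank (K := ZMod 3) (V := V)
      rw [h3, Nat.card_zmod] at this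
      rw [Module.finrank_fintype_fun_eq_card, Fintype.card_fin]
      exact (Nat.pow_right_injective (show 2 ≤ 3 by norm_num) (show 3 ^ 1 = 3 ^ _ by rw [pow_one]; exact this)).symm
    obtain φ := LinearEquiv.ofFinrankEq V (Fin 1 → ZMod 3) hr
    let Φ : Module.End (ZMod 3) V →* Matrix (Fin 1) (Fin 1) (ZMod 3) :=
      (LinearMap.toMatrixAlgEquiv'.toAlgHom.comp (φ.conjAlgEquiv (ZMod 3)).toAlgHom).toMonoidHom
    have hΦ : Function.Injective Φ := LinearMap.toMatrixAlgEquiv'.injective.comp (φ.conjAlgEquiv (ZMod 3)).injective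
    have e1 : ρ uU = 1 := hΦ (by rw [map_one]; exact mat_one_facts _ (by rw [← map_mul, ← map_mul, hP, map_one]))
    have e2 : ρ lU = 1 := hΦ (by rw [map_one]; exact mat_one_facts _ (by rw [← map_mul, ← map_mul, hR, map_one]))
    refine ⟨φ.symm (fun _ => 1), fun h0 => ?_, by rw [e1]; rfl, by rw [e2]; rfl⟩
    have := congrFun (φ.symm.map_eq_zero_iff.1 h0) 0
    exact one_ne_zero this
  · have hr : Module.finrank (ZMod 3) V = Module.finrank (ZMod 3) (Fin 2 → ZMod 3) := by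
      have := Module.natCard_eq_pow_finrank (K := ZMod 3) (V := V)
      rw [h9, Nat.card_zmod] at this
      rw [Module.finrank_fintype_fun_eq_card, Fintype.card_fin]
      exact (Nat.pow_right_injective (show 2 ≤ 3 by norm_num) (show 3 ^ 2 = 3 ^ _ by rw [← this])).symm
    obtain φ := LinearEquiv.ofFinrankEq V (Fin 2 → ZMod 3) hr
    let Φ : Module.End (ZMod 3) V →* Matrix (Fin 2) (Fin 2) (ZMod 3) :=
      (LinearMap.toMatrixAlgEquiv'.toAlgHom.comp (φ.conjAlgEquiv (ZMod 3)).toAlgHom).toMonoidHom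
    have hΦ : Function.Injective Φ := LinearMap.toMatrixAlgEquiv'.injective.comp (φ.conjAlgEquiv (ZMod 3)).injective
    have hPR : ρ uU * ρ lU * (ρ uU * ρ lU) = 1 := by rw [← map_mul, ← map_mul, r3, hneg]
    have hR2 : ρ lU = ρ uU * ρ uU := hΦ (by
      rw [map_mul]
      exact mat_two_facts _ _ (by rw [← map_mul, ← map_mul, hP, map_one])
        (by rw [← map_mul, ← map_mul, hR, map_one]) (by rw [← map_mul, ← map_mul, hPR, map_one]))
    obtain ⟨w, hw, hPw⟩ := mat_two_fixed (Φ (ρ uU)) (by rw [← map_mul, ← map_mul, hP, map_one])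
    have hu : ρ uU (φ.symm w) = φ.symm w := φ.injective (by
      rw [LinearEquiv.apply_symm_apply]
      conv_rhs => rw [← hPw]
      show _ = LinearMap.toMatrixAlgEquiv' (φ.conjAlgEquiv (ZMod 3) (ρ uU)) *ᵥ w
      rw [← Matrix.toLinAlgEquiv'_apply, Matrix.toLinAlgEquiv'_toMatrixAlgEquiv']
      rfl)
    refine ⟨φ.symm w, fun h0 => hw (φ.symm.map_eq_zero_iff.1 h0), hu, ?_⟩
    rw [hR2, Module.End.mul_apply, hu, hu]

/-- A section of `Q` over the centre, with the conjugation action of the quotient. -/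
theorem step_facts {G : Type u} [Group G] [Finite G] {z : G} {Q : Subgroup G}
    (hcomm : ∀ x ∈ Q, ∀ y ∈ Q, x * y * x⁻¹ * y⁻¹ ∈ zpowers z) (hexp : ∀ x ∈ Q, x ^ 3 = 1)
    (π : centralizer ({z} : Set G) →* SL23) (hs : Function.Surjective π) (hk : ∀ c, π c = 1 ↔ (c : G) ∈ Q)
    {lo hi : Subgroup G} (hz : zpowers z ≤ lo) (hle : lo ≤ hi) (hQ : hi ≤ Q)
    (hlo : ∀ c : centralizer ({z} : Set G), ∀ x ∈ lo, (c : G) * x * (c : G)⁻¹ ∈ lo)
    (hhi : ∀ c : centralizer ({z} : Set G), ∀ x ∈ hi, (c : G) * x * (c : G)⁻¹ ∈ hi)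
    (hfix : ∀ x ∈ hi, (∀ c : centralizer ({z} : Set G), (c : G) * x * (c : G)⁻¹ * x⁻¹ ∈ lo) → x ∈ lo) :
    lo.relIndex hi ≠ 3 ∧ (lo.relIndex hi = 9 → ∀ c : centralizer ({z} : Set G), π c = -1 →
      ∃ x ∈ hi, (c : G) * x * (c : G)⁻¹ * x⁻¹ ∉ lo) := by
  let N : Subgroup hi := lo.subgroupOf hi
  haveI hN : N.Normal := ⟨fun x hx g => mem_subgroupOf.2 (by
    have h1 : ((g : hi) : G) * x * (g : G)⁻¹ = ((g : G) * x * (g : G)⁻¹ * (x : G)⁻¹) * x := by group
    show (g : G) * x * (g : G)⁻¹ ∈ lo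
    rw [h1]
    exact mul_mem (hz (hcomm _ (hQ g.2) _ (hQ x.2))) (mem_subgroupOf.1 hx))⟩
  letI : CommGroup (hi ⧸ N) :=
    { (inferInstance : Group (hi ⧸ N)) with
      mul_comm := by
        intro a b
        induction a using QuotientGroup.induction_on with
        | H x => induction b using QuotientGroup.induction_on with
          | H y =>
            refine QuotientGroup.eq.2 (mem_subgroupOf.2 (hz ?_))
            simpa [mul_assoc] using hcomm _ (inv_mem (hQ y.2)) _ (inv_mem (hQ x.2)) }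
  have h3 : ∀ w : Additive (hi ⧸ N), 3 • w = 0 := by
    intro w
    obtain ⟨x, rfl⟩ := QuotientGroup.mk_surjective (Additive.toMul w)
    show Additive.ofMul ((QuotientGroup.mk x : hi ⧸ N) ^ 3) = 0
    rw [← QuotientGroup.mk_pow, show x ^ 3 = 1 from Subtype.ext (hexp x (hQ x.2))]
    rfl
  letI : Module (ZMod 3) (Additive (hi ⧸ N)) := AddCommGroup.zmodModule h3
  let cj : centralizer ({z} : Set G) → hi →* hi := fun c =>
    { toFun := fun x => ⟨(c : G) * x * (c : G)⁻¹, hhi c x x.2⟩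
      map_one' := Subtype.ext (by simp)
      map_mul' := fun x y => Subtype.ext (by simp [mul_assoc]) }
  let act : centralizer ({z} : Set G) → Module.End (ZMod 3) (Additive (hi ⧸ N)) := fun c =>
    AddMonoidHom.toZModLinearMap 3 (MonoidHom.toAdditive (QuotientGroup.map N N (cj c) fun x hx =>
      Subgroup.mem_comap.2 (mem_subgroupOf.2 (hlo c _ (mem_subgroupOf.1 hx)))))
  have act_mk : ∀ c (x : hi), act c (Additive.ofMul (QuotientGroup.mk x : hi ⧸ N)) =
      Additive.ofMul (QuotientGroup.mk (cj c x)) := fun c x => rfl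
  have hsurj : ∀ w : Additive (hi ⧸ N), ∃ x : hi, Additive.ofMul (QuotientGroup.mk x : hi ⧸ N) = w := fun w =>
    QuotientGroup.mk_surjective (Additive.toMul w)
  have act_one : act 1 = 1 := by
    refine LinearMap.ext fun w => ?_
    obtain ⟨x, rfl⟩ := hsurj w
    rw [act_mk]
    exact congrArg (fun y : hi => Additive.ofMul (QuotientGroup.mk y : hi ⧸ N)) (Subtype.ext (by simp [cj]))
  have act_mul : ∀ a b, act (a * b) = act a * act b := by
    intro a b
    refine LinearMap.ext fun w => ?_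
    obtain ⟨x, rfl⟩ := hsurj w
    rw [Module.End.mul_apply, act_mk, act_mk, act_mk]
    exact congrArg (fun y : hi => Additive.ofMul (QuotientGroup.mk y : hi ⧸ N))
      (Subtype.ext (by simp [cj, mul_assoc]))
  let A : centralizer ({z} : Set G) →* Module.End (ZMod 3) (Additive (hi ⧸ N)) :=
    { toFun := act, map_one' := act_one, map_mul' := act_mul }
  have act_Q : ∀ c, π c = 1 → act c = 1 := by
    intro c hc
    refine LinearMap.ext fun w => ?_
    obtain ⟨x, rfl⟩ := hsurj w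
    rw [act_mk, Module.End.one_apply]
    refine congrArg Additive.ofMul (QuotientGroup.eq.2 (mem_subgroupOf.2 (hz ?_)))
    have := hcomm _ ((hk c).1 hc) _ (inv_mem (hQ x.2))
    simpa [cj, mul_assoc] using this
  have hcongr : ∀ a b, π a = π b → act a = act b := by
    intro a b hab
    have h1 : π (a⁻¹ * b) = 1 := by rw [map_mul, map_inv, hab, inv_mul_cancel]
    rw [show b = a * (a⁻¹ * b) by group, act_mul, act_Q _ h1, mul_one]
  choose lift hlift using hs
  let ρ : SL23 →* Module.End (ZMod 3) (Additive (hi ⧸ N)) :=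
    { toFun := fun a => act (lift a)
      map_one' := by rw [← act_one]; exact hcongr _ _ (by rw [hlift, map_one])
      map_mul' := fun a b => by rw [← act_mul]; exact hcongr _ _ (by rw [hlift, map_mul, hlift, hlift]) }
  have hρ : ∀ c, ρ (π c) = act c := fun c => hcongr _ _ (hlift _)
  have hcard : Nat.card (Additive (hi ⧸ N)) = lo.relIndex hi := by
    rw [Nat.card_congr Additive.toMul]; rfl
  have hconj : ∀ x ∈ hi, ∀ e ∈ lo, x * e * x⁻¹ ∈ lo := by
    intro x hx e he
    rw [show x * e * x⁻¹ = (x * e * x⁻¹ * e⁻¹) * e by group]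
    exact mul_mem (hz (hcomm _ (hQ hx) _ (hQ (hle he)))) he
  have key : ∀ v : Additive (hi ⧸ N), v ≠ 0 → (∀ a, ρ a v = v) → False := by
    intro v hv hva
    obtain ⟨x, rfl⟩ := hsurj v
    refine hv (congrArg Additive.ofMul ((QuotientGroup.eq_one_iff x).2 (mem_subgroupOf.2 (hfix x x.2 fun c => ?_))))
    have h := hva (π c)
    rw [hρ, act_mk] at h
    have e : (x : G)⁻¹ * ((c : G) * x * (c : G)⁻¹) ∈ lo :=
      mem_subgroupOf.1 (QuotientGroup.eq.1 (Additive.ofMul.injective h).symm)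
    rw [show (c : G) * x * (c : G)⁻¹ * (x : G)⁻¹ = (x : G) * ((x : G)⁻¹ * ((c : G) * x * (c : G)⁻¹)) * (x : G)⁻¹ by
      group]
    exact hconj _ x.2 _ e
  refine ⟨fun h => ?_, fun h c hc => ?_⟩
  · obtain ⟨v, hv, hva⟩ := exists_fixed ρ (Or.inl (hcard.trans h))
    exact key v hv hva
  · by_contra hno
    push Not at hno
    have hneg : ρ (-1) = 1 := by
      rw [← hc, hρ]
      refine LinearMap.ext fun w => ?_
      obtain ⟨x, rfl⟩ := hsurj w
      rw [act_mk, Module.End.one_apply]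
      refine congrArg Additive.ofMul (QuotientGroup.eq.2 (mem_subgroupOf.2 ?_))
      have h1 := hconj _ (inv_mem x.2) _ (inv_mem (hno x x.2))
      show ((c : G) * x * (c : G)⁻¹)⁻¹ * x ∈ lo
      convert h1 using 1
      group
    obtain ⟨v, hv, hva⟩ := exists_fixed ρ (Or.inr ⟨hcard.trans h, hneg⟩)
    exact key v hv hva

/-- The index of a chain is the product of its steps. -/
theorem relIndex_chain {G : Type u} [Group G] : ∀ (r : ℕ) (A : Fin (r + 1) → Subgroup G),
    Monotone A → (A 0).relIndex (A (Fin.last r)) = ∏ i : Fin r, (A i.castSucc).relIndex (A i.succ) := by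
  intro r
  induction r with
  | zero => intro A _; simp [Subgroup.relIndex_self]
  | succ r ih =>
    intro A hA
    rw [Fin.prod_univ_castSucc]
    have h := ih (fun i => A i.castSucc) (fun a b hab => hA (Fin.castSucc_le_castSucc_iff.2 hab))
    simp only [Fin.succ_castSucc, Fin.castSucc_zero] at h ⊢
    rw [← h, Fin.succ_last]
    exact (Subgroup.relIndex_mul_relIndex _ _ _ (hA (Fin.zero_le _)) (hA (Fin.le_last _))).symm

theorem dvd_81 : ∀ n : ℕ, n ∣ 81 → n = 1 ∨ n = 3 ∨ n = 9 ∨ 27 ≤ n := by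
  intro n h
  have hn : n ∈ Nat.divisors 81 := Nat.mem_divisors.2 ⟨h, by norm_num⟩
  clear h; revert n
  decide +kernel

/-- The literal hypotheses give a frame. -/
theorem exists_frame {G : Type*} [Group G] [Finite G]
    (S : Sylow 3 G) (Z : Subgroup G) (hZ : Z = (S : Subgroup G) ⊓ Subgroup.centralizer ((S : Subgroup G) : Set G))
    (C : Subgroup G) (hCZ : C = Subgroup.centralizer (Z : Set G))
    (Q : Subgroup G) (hQ : Q = (Cfsg.pCore 3 C).map C.subtype)
    (hQex : Cfsg.IsExtraspecial 3 Q) (hQcard : Nat.card Q = 3 ^ 5) (hQexp : ∀ a ∈ Q, a ^ 3 = 1)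
    (hCQ : Subgroup.centralizer (Q : Set G) ≤ Q)
    (hZQ : ∃ x : G, Z.map (MulAut.conj x).toMonoidHom ≤ Q ∧ Z.map (MulAut.conj x).toMonoidHom ≠ Z)
    (K : Subgroup G) (hK : K = ((Cfsg.pResidual 2 (C ⧸ Cfsg.pCore 3 C)).comap (QuotientGroup.mk' (Cfsg.pCore 3 C))).map C.subtype)
    (r : ℕ) (A : Fin (r + 1) → Subgroup G) (hA0 : A 0 = Z) (hAr : A (Fin.last r) = Q)
    (hmono : ∀ i : Fin r, A i.castSucc < A i.succ)
    (hinv : ∀ i : Fin (r + 1), ∀ k ∈ K, ∀ a ∈ A i, k * a * k⁻¹ ∈ A i)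
    (hmax : ∀ i : Fin r, ∀ B : Subgroup G, A i.castSucc < B → B < A i.succ → ∃ k ∈ K, ∃ b ∈ B, k * b * k⁻¹ ∉ B)
    (e : C ⧸ Cfsg.pCore 3 C ≃* Matrix.SpecialLinearGroup (Fin 2) (ZMod 3))
    (htwo : ∃ i j : Fin r, i ≠ j ∧ (∃ k ∈ K, ∃ a ∈ A i.succ, k * a * k⁻¹ * a⁻¹ ∉ A i.castSucc) ∧ (∃ k ∈ K, ∃ a ∈ A j.succ, k * a * k⁻¹ * a⁻¹ ∉ A j.castSucc) ∧
      ∀ l : Fin r, (∃ k ∈ K, ∃ a ∈ A l.succ, k * a * k⁻¹ * a⁻¹ ∉ A l.castSucc) → l = i ∨ l = j) :
    Nonempty (Fr G) := by
  classical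
  haveI : Fact (Nat.Prime 3) := ⟨Nat.prime_three⟩
  -- the centre
  have hQC : Q ≤ C := hQ ▸ Subgroup.map_subtype_le _
  have cQ : Nat.card (Cfsg.pCore 3 C) = 243 := by
    rw [← Subgroup.card_map_of_injective (f := C.subtype) C.subtype_injective, ← hQ, hQcard]; norm_num
  have hSC : (S : Subgroup G) ≤ C := by
    rw [hCZ]
    intro s hs
    refine mem_centralizer_iff.2 fun y hy => ?_
    rw [hZ] at hy
    exact (mem_centralizer_iff.1 hy.2 s hs).symm
  have hQS : Q ≤ S := by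
    intro y hy
    rw [hQ] at hy
    obtain ⟨c, hc, rfl⟩ := hy
    exact mem_subgroupOf.1 (Cfsg.Lib.Core.pCore_le_sylow (S.subtype hSC) hc)
  have hZQc : ∀ y ∈ Z, ∀ q ∈ Q, q * y = y * q := fun y hy q hq => by
    rw [hZ] at hy
    exact mem_centralizer_iff.1 hy.2 q (hQS hq)
  have hZleQ : Z ≤ Q := fun y hy => hCQ (mem_centralizer_iff.2 fun q hq => hZQc y hy q hq)
  have hcenQ : Nat.card (Subgroup.center Q) = 3 := hQex.2
  have hZmap : Z ≤ (Subgroup.center Q).map Q.subtype := fun y hy =>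
    ⟨⟨y, hZleQ hy⟩, Subgroup.mem_center_iff.2 fun q => Subtype.ext (hZQc y hy q q.2), rfl⟩
  have hmcard : Nat.card ((Subgroup.center Q).map Q.subtype) = 3 := by
    rw [Subgroup.card_map_of_injective Q.subtype_injective, hcenQ]
  have hZ1 : Z ≠ ⊥ := by
    intro h0
    have hne : (S : Subgroup G) ≠ ⊥ := fun h => by
      have := Subgroup.card_le_of_le (hQS)
      rw [h, Subgroup.card_bot, hQcard] at this
      norm_num at this
    haveI : Nontrivial (S : Subgroup G) := (Subgroup.nontrivial_iff_ne_bot _).2 hne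
    haveI := S.isPGroup'.center_nontrivial
    obtain ⟨⟨⟨c, hcS⟩, hc⟩, hc1⟩ := exists_ne (1 : Subgroup.center (S : Subgroup G))
    refine hc1 (Subtype.ext (Subtype.ext ?_))
    have hmem : c ∈ Z := by
      rw [hZ]
      exact ⟨hcS, mem_centralizer_iff.2 fun s hs => congrArg Subtype.val (Subgroup.mem_center_iff.1 hc ⟨s, hs⟩)⟩
    rw [h0] at hmem
    exact hmem
  have hZeq : Z = (Subgroup.center Q).map Q.subtype := by
    refine eq_of_le_of_card_ge hZmap ?_
    rw [hmcard]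
    have h := Subgroup.card_dvd_of_le hZmap
    rw [hmcard] at h
    rcases (Nat.dvd_prime Nat.prime_three).1 h with h | h
    · exact absurd (Subgroup.card_eq_one.1 h) hZ1
    · omega
  have hZ3 : Nat.card Z = 3 := hZeq ▸ hmcard
  obtain ⟨z, hzZ, hz1⟩ : ∃ z ∈ Z, z ≠ 1 := by
    by_contra hno
    push Not at hno
    exact hZ1 ((Subgroup.eq_bot_iff_forall _).2 hno)
  have hoz : orderOf z = 3 := by
    refine orderOf_eq_prime ?_ hz1
    rw [← hZ3]
    exact congrArg Subtype.val (pow_card_eq_one' (x := (⟨z, hzZ⟩ : Z)))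
  have hzp : zpowers z = Z := eq_of_le_of_card_ge (zpowers_le.2 hzZ) (by rw [Nat.card_zpowers, hoz, hZ3])
  have hC : C = centralizer ({z} : Set G) := by
    rw [hCZ, ← hzp]
    exact le_antisymm (centralizer_le (by simp)) fun g hg => mem_centralizer_iff.2 fun y hy => by
      obtain ⟨n, rfl⟩ := hy
      exact ((show Commute z g from (mem_centralizer_singleton_iff.1 hg).symm).zpow_left n).eq
  have hcomm : ∀ x ∈ Q, ∀ y ∈ Q, x * y * x⁻¹ * y⁻¹ ∈ zpowers z := by
    intro x hx y hy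
    rw [hzp, hZeq, ← hQex.1.2.2]
    exact ⟨_, Subgroup.commutator_mem_commutator (Subgroup.mem_top (⟨x, hx⟩ : Q)) (Subgroup.mem_top ⟨y, hy⟩), rfl⟩
  let π : centralizer ({z} : Set G) →* SL23 :=
    (e.toMonoidHom.comp (QuotientGroup.mk' _)).comp (MulEquiv.subgroupCongr hC).symm.toMonoidHom
  have hπs : Function.Surjective π :=
    (e.surjective.comp (QuotientGroup.mk'_surjective _)).comp (MulEquiv.subgroupCongr hC).symm.surjective
  have hπk : ∀ c, π c = 1 ↔ (c : G) ∈ Q := by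
    intro c
    show e (QuotientGroup.mk' _ ((MulEquiv.subgroupCongr hC).symm c)) = 1 ↔ _
    rw [e.map_eq_one_iff, QuotientGroup.mk'_apply, QuotientGroup.eq_one_iff, hQ]
    constructor
    · exact fun h => ⟨_, h, rfl⟩
    · rintro ⟨d, hd, hdc⟩
      rwa [show d = (MulEquiv.subgroupCongr hC).symm c from Subtype.ext hdc] at hd
  -- every element of the quotient is a product of elements of odd order
  have hKC : ∀ c : centralizer ({z} : Set G), (c : G) ∈ K := by
    have hgen : ∀ q : C ⧸ Cfsg.pCore 3 C, q ∈ Cfsg.pResidual 2 (C ⧸ Cfsg.pCore 3 C) := by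
      have h3 : ∀ s : SL23, s * s * s = 1 → e.symm s ∈ Cfsg.pResidual 2 (C ⧸ Cfsg.pCore 3 C) := by
        intro s hs
        refine Subgroup.subset_closure ?_
        show Nat.Coprime (orderOf (e.symm s)) 2
        refine Nat.Coprime.coprime_dvd_left (orderOf_dvd_of_pow_eq_one (n := 3) ?_) (by norm_num)
        rw [← map_pow, pow_succ, pow_two, hs, map_one]
      intro q
      obtain ⟨i, j, k, l, hw⟩ := sl23_word (e q)
      rw [← e.symm_apply_apply q, hw, map_mul, map_mul, map_mul, map_pow, map_pow, map_pow, map_pow]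
      have hu := h3 _ sl23_relations.1
      have hl := h3 _ sl23_relations.2.1
      exact mul_mem (mul_mem (mul_mem (pow_mem hu _) (pow_mem hl _)) (pow_mem hu _)) (pow_mem hl _)
    intro c
    rw [hK]
    exact ⟨(MulEquiv.subgroupCongr hC).symm c, hgen _, rfl⟩
  have hKle : ∀ k ∈ K, ∃ c : centralizer ({z} : Set G), (c : G) = k := by
    intro k hk
    rw [hK] at hk
    obtain ⟨d, -, rfl⟩ := hk
    exact ⟨MulEquiv.subgroupCongr hC d, rfl⟩
  -- the chain
  have hA : Monotone A := (Fin.strictMono_iff_lt_succ.2 hmono).monotone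
  have hlo : ∀ m, zpowers z ≤ A m := fun m => by rw [hzp, ← hA0]; exact hA (Fin.zero_le _)
  have hhi : ∀ m, A m ≤ Q := fun m => hAr ▸ hA (Fin.le_last _)
  have hAc : ∀ m, ∀ c : centralizer ({z} : Set G), ∀ x ∈ A m, (c : G) * x * (c : G)⁻¹ ∈ A m :=
    fun m c x hx => hinv m c (hKC c) x hx
  set d : Fin r → ℕ := fun i => (A i.castSucc).relIndex (A i.succ) with hd
  have hprod : ∏ i, d i = 81 := by
    rw [hd, ← relIndex_chain r A hA, hA0, hAr]
    have h := Subgroup.card_mul_index (Z.subgroupOf Q)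
    rw [Nat.card_congr (subgroupOfEquivOfLe hZleQ).toEquiv, hZ3, hQcard] at h
    show (Z.subgroupOf Q).index = 81
    omega
  have hd1 : ∀ i, d i ≠ 1 := fun i h => (hmono i).not_ge (Subgroup.relIndex_eq_one.1 h)
  have hsub : ∀ s : Finset (Fin r), ∏ i ∈ s, d i ∣ 81 := fun s =>
    hprod ▸ Finset.prod_dvd_prod_of_subset _ _ _ (Finset.subset_univ s)
  have hstep : ∀ i : Fin r, (∃ k ∈ K, ∃ a ∈ A i.succ, k * a * k⁻¹ * a⁻¹ ∉ A i.castSucc) →
      d i ≠ 3 ∧ (d i = 9 → ∀ c : centralizer ({z} : Set G), π c = -1 →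
        ∃ x ∈ A i.succ, (c : G) * x * (c : G)⁻¹ * x⁻¹ ∉ A i.castSucc) := by
    rintro i ⟨k, hk, a, ha, hka⟩
    refine step_facts hcomm hQexp π hπs hπk (hlo _) (hmono i).le (hhi _) (hAc _) (hAc _) ?_
    have hcl : ∀ x ∈ A i.succ, ∀ y ∈ A i.castSucc, x * y * x⁻¹ ∈ A i.castSucc := fun x hx y hy => by
      rw [show x * y * x⁻¹ = (x * y * x⁻¹ * y⁻¹) * y by group]
      exact mul_mem (hlo _ (hcomm _ (hhi _ hx) _ (hhi _ hy))) hy
    let B : Subgroup G :=
      { carrier := {x | x ∈ A i.succ ∧ ∀ c : centralizer ({z} : Set G), (c : G) * x * (c : G)⁻¹ * x⁻¹ ∈ A i.castSucc}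
        one_mem' := ⟨one_mem _, fun c => by simp⟩
        mul_mem' := fun {x y} hx hy => ⟨mul_mem hx.1 hy.1, fun c => by
          rw [show (c : G) * (x * y) * (c : G)⁻¹ * (x * y)⁻¹ =
            ((c : G) * x * (c : G)⁻¹ * x⁻¹) * (x * ((c : G) * y * (c : G)⁻¹ * y⁻¹) * x⁻¹) by group]
          exact mul_mem (hx.2 c) (hcl x hx.1 _ (hy.2 c))⟩
        inv_mem' := fun {x} hx => ⟨inv_mem hx.1, fun c => by
          rw [show (c : G) * x⁻¹ * (c : G)⁻¹ * x⁻¹⁻¹ = x⁻¹ * ((c : G) * x * (c : G)⁻¹ * x⁻¹)⁻¹ * x⁻¹⁻¹ by group]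
          exact hcl _ (inv_mem hx.1) _ (inv_mem (hx.2 c))⟩ }
    intro x hx hxc
    by_contra hxlo
    have hleB : A i.castSucc ≤ B := fun y hy => ⟨(hmono i).le hy, fun c => mul_mem (hAc _ c y hy) (inv_mem hy)⟩
    rcases eq_or_lt_of_le (show B ≤ A i.succ from fun y hy => hy.1) with hB | hB
    · obtain ⟨c, rfl⟩ := hKle k hk
      exact hka ((hB.ge ha : a ∈ B).2 c)
    · obtain ⟨k', hk', b, hb, hbn⟩ := hmax i B (lt_of_le_of_ne hleB fun h => hxlo (h ▸ (⟨hx, hxc⟩ : x ∈ B))) hB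
      obtain ⟨c', rfl⟩ := hKle k' hk'
      refine hbn ⟨hAc _ c' b hb.1, fun c => ?_⟩
      have h1 := hAc i.castSucc c' _ (hb.2 (c'⁻¹ * c * c'))
      rw [Subgroup.coe_mul, Subgroup.coe_mul, Subgroup.coe_inv] at h1
      convert h1 using 1
      group
  obtain ⟨i, j, hij, hi, hj, -⟩ := htwo
  have h2 := hsub {i, j}
  rw [Finset.prod_pair hij] at h2
  have hle : ∀ n : Fin r, (∃ k ∈ K, ∃ a ∈ A n.succ, k * a * k⁻¹ * a⁻¹ ∉ A n.castSucc) → 9 ≤ d n := by
    intro n hn
    rcases dvd_81 _ (by simpa using hsub {n}) with h | h | h | h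
    · exact absurd h (hd1 n)
    · exact absurd h (hstep n hn).1
    · omega
    · omega
  have hi9 := hle i hi
  have hj9 := hle j hj
  have h81 := Nat.le_of_dvd (by norm_num) h2
  have ei : d i = 9 := by nlinarith
  have ej : d j = 9 := by nlinarith
  have hall : ∀ l, l = i ∨ l = j := by
    intro l
    by_contra hl
    push Not at hl
    have h3 := hsub {l, i, j}
    rw [Finset.prod_insert (by simp [hl.1, hl.2]), Finset.prod_pair hij, ei, ej] at h3
    exact hd1 l (Nat.eq_one_of_dvd_one ((Nat.mul_dvd_mul_iff_right (show 0 < 9 * 9 by norm_num)).1 (by simpa using h3)))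
  have hdata : ∀ c : centralizer ({z} : Set G), π c = -1 → ∀ x ∈ Q, (c : G) * x * (c : G)⁻¹ * x ∈ zpowers z := by
    intro c hc
    have hfree : ∀ m : Fin (r + 1), ∀ y ∈ A m, (c : G) * y * (c : G)⁻¹ * y⁻¹ ∈ zpowers z → y ∈ zpowers z := by
      intro m
      induction m using Fin.induction with
      | zero => intro y hy _; rwa [hzp, ← hA0]
      | succ n ih =>
        intro y hy hyc
        refine ih y ?_ hyc
        have hn : (∃ k ∈ K, ∃ a ∈ A n.succ, k * a * k⁻¹ * a⁻¹ ∉ A n.castSucc) ∧ d n = 9 := by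
          rcases hall n with rfl | rfl
          exacts [⟨hi, ei⟩, ⟨hj, ej⟩]
        obtain ⟨x0, hx0, hx0c⟩ := (hstep n hn.1).2 hn.2 c hc
        have hcl : ∀ x ∈ A n.succ, ∀ y ∈ A n.castSucc, x * y * x⁻¹ ∈ A n.castSucc := fun x hx y hy => by
          rw [show x * y * x⁻¹ = (x * y * x⁻¹ * y⁻¹) * y by group]
          exact mul_mem (hlo _ (hcomm _ (hhi _ hx) _ (hhi _ hy))) hy
        have hneg : ∀ g : centralizer ({z} : Set G), π g = -1 → ∀ w ∈ A n.castSucc,
            (g : G) * w * (g : G)⁻¹ * w⁻¹ ∈ A n.castSucc := fun g _ w hw => mul_mem (hAc _ g w hw) (inv_mem hw)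
        let B : Subgroup G :=
          { carrier := {x | x ∈ A n.succ ∧ ∀ g : centralizer ({z} : Set G), π g = -1 →
              (g : G) * x * (g : G)⁻¹ * x⁻¹ ∈ A n.castSucc}
            one_mem' := ⟨one_mem _, fun g _ => by simp⟩
            mul_mem' := fun {x y} hx hy => ⟨mul_mem hx.1 hy.1, fun g hg => by
              rw [show (g : G) * (x * y) * (g : G)⁻¹ * (x * y)⁻¹ =
                ((g : G) * x * (g : G)⁻¹ * x⁻¹) * (x * ((g : G) * y * (g : G)⁻¹ * y⁻¹) * x⁻¹) by group]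
              exact mul_mem (hx.2 g hg) (hcl x hx.1 _ (hy.2 g hg))⟩
            inv_mem' := fun {x} hx => ⟨inv_mem hx.1, fun g hg => by
              rw [show (g : G) * x⁻¹ * (g : G)⁻¹ * x⁻¹⁻¹ = x⁻¹ * ((g : G) * x * (g : G)⁻¹ * x⁻¹)⁻¹ * x⁻¹⁻¹ by group]
              exact hcl _ (inv_mem hx.1) _ (inv_mem (hx.2 g hg))⟩ }
        by_contra hynot
        have hleB : A n.castSucc ≤ B := fun w hw => ⟨(hmono n).le hw, fun g hg => hneg g hg w hw⟩
        have hyB : y ∈ B := ⟨hy, fun g hg => by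
          have hq : (c : G)⁻¹ * g ∈ Q := by
            have := (hπk (c⁻¹ * g)).1 (by rw [map_mul, map_inv, hc, hg, inv_mul_cancel])
            simpa using this
          set q := (c : G)⁻¹ * g with hqdef
          have h1 := hlo n.castSucc (hcomm _ hq _ (hhi _ hy))
          have h2 := hAc n.castSucc c _ h1
          have h3 := hlo n.castSucc hyc
          rw [show (g : G) * y * (g : G)⁻¹ * y⁻¹ =
            ((c : G) * (q * y * q⁻¹ * y⁻¹) * (c : G)⁻¹) * ((c : G) * y * (c : G)⁻¹ * y⁻¹) by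
              rw [hqdef]; group]
          exact mul_mem h2 h3⟩
        rcases eq_or_lt_of_le (show B ≤ A n.succ from fun w hw => hw.1) with hB | hB
        · exact hx0c ((hB.ge hx0 : x0 ∈ B).2 c hc)
        · obtain ⟨k', hk', b, hb, hbn⟩ := hmax n B (lt_of_le_of_ne hleB fun h => hynot (h ▸ hyB)) hB
          obtain ⟨c', rfl⟩ := hKle k' hk'
          refine hbn ⟨hAc _ c' b hb.1, fun g hg => ?_⟩
          have hg' : π (c'⁻¹ * g * c') = -1 := by
            rw [map_mul, map_mul, map_inv, hg, mul_assoc, ← sl_facts.2.2.2.2.1, inv_mul_cancel_left]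
          have h1 := hAc n.castSucc c' _ (hb.2 _ hg')
          rw [Subgroup.coe_mul, Subgroup.coe_mul, Subgroup.coe_inv] at h1
          convert h1 using 1
          group
    intro x hx
    have hc2 : (c : G) * c ∈ Q := by
      have := (hπk (c * c)).1 (by rw [map_mul, hc]; exact sl_facts.2.1)
      simpa using this
    have hxc : (c : G) * x * (c : G)⁻¹ ∈ Q := hhi (Fin.last r) (hAc (Fin.last r) c x (hAr ▸ hx))
    refine hfree (Fin.last r) _ (hAr ▸ mul_mem hxc hx) ?_
    rw [show (c : G) * ((c : G) * x * (c : G)⁻¹ * x) * (c : G)⁻¹ * ((c : G) * x * (c : G)⁻¹ * x)⁻¹ =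
      ((c : G) * c * x * ((c : G) * c)⁻¹ * x⁻¹) *
        (x * ((c : G) * x * (c : G)⁻¹) * x⁻¹ * ((c : G) * x * (c : G)⁻¹)⁻¹) by group]
    exact mul_mem (hcomm _ hc2 _ hx) (hcomm _ hx _ hxc)
  let D : Data G :=
    { z := z, hz := hoz, Q := Q, Q_le := hC ▸ hQC, z_mem := hZleQ hzZ, Q_card := by rw [hQcard]; norm_num,
      Q_exp := hQexp
      Q_center := fun x hx h => by
        rw [hzp, hZeq]
        exact ⟨⟨x, hx⟩, Subgroup.mem_center_iff.2 fun y => Subtype.ext (h y y.2).symm, rfl⟩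
      Q_comm := hcomm, π := π, surj := hπs, ker := hπk, inv := hdata }
  obtain ⟨x, hxle, hxne⟩ := hZQ
  have hlink : Linked D (D.conj x) := by
    refine ⟨hxle ⟨z, hzZ, rfl⟩, fun h => hxne ?_⟩
    rw [Data.conj_z] at h
    refine eq_of_le_of_card_ge ?_ (by rw [Subgroup.card_map_of_injective (MulAut.conj x).injective])
    rw [← hzp, MonoidHom.map_zpowers]
    exact zpowers_le.2 h
  obtain ⟨F, -, -⟩ := exists_fr hlink ⟨x, Or.inl (D.conj_z x).symm⟩
  exact ⟨F⟩

end Cfsg.Lib.LFourThree
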